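import Cfsg.Agent.Lib.ThRep.ModThree
import Mathlib.Data.Matrix.Basis

/-!
# Row operations modulo three on balanced trees of packed rows

The product of `1 + N` with a matrix, `N` given by triples (row, column, value), changes few rows;
the rows are kept in a balanced binary tree so that each change costs the depth of the tree.
-/

set_option autoImplicit false

namespace CfsgLib.ThE8

open Matrix CfsgLib.ThRep.ModThree

/-- A binary tree of natural numbers; the low bit of the index chooses the branch. -/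
inductive Tr where
  | leaf (a : ℕ)
  | node (l r : Tr)

/-- The value at an index. -/
def Tr.get : Tr → ℕ → ℕ
  | .leaf a, _ => a
  | .node l r, i => if Nat.beq (i % 2) 0 then l.get (i / 2) else r.get (i / 2)

/-- Change the value at an index. -/
def Tr.modify : Tr → ℕ → (ℕ → ℕ) → Tr
  | .leaf a, _, f => .leaf (f a)
  | .node l r, i, f =>
    if Nat.beq (i % 2) 0 then .node (l.modify (i / 2) f) r else .node l (r.modify (i / 2) f)

/-- The tree has the given depth. -/
def Tr.Full : Tr → ℕ → Prop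
  | .leaf _, d => d = 0
  | .node l r, d => ∃ e, d = e + 1 ∧ l.Full e ∧ r.Full e

/-- The tree of a function. -/
def Tr.build : ℕ → (ℕ → ℕ) → Tr
  | 0, f => .leaf (f 0)
  | d + 1, f => .node (Tr.build d fun i => f (2 * i)) (Tr.build d fun i => f (2 * i + 1))

theorem Tr.full_build : ∀ (d : ℕ) (f : ℕ → ℕ), (Tr.build d f).Full d
  | 0, _ => rfl
  | d + 1, _ => ⟨d, rfl, Tr.full_build d _, Tr.full_build d _⟩

theorem Tr.get_build : ∀ (d : ℕ) (f : ℕ → ℕ) (i : ℕ), i < 2 ^ d → (Tr.build d f).get i = f i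
  | 0, f, i, h => by
    rw [pow_zero, Nat.lt_one_iff] at h
    subst h
    rfl
  | d + 1, f, i, h => by
    have h2 : i / 2 < 2 ^ d := by rw [pow_succ] at h; omega
    rcases Nat.mod_two_eq_zero_or_one i with e | e
    · simp only [Tr.build, Tr.get, e, show Nat.beq 0 0 = true from rfl, if_true,
        Tr.get_build d _ _ h2]
      congr 1; omega
    · simp only [Tr.build, Tr.get, e, show Nat.beq 1 0 = false from rfl, Bool.false_eq_true,
        if_false, Tr.get_build d _ _ h2]
      congr 1; omega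

theorem Tr.full_modify : ∀ (t : Tr) (d i : ℕ) (f : ℕ → ℕ), t.Full d → (t.modify i f).Full d
  | .leaf _, _, _, _, h => h
  | .node l r, d, i, f, ⟨e, hd, hl, hr⟩ => by
    simp only [Tr.modify]
    split_ifs
    · exact ⟨e, hd, Tr.full_modify l e _ f hl, hr⟩
    · exact ⟨e, hd, hl, Tr.full_modify r e _ f hr⟩

theorem Tr.get_modify : ∀ (t : Tr) (d i k : ℕ) (f : ℕ → ℕ), t.Full d → i < 2 ^ d → k < 2 ^ d →
    (t.modify i f).get k = if k = i then f (t.get i) else t.get k
  | .leaf a, d, i, k, f, h, hi, hk => by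
    rw [show d = 0 from h, pow_zero, Nat.lt_one_iff] at hi hk
    subst hi; subst hk
    rfl
  | .node l r, d, i, k, f, ⟨e, hd, hl, hr⟩, hi, hk => by
    subst hd
    have hi' : i / 2 < 2 ^ e := by rw [pow_succ] at hi; omega
    have hk' : k / 2 < 2 ^ e := by rw [pow_succ] at hk; omega
    have b0 : Nat.beq 0 0 = true := rfl
    have b1 : Nat.beq 1 0 = false := rfl
    rcases Nat.mod_two_eq_zero_or_one i with a | a <;>
      rcases Nat.mod_two_eq_zero_or_one k with b | b <;>
      simp only [Tr.modify, Tr.get, a, b, b0, b1, Bool.false_eq_true, if_true, if_false]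
    · rw [Tr.get_modify l e _ _ f hl hi' hk']
      exact if_congr (by omega) rfl rfl
    · rw [if_neg (show k ≠ i by omega)]
    · rw [if_neg (show k ≠ i by omega)]
    · rw [Tr.get_modify r e _ _ f hr hi' hk']
      exact if_congr (by omega) rfl rfl

/-- The first values as a list. -/
def Tr.toList (t : Tr) (n : ℕ) : List ℕ := (List.range n).map t.get

variable {n : ℕ}

/-- The entries of a row as numbers below three. -/
def rowVals (M : Matrix (Fin n) (Fin n) (ZMod 3)) (i : Fin n) : List ℕ :=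
  List.ofFn fun j => (M i j).val

/-- The rows of a matrix as lists. -/
def matRows (M : Matrix (Fin n) (Fin n) (ZMod 3)) : List (List ℕ) :=
  List.ofFn fun i => rowVals M i

theorem rowVals_lt (M : Matrix (Fin n) (Fin n) (ZMod 3)) (i : Fin n) :
    ∀ a ∈ rowVals M i, a < 3 := by
  intro a ha
  rw [rowVals, List.mem_ofFn] at ha
  obtain ⟨j, rfl⟩ := ha
  exact ZMod.val_lt _

/-- The tree holds the packed rows of the matrix. -/
def Rep (d : ℕ) (t : Tr) (M : Matrix (Fin n) (Fin n) (ZMod 3)) : Prop :=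
  t.Full d ∧ ∀ i : Fin n, t.get i.val = pk (rowVals M i)

theorem Rep.toList_eq {d : ℕ} {t : Tr} {M : Matrix (Fin n) (Fin n) (ZMod 3)} (h : Rep d t M) :
    t.toList n = (matRows M).map pk := by
  refine List.ext_getElem (by simp [Tr.toList, matRows]) fun i h1 h2 => ?_
  have hi : i < n := by simpa [Tr.toList] using h1
  simpa [Tr.toList, matRows] using h.2 ⟨i, hi⟩

theorem good_matRows (M : Matrix (Fin n) (Fin n) (ZMod 3)) : Good n (matRows M) := by
  intro y hy
  rw [matRows, List.mem_ofFn] at hy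
  obtain ⟨i, rfl⟩ := hy
  exact ⟨by simp [rowVals], rowVals_lt M i⟩

theorem toMat_matRows (M : Matrix (Fin n) (Fin n) (ZMod 3)) : toMat n (matRows M) = M := by
  ext i j
  simp [toMat, matRows, rowVals, List.getD_eq_getElem?_getD, List.getElem?_ofFn]

/-- The matrix of a list of triples. -/
def sumMat (n : ℕ) (L : List (ℕ × ℕ × ℕ)) : Matrix (Fin n) (Fin n) (ZMod 3) :=
  Matrix.of fun i j =>
    (L.map fun x => if x.1 = i.val ∧ x.2.1 = j.val then (x.2.2 : ZMod 3) else 0).sum

theorem sumMat_cons (x : ℕ × ℕ × ℕ) (L : List (ℕ × ℕ × ℕ)) (hi : x.1 < n) (hj : x.2.1 < n) :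
    sumMat n (x :: L) =
      Matrix.single (⟨x.1, hi⟩ : Fin n) (⟨x.2.1, hj⟩ : Fin n) (x.2.2 : ZMod 3) + sumMat n L := by
  ext i j
  simp [sumMat, Matrix.single_apply, Fin.ext_iff, eq_comm]

/-- One change of a row. -/
def bump (M : ℕ) (Y : Tr) (x : ℕ × ℕ × ℕ) (acc : Tr) : Tr :=
  acc.modify x.1 fun a =>
    (a + x.2.2 * Y.get x.2.1) - 3 * ((((a + x.2.2 * Y.get x.2.1) * 683) >>> 11) &&& M)

/-- All changes of one factor. -/
def stepT (M : ℕ) (L : List (ℕ × ℕ × ℕ)) (Y : Tr) : Tr := L.foldl (fun acc x => bump M Y x acc) Y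

/-- Indices in range and small values. -/
def okTr (n : ℕ) (L : List (ℕ × ℕ × ℕ)) : Bool :=
  L.all fun x => Nat.blt x.1 n && Nat.blt x.2.1 n && Nat.blt x.2.2 3

theorem bump_spec {d : ℕ} (hd : n ≤ 2 ^ d) {Y acc : Tr} {B A : Matrix (Fin n) (Fin n) (ZMod 3)}
    (hY : Rep d Y B) (hA : Rep d acc A) (x : ℕ × ℕ × ℕ) (hi : x.1 < n) (hj : x.2.1 < n)
    (hv : x.2.2 < 3) :
    Rep d (bump (mask n) Y x acc)
      (A + Matrix.single (⟨x.1, hi⟩ : Fin n) (⟨x.2.1, hj⟩ : Fin n) (x.2.2 : ZMod 3) * B) := by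
  refine ⟨Tr.full_modify _ _ _ _ hA.1, fun k => ?_⟩
  rw [bump, Tr.get_modify _ d _ _ _ hA.1 (hi.trans_le hd) (k.isLt.trans_le hd)]
  by_cases hk : k.val = x.1
  · obtain rfl : k = ⟨x.1, hi⟩ := Fin.ext hk
    rw [if_pos rfl, show acc.get x.1 = _ from hA.2 ⟨x.1, hi⟩,
      show Y.get x.2.1 = _ from hY.2 ⟨x.2.1, hj⟩, ← pk_smul, ← pk_addL _ _ (by simp [rowVals])]
    show red n (pk _) = _
    have he : (rowVals A ⟨x.1, hi⟩).length = ((rowVals B ⟨x.2.1, hj⟩).map (x.2.2 * ·)).length := by
      simp [rowVals]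
    rw [red_spec _ (by rw [length_addL _ _ he]; simp [rowVals])]
    · congr 1
      refine List.ext_getElem (by rw [List.length_map, length_addL _ _ he]; simp [rowVals])
        fun j h1 h2 => ?_
      have hjn : j < n := by simpa [rowVals] using h2
      have hl : j < (addL (rowVals A ⟨x.1, hi⟩) ((rowVals B ⟨x.2.1, hj⟩).map (x.2.2 * ·))).length := by
        simpa using h1
      rw [List.getElem_map, ← List.getD_eq_getElem _ 0 hl, getD_addL _ _ he]
      have hr : ((A + Matrix.single (⟨x.1, hi⟩ : Fin n) (⟨x.2.1, hj⟩ : Fin n) (x.2.2 : ZMod 3) * B)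
          ⟨x.1, hi⟩ ⟨j, hjn⟩) =
          ((A ⟨x.1, hi⟩ ⟨j, hjn⟩).val + x.2.2 * (B ⟨x.2.1, hj⟩ ⟨j, hjn⟩).val : ℕ) := by
        simp [Matrix.single_mul_apply_same]
      simp only [rowVals, List.getElem_ofFn, hr, ZMod.val_natCast]
      simp [List.getD_eq_getElem?_getD, List.getElem?_ofFn, hjn]
    · intro a ha
      obtain ⟨j, hj', rfl⟩ := List.getElem_of_mem ha
      rw [← List.getD_eq_getElem _ 0 hj', getD_addL _ _ he]
      have h1 : ∀ (l : List ℕ), (∀ b ∈ l, b < 3) → l.getD j 0 < 3 := fun l hl => by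
        by_cases h : j < l.length
        · rw [List.getD_eq_getElem _ 0 h]; exact hl _ (List.getElem_mem h)
        · rw [List.getD_eq_default _ _ (by omega)]; norm_num
      have h2 : ((rowVals B ⟨x.2.1, hj⟩).map (x.2.2 * ·)).getD j 0 ≤ 4 := by
        by_cases h : j < (rowVals B ⟨x.2.1, hj⟩).length
        · rw [List.getD_eq_getElem _ 0 (by simpa using h), List.getElem_map]
          have := rowVals_lt B ⟨x.2.1, hj⟩ _ (List.getElem_mem h)
          exact Nat.mul_le_mul (Nat.le_of_lt_succ hv) (Nat.le_of_lt_succ this)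
        · rw [List.getD_eq_default _ _ (by simpa using h)]; norm_num
      have := h1 _ (rowVals_lt A ⟨x.1, hi⟩)
      omega
  · rw [if_neg hk, hA.2 k]
    congr 1
    refine List.ext_getElem (by simp [rowVals]) fun j h1 h2 => ?_
    have hne : (⟨x.1, hi⟩ : Fin n) ≠ k := fun h => hk (congrArg Fin.val h).symm
    simp [rowVals, Matrix.mul_apply, Matrix.single_apply, hne]

/-- A factor applied to the tree. -/
theorem stepT_spec {d : ℕ} (hd : n ≤ 2 ^ d) {Y : Tr} {B : Matrix (Fin n) (Fin n) (ZMod 3)}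
    (hY : Rep d Y B) {L : List (ℕ × ℕ × ℕ)} (hL : okTr n L = true) :
    Rep d (stepT (mask n) L Y) ((1 + sumMat n L) * B) := by
  have h : ∀ (L : List (ℕ × ℕ × ℕ)), okTr n L = true → ∀ (acc : Tr) (A : Matrix (Fin n) (Fin n) (ZMod 3)),
      Rep d acc A → Rep d (L.foldl (fun acc x => bump (mask n) Y x acc) acc) (A + sumMat n L * B) := by
    intro L
    induction L with
    | nil =>
      intro _ acc A hA
      have : sumMat n [] = 0 := by ext i j; simp [sumMat]
      simpa [this] using hA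
    | cons x L ih =>
      intro hx acc A hA
      simp only [okTr, List.all_cons, Bool.and_eq_true, Nat.blt_eq] at hx
      obtain ⟨⟨⟨h1, h2⟩, h3⟩, h4⟩ := hx
      have := ih (by simpa [okTr, Nat.blt_eq] using h4) _ _ (bump_spec hd hY hA x h1 h2 h3)
      rw [sumMat_cons x L h1 h2, add_mul, ← add_assoc]
      exact this
  rw [add_mul, one_mul]
  exact h L hL Y B hY

end CfsgLib.ThE8
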