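import Cfsg.Prelude.Def_Chevalley
import Cfsg.Agent.Lib.ThE8.Tree

/-!
# Root elements as sums of triples

The matrix of a root element of a Chevalley datum over the field with three elements is one plus the
matrix of a short list of triples read off the tables.
-/

set_option autoImplicit false

namespace CfsgLib.ThE8

open Matrix Cfsg.Lie

/-- The residue of an integer. -/
def res3 (z : ℤ) : ℕ := (z % 3).toNat

theorem cast_res3 (z : ℤ) : ((res3 z : ℕ) : ZMod 3) = (z : ZMod 3) := by
  have h : ((res3 z : ℕ) : ℤ) = z % 3 := Int.toNat_of_nonneg (Int.emod_nonneg _ (by norm_num))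
  rw [show ((res3 z : ℕ) : ZMod 3) = (((res3 z : ℕ) : ℤ) : ZMod 3) from (Int.cast_natCast _).symm, h]
  exact ZMod.intCast_mod z 3

theorem res3_lt (z : ℤ) : res3 z < 3 := by
  unfold res3
  omega

variable (D : ChevalleyDatum)

/-- The triples of one entry of the chain table. -/
def chainTr (r t : ℕ) (e : ℕ × Array (ℕ × ℤ)) : List (ℕ × ℕ × ℕ) :=
  if Nat.beq e.1 r || Nat.beq e.1 (D.negIdx.getD r 0) then []
  else e.2.toList.zipIdx.map fun q => (D.rank + q.1.1, D.rank + e.1, res3 (q.1.2 * (t : ℤ) ^ (q.2 + 1)))

/-- The triples from the chain table. -/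
def tripC (r t : ℕ) : List (ℕ × ℕ × ℕ) := (D.chain.getD r #[]).toList.flatMap (chainTr D r t)

/-- The triples in the Cartan columns. -/
def tripA (r t : ℕ) : List (ℕ × ℕ × ℕ) :=
  (List.range D.rank).map fun i => (D.rank + r, i, res3 (-((D.cartanSR.getD i #[]).getD r 0) * t))

/-- The triples in the column of the opposite root. -/
def tripN (r t : ℕ) : List (ℕ × ℕ × ℕ) :=
  (D.rank + r, D.rank + D.negIdx.getD r 0, res3 (-((t : ℤ) ^ 2))) ::
    (List.range D.rank).map fun i =>
      (i, D.rank + D.negIdx.getD r 0, res3 ((D.coroot.getD r #[]).getD i 0 * t))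

/-- All triples of a root element. -/
def trip (r t : ℕ) : List (ℕ × ℕ × ℕ) := tripA D r t ++ (tripN D r t ++ tripC D r t)

/-- The contribution of a triple to an entry. -/
def val3 (a b : ℕ) (x : ℕ × ℕ × ℕ) : ZMod 3 := if x.1 = a ∧ x.2.1 = b then (x.2.2 : ZMod 3) else 0

theorem sum_map_zero {α : Type*} {f : α → ZMod 3} :
    ∀ {L : List α}, (∀ x ∈ L, f x = 0) → (L.map f).sum = 0
  | [], _ => rfl
  | x :: L, h => by
    rw [List.map_cons, List.sum_cons, h x (List.mem_cons_self ..), zero_add,
      sum_map_zero fun y hy => h y (List.mem_cons_of_mem _ hy)]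

theorem sum_range_single (g : ℕ → ZMod 3) : ∀ (n i : ℕ), i < n →
    ((List.range n).map fun k => if k = i then g k else 0).sum = g i
  | 0, _, h => absurd h (Nat.not_lt_zero _)
  | n + 1, i, h => by
    rw [List.range_succ, List.map_append, List.sum_append, List.map_singleton, List.sum_singleton]
    rcases Nat.lt_succ_iff_lt_or_eq.1 h with h' | h'
    · rw [sum_range_single g n i h', if_neg (by omega), add_zero]
    · subst h'
      rw [sum_map_zero (fun k hk => if_neg (by simp at hk; omega)), zero_add, if_pos rfl]

theorem tripA_sum (r t a b : ℕ) :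
    ((tripA D r t).map (val3 a b)).sum =
      if a = D.rank + r ∧ b < D.rank then
        -(((D.cartanSR.getD b #[]).getD r 0 : ℤ) : ZMod 3) * (t : ZMod 3) else 0 := by
  rw [tripA, List.map_map]
  split_ifs with h
  · obtain ⟨rfl, hb⟩ := h
    rw [← sum_range_single (fun k => -(((D.cartanSR.getD k #[]).getD r 0 : ℤ) : ZMod 3) * (t : ZMod 3))
      D.rank b hb]
    refine congrArg List.sum (List.map_congr_left fun k _ => ?_)
    simp [val3, cast_res3]
  · refine sum_map_zero fun k hk => ?_
    simp only [Function.comp, val3]
    rw [if_neg]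
    rintro ⟨h1, h2⟩
    simp at hk
    exact h ⟨h1.symm, by omega⟩

theorem tripN_sum (r t a b : ℕ) :
    ((tripN D r t).map (val3 a b)).sum =
      if b = D.rank + D.negIdx.getD r 0 then
        (if a = D.rank + r then -((t : ZMod 3) ^ 2)
        else if a < D.rank then (((D.coroot.getD r #[]).getD a 0 : ℤ) : ZMod 3) * (t : ZMod 3) else 0)
      else 0 := by
  rw [tripN, List.map_cons, List.sum_cons, List.map_map]
  by_cases hb : b = D.rank + D.negIdx.getD r 0
  · subst hb
    rw [if_pos rfl]
    by_cases ha : a = D.rank + r
    · subst ha
      rw [if_pos rfl, sum_map_zero, add_zero]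
      · simp [val3, cast_res3]
      · intro k hk
        simp only [Function.comp, val3]
        rw [if_neg]
        rintro ⟨h1, -⟩
        simp at hk
        omega
    · rw [if_neg ha]
      simp only [val3]
      rw [if_neg (by tauto), zero_add]
      split_ifs with hl
      · rw [← sum_range_single (fun k => (((D.coroot.getD r #[]).getD k 0 : ℤ) : ZMod 3) * (t : ZMod 3))
          D.rank a hl]
        refine congrArg List.sum (List.map_congr_left fun k _ => ?_)
        simp [val3, cast_res3]
      · refine sum_map_zero fun k hk => ?_
        simp only [Function.comp, val3]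
        rw [if_neg]
        rintro ⟨h1, -⟩
        simp at hk
        omega
  · rw [if_neg hb, sum_map_zero, add_zero]
    · simp only [val3]
      rw [if_neg (by tauto)]
    · intro k _
      simp only [Function.comp, val3]
      rw [if_neg]
      rintro ⟨-, h2⟩
      exact hb h2.symm

theorem sum_flatMap' {α β : Type*} (F : β → ZMod 3) (G : α → List β) :
    ∀ L : List α, ((L.flatMap G).map F).sum = (L.map fun e => ((G e).map F).sum).sum
  | [] => rfl
  | e :: L => by
    rw [List.flatMap_cons, List.map_append, List.sum_append, List.map_cons, List.sum_cons,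
      sum_flatMap' F G L]

theorem tripC_sum (r t a b : ℕ) :
    ((tripC D r t).map (val3 a b)).sum =
      if D.rank ≤ a ∧ D.rank ≤ b ∧ b ≠ D.rank + r ∧ b ≠ D.rank + D.negIdx.getD r 0 then
        ((D.chainCoeff r (b - D.rank) (a - D.rank)).map fun km =>
          ((km.2 : ℤ) : ZMod 3) * (t : ZMod 3) ^ km.1).sum else 0 := by
  rw [tripC, sum_flatMap', ChevalleyDatum.chainCoeff, sum_flatMap']
  induction (D.chain.getD r #[]).toList with
  | nil => simp
  | cons e L ih =>
    rw [List.map_cons, List.sum_cons, ih, List.filter_cons]
    by_cases h : D.rank ≤ a ∧ D.rank ≤ b ∧ b ≠ D.rank + r ∧ b ≠ D.rank + D.negIdx.getD r 0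
    · rw [if_pos h, if_pos h]
      obtain ⟨ha, hb, hbr, hbn⟩ := h
      by_cases he : e.1 = b - D.rank
      · rw [if_pos (by simpa using he), List.map_cons, List.sum_cons]
        congr 1
        rw [chainTr, if_neg (by simp only [Bool.or_eq_true, Nat.beq_eq, not_or]; omega), List.map_map, List.map_map]
        induction e.2.toList.zipIdx with
        | nil => simp
        | cons q Q iq =>
          rw [List.map_cons, List.sum_cons, iq, List.filter_cons]
          by_cases hq : q.1.1 = a - D.rank
          · rw [if_pos (by simpa using hq), List.map_cons, List.sum_cons]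
            congr 1
            simp [Function.comp, val3, cast_res3, hq, he, Nat.add_sub_cancel' ha,
              Nat.add_sub_cancel' hb]
          · rw [if_neg (by simpa using hq)]
            simp only [Function.comp, val3]
            rw [if_neg (by omega), zero_add]
      · rw [if_neg (by simpa using he), sum_map_zero, zero_add]
        intro x hx
        rw [chainTr] at hx
        split_ifs at hx
        · simp at hx
        · rw [List.mem_map] at hx
          obtain ⟨q, -, rfl⟩ := hx
          simp only [val3]
          rw [if_neg (by omega)]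
    · rw [if_neg h, if_neg h, sum_map_zero, zero_add]
      intro x hx
      rw [chainTr] at hx
      split_ifs at hx with h1
      · simp at hx
      · rw [List.mem_map] at hx
        obtain ⟨q, -, rfl⟩ := hx
        simp only [Bool.or_eq_true, Nat.beq_eq, not_or] at h1
        simp only [val3]
        rw [if_neg]
        rintro ⟨h2, h3⟩
        exact h ⟨by omega, by omega, by omega, by omega⟩

/-- The position of a coordinate. -/
def idxVal : D.Idx → ℕ
  | .inl i => i.val
  | .inr u => D.rank + u.val

/-- The entries of a root element. -/
theorem xMat_entry (r : Fin D.nroots) (t : ℕ) (hn : D.negIdx.getD r.val 0 ≠ r.val) (row col : D.Idx) :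
    D.xMat (ZMod 3) r (t : ZMod 3) row col =
      (if row = col then 1 else 0) + ((trip D r.val t).map (val3 (idxVal D row) (idxVal D col))).sum := by
  rcases row with i | u <;> rcases col with j | s <;> simp only [idxVal] <;>
    simp only [trip, List.map_append, List.sum_append, tripA_sum, tripN_sum, tripC_sum,
      ChevalleyDatum.xMat, Matrix.of_apply, Sum.inl.injEq, Sum.inr.injEq, reduceCtorEq, if_false]
  · have := i.isLt; have := j.isLt
    rw [if_neg (c := i.val = D.rank + r.val ∧ _) (by omega),
      if_neg (c := j.val = D.rank + _) (by omega),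
      if_neg (c := D.rank ≤ i.val ∧ _) (by omega)]
    simp
  · have := i.isLt
    rw [if_neg (c := i.val = D.rank + r.val ∧ _) (by omega),
      if_neg (c := D.rank ≤ i.val ∧ _) (by omega)]
    by_cases hs : s = r
    · subst hs
      rw [if_pos rfl, if_neg (by omega)]
      simp
    · rw [if_neg hs]
      by_cases hsn : s.val = D.negIdx.getD r.val 0
      · rw [if_pos hsn, if_pos (by omega), if_neg (by omega), if_pos i.isLt]
        simp
      · rw [if_neg hsn, if_neg (by omega)]
        simp
  · have := j.isLt
    rw [if_neg (c := j.val = D.rank + _) (by omega),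
      if_neg (c := D.rank ≤ D.rank + u.val ∧ _) (by omega)]
    by_cases hu : u = r
    · subst hu
      rw [if_pos rfl, if_pos ⟨rfl, j.isLt⟩]
      simp
    · rw [if_neg hu, if_neg]
      · simp
      · rintro ⟨h1, -⟩; exact hu (Fin.ext (by omega))
  · rw [if_neg (c := D.rank + u.val = D.rank + r.val ∧ _) (by omega)]
    by_cases hs : s = r
    · subst hs
      rw [if_pos rfl, if_neg (c := D.rank + s.val = D.rank + _) (by omega),
        if_neg (c := D.rank ≤ _ ∧ _) (by omega)]
      simp
    · have hsr : s.val ≠ r.val := fun h => hs (Fin.ext h)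
      rw [if_neg hs]
      by_cases hsn : s.val = D.negIdx.getD r.val 0
      · rw [if_pos hsn, if_pos (c := D.rank + s.val = D.rank + _) (by omega),
          if_neg (c := D.rank ≤ _ ∧ _) (by omega)]
        by_cases hu : u = s
        · subst hu
          rw [if_pos rfl, if_pos rfl, if_neg (by omega), if_neg (by omega)]
          simp
        · rw [if_neg hu, if_neg hu]
          by_cases hur : u = r
          · subst hur
            simp
          · have : u.val ≠ r.val := fun h => hur (Fin.ext h)
            rw [if_neg hur, if_neg (by omega), if_neg (by omega)]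
            simp
      · rw [if_neg hsn, if_neg (c := D.rank + s.val = D.rank + _) (by omega),
          if_pos (c := D.rank ≤ D.rank + u.val ∧ _) ⟨by omega, by omega, by omega, by omega⟩]
        simp only [Nat.add_sub_cancel_left, zero_add]

end CfsgLib.ThE8
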