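import Cfsg.Prelude.Def_ChevE8
import Cfsg.Agent.Lib.Chev.Mono
import Cfsg.Agent.Lib.Chev.Data.E8
import Cfsg.Agent.Lib.ThE8.Root

/-!
# Checked membership of matrices in the adjoint group of type E8 over three elements

The value of a word in root elements is computed on a tree of packed rows.
-/

set_option autoImplicit false
set_option maxRecDepth 20000

namespace CfsgLib.ThE8

open Matrix Cfsg.Lie CfsgLib.ThRep.ModThree

/-- The coordinates of the adjoint module as numbers below 248. -/
def toIdx : chevE8.Idx ≃ Fin 248 :=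
  finSumFinEquiv.trans (finCongr (by decide))

theorem toIdx_val (x : chevE8.Idx) : (toIdx x).val = idxVal chevE8 x := by
  rcases x with i | u <;> simp [toIdx, idxVal, finSumFinEquiv]

/-- Matrices over coordinates of the adjoint module as matrices of size 248. -/
def toBig : Matrix chevE8.Idx chevE8.Idx (ZMod 3) ≃ₐ[ZMod 3] Matrix (Fin 248) (Fin 248) (ZMod 3) :=
  Matrix.reindexAlgEquiv (ZMod 3) (ZMod 3) toIdx

/-- The triples of a letter. -/
def letTr (p : ℕ × ℕ) : List (ℕ × ℕ × ℕ) := trip chevE8 p.1 p.2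

/-- A letter is a root with distinct opposite and triples in range. -/
def okLet (p : ℕ × ℕ) : Bool :=
  Nat.blt p.1 chevE8.nroots && !(Nat.beq (chevE8.negIdx.getD p.1 0) p.1) && okTr 248 (letTr p)

/-- The root element of a letter. -/
noncomputable def letU (p : ℕ × ℕ) : GL chevE8.Idx (ZMod 3) := CfsgLib.Chev.xU chevE8 p.1 (p.2 : ZMod 3)

theorem letU_val {p : ℕ × ℕ} (hp : p.1 < chevE8.nroots) :
    ((letU p : GL chevE8.Idx (ZMod 3)) : Matrix chevE8.Idx chevE8.Idx (ZMod 3)) =
      chevE8.xMat (ZMod 3) ⟨p.1, hp⟩ (p.2 : ZMod 3) := by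
  rw [letU, CfsgLib.Chev.DataE8.facts.xU_val hp, ChevalleyDatum.x, dif_pos hp]

theorem letU_mem {p : ℕ × ℕ} (hp : p.1 < chevE8.nroots) : letU p ∈ chevE8.group (ZMod 3) :=
  Subgroup.subset_closure ⟨⟨p.1, hp⟩, (p.2 : ZMod 3), letU_val hp⟩

theorem toBig_letU {p : ℕ × ℕ} (h : okLet p = true) :
    toBig ((letU p : GL chevE8.Idx (ZMod 3)) : Matrix chevE8.Idx chevE8.Idx (ZMod 3)) =
      1 + sumMat 248 (letTr p) := by
  simp only [okLet, Bool.and_eq_true, Nat.blt_eq, Bool.not_eq_true'] at h
  obtain ⟨⟨hp, hn⟩, -⟩ := h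
  rw [letU_val hp]
  ext i j
  have hn' : chevE8.negIdx.getD p.1 0 ≠ p.1 := fun e => by
    rw [e, Nat.beq_refl] at hn
    exact absurd hn (by decide)
  simp only [toBig, Matrix.reindexAlgEquiv_apply, Matrix.reindex_apply, Matrix.submatrix_apply,
    Matrix.add_apply]
  rw [xMat_entry chevE8 ⟨p.1, hp⟩ p.2 hn', ← toIdx_val, ← toIdx_val, Equiv.apply_symm_apply,
    Equiv.apply_symm_apply, Matrix.one_apply]
  simp only [EmbeddingLike.apply_eq_iff_eq]
  rfl

/-- The tree of the identity. -/
def idT : Tr := Tr.build 8 fun i => if Nat.blt i 248 then slotB ^ i else 0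

/-- The packed value of a word of letters. -/
def evalT (M : ℕ) (w : List (ℕ × ℕ)) : Tr := w.foldr (fun p Y => stepT M (letTr p) Y) idT

/-- The value of a word of letters. -/
noncomputable def wordGL (w : List (ℕ × ℕ)) : GL chevE8.Idx (ZMod 3) := (w.map letU).prod

theorem wordGL_mem {w : List (ℕ × ℕ)} (h : (w.all okLet) = true) : wordGL w ∈ chevE8.group (ZMod 3) := by
  refine Subgroup.list_prod_mem _ fun g hg => ?_
  obtain ⟨p, hp, rfl⟩ := List.mem_map.1 hg
  have := List.all_eq_true.1 h p hp
  simp only [okLet, Bool.and_eq_true, Nat.blt_eq] at this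
  exact letU_mem this.1.1

theorem get_idT (i : Fin 248) : idT.get i.val = slotB ^ i.val := by
  rw [idT, Tr.get_build 8 _ _ (lt_of_lt_of_le i.isLt (by decide)), if_pos]
  rw [Nat.blt_eq]
  exact i.isLt

theorem full_idT : idT.Full 8 := Tr.full_build 8 _

attribute [local irreducible] idT

theorem id_row {n : ℕ} (hid : idP n = (idL n).map pk) (i : Fin n) :
    slotB ^ i.val = pk (rowVals (1 : Matrix (Fin n) (Fin n) (ZMod 3)) i) := by
  have := congrArg (fun l : List ℕ => l.getD i.val 0) hid
  simp [idP, idL, List.getD_eq_getElem?_getD] at this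
  rw [this]
  congr 1
  refine List.ext_getElem (by simp [rowVals]) fun j h1 h2 => ?_
  simp [rowVals, Matrix.one_apply, Fin.ext_iff]
  split_ifs <;> rfl

theorem evalT_spec {m : ℕ} (hm : m = mask 248) (hid : idP 248 = (idL 248).map pk) : ∀ w : List (ℕ × ℕ), (w.all okLet) = true →
    Rep 8 (evalT m w)
      (toBig ((wordGL w : GL chevE8.Idx (ZMod 3)) : Matrix chevE8.Idx chevE8.Idx (ZMod 3))) := by
  intro w
  induction w with
  | nil =>
    intro _
    rw [wordGL, List.map_nil, List.prod_nil, Units.val_one, map_one]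
    simp only [evalT, List.foldr_nil]
    exact ⟨full_idT, fun i => (get_idT i).trans (id_row hid i)⟩
  | cons p w ih =>
    intro h
    simp only [List.all_cons, Bool.and_eq_true] at h
    obtain ⟨hp, hw⟩ := h
    rw [wordGL, List.map_cons, List.prod_cons, Units.val_mul, map_mul, toBig_letU hp]
    have hok : okTr 248 (letTr p) = true := by
      simp only [okLet, Bool.and_eq_true] at hp
      exact hp.2
    have h2 : evalT m (p :: w) = stepT m (letTr p) (evalT m w) := List.foldr_cons ..
    rw [h2]
    have ih' := ih hw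
    rw [wordGL] at ih'
    have := stepT_spec (n := 248) (d := 8) (by norm_num) ih' hok
    rw [← hm] at this
    exact this

theorem eq_of_pk {A B : List (List ℕ)} (hA : Good 248 A) (hB : Good 248 B)
    (h : A.map pk = B.map pk) : A = B := by
  have hl : A.length = B.length := by simpa using congrArg List.length h
  refine List.ext_getElem hl fun i h1 h2 => ?_
  have hi : pk A[i] = pk B[i] := by
    have := congrArg (fun l : List ℕ => l.getD i 0) h
    simpa [List.getD_eq_getElem?_getD, h1, h2] using this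
  obtain ⟨l1, b1⟩ := hA _ (List.getElem_mem h1)
  obtain ⟨l2, b2⟩ := hB _ (List.getElem_mem h2)
  exact pk_inj (l1.trans l2.symm) b1 b2 hi

/-- A checked factorisation of a matrix after a change of coordinates. -/
theorem word_eq {G : List (List (List (ℕ × ℕ)))} (hid : idP 248 = (idL 248).map pk) {g p : ℕ}
    (hg : okGen 248 (G.getD g []) = true) (hp : okGen 248 (G.getD p []) = true) {w : List (ℕ × ℕ)}
    (hw : (w.all okLet) = true)
    (h : beqL (evalP 248 G [g, p]) (mulP 248 (G.getD p []) ((evalT (mask 248) w).toList 248)) = true) :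
    genMat 248 (G.getD g []) * genMat 248 (G.getD p []) = genMat 248 (G.getD p []) *
      toBig ((wordGL w : GL chevE8.Idx (ZMod 3)) : Matrix chevE8.Idx chevE8.Idx (ZMod 3)) := by
  obtain ⟨e1, e2, e3, e4⟩ := eval_spec G hid [g, p] (fun x hx => by
    rcases List.mem_cons.1 hx with rfl | hx
    · exact hg
    · rw [List.mem_singleton.1 hx]; exact hp)
  have hR := evalT_spec rfl hid w hw
  obtain ⟨m1, m2, m3⟩ := mul_spec hp (good_matRows
    (toBig ((wordGL w : GL chevE8.Idx (ZMod 3)) : Matrix chevE8.Idx chevE8.Idx (ZMod 3))))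
  have he := eq_of_beqL h
  rw [e1, hR.toList_eq, m1] at he
  rw [eq_of_pk e2 m2 he, toMat_mul hp (good_matRows _) (by simp [matRows]), toMat_matRows] at e4
  rw [e4]
  simp

end CfsgLib.ThE8
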