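import Cfsg.Agent.Lib.ThE8.Gens

/-!
# A generator of the Thompson group as a product of root elements (generated)
-/

set_option autoImplicit false
set_option maxRecDepth 100000
set_option maxHeartbeats 0

namespace CfsgLib.ThE8

open CfsgLib.ThRep CfsgLib.ThRep.ModThree

/-- The word in root elements. -/
def wordA : List (ℕ × ℕ) :=
  [(162,2),(77,1),(162,2),(162,2),(77,1),(162,2),(130,2),(109,1),(130,2),(130,2),(109,1),(130,2)]

theorem wordA_ok : (wordA.all okLet) = true := by
  decide +kernel

theorem wordA_eq : beqL (evalP 248 allGens [0, 16])
    (mulP 248 (allGens.getD 16 []) ((evalT (mask 248) wordA).toList 248)) = true := by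
  decide +kernel

end CfsgLib.ThE8
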