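import Cfsg.Agent.Lib.ThE8.ChkA

/-!
# A generator of the Thompson group as a product of root elements (generated)
-/

set_option autoImplicit false
set_option maxRecDepth 100000
set_option maxHeartbeats 0

namespace CfsgLib.ThE8

open CfsgLib.ThRep CfsgLib.ThRep.ModThree

/-- The word in root elements. -/
def wordB : List (ℕ × ℕ) :=
  [(120,2),(122,2),(125,2),(129,2),(140,1),(146,2),(151,2),(168,2),(155,1),(177,1),(160,1),
   (180,1),(161,2),(182,1),(196,1),(193,1),(198,1),(206,1),(199,2),(201,1),(208,1),(209,2),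
   (211,2),(215,1),(220,1),(221,1),(222,2),(228,2),(223,2),(230,2),(231,2),(232,2),(234,1),
   (236,1),(237,1),(238,1),(239,2),(239,2),(0,1),(239,2),(125,1),(140,1),(151,2),(168,1),(173,1),
   (177,1),(160,1),(161,2),(182,1),(190,2),(183,2),(192,2),(196,2),(193,1),(198,2),(199,2),
   (208,1),(202,1),(209,2),(211,1),(203,2),(213,1),(217,1),(221,1),(222,1),(223,1),(224,1),
   (231,2),(233,1),(234,1),(235,2),(237,2),(238,1),(239,2),(163,1),(165,1),(169,2),(170,2),
   (167,2),(171,2),(172,2),(175,1),(178,1),(185,2),(179,1),(188,1),(181,2),(191,2),(195,1),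
   (204,2),(197,1),(210,1),(214,1),(219,2),(226,2),(13,1),(226,2),(162,2),(164,1),(165,2),
   (169,2),(166,2),(167,2),(171,2),(172,1),(184,1),(176,1),(178,1),(185,2),(179,2),(188,1),
   (181,1),(189,1),(205,2),(207,2),(210,1),(214,1),(219,1),(226,1),(130,2),(124,1),(136,2),
   (147,2),(133,1),(152,1),(150,1),(153,1),(154,2),(157,1),(159,1),(159,2),(80,1),(159,2),
   (154,2),(85,1),(154,2),(124,2),(128,1),(133,2),(138,2),(144,1),(139,1),(145,1),(150,1),
   (159,1),(130,1),(143,1),(148,1),(152,1),(152,2),(87,1),(152,2),(131,2),(136,2),(137,2),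
   (147,1),(148,2),(152,1),(121,2),(121,2),(118,1),(121,2),(126,2),(113,1),(126,2),(126,1),
   (135,2),(135,2),(104,1),(135,2),(135,2),(141,2),(98,1),(141,2),(130,2),(109,1),(130,2),
   (130,2),(109,1),(130,2),(126,2),(113,1),(126,2),(126,2),(113,1),(126,2),(121,2),(118,1),
   (121,2),(121,2),(118,1),(121,2)]

theorem wordB_ok : (wordB.all okLet) = true := by
  decide +kernel

theorem wordB_eq : beqL (evalP 248 allGens [2, 16])
    (mulP 248 (allGens.getD 16 []) ((evalT (mask 248) wordB).toList 248)) = true := by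
  decide +kernel

end CfsgLib.ThE8
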