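import Cfsg.Agent.Lib.ThE8.ChkB

/-!
# A generator of the Thompson group as a product of root elements (generated)
-/

set_option autoImplicit false
set_option maxRecDepth 100000
set_option maxHeartbeats 0

namespace CfsgLib.ThE8

open CfsgLib.ThRep CfsgLib.ThRep.ModThree

/-- The word in root elements. -/
def wordC : List (ℕ × ℕ) :=
  [(122,2),(125,1),(146,2),(151,2),(155,2),(187,1),(208,1),(203,2),(223,2),(230,2),(232,1),
   (236,2),(237,2),(238,2),(239,2),(0,1),(239,2),(120,2),(122,1),(146,1),(155,2),(173,1),(177,2),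
   (201,2),(208,2),(203,2),(218,1),(223,2),(230,1),(231,1),(236,1),(162,1),(163,1),(170,2),
   (171,1),(172,2),(175,2),(184,1),(176,2),(185,2),(204,2),(205,1),(207,1),(226,2),(13,1),
   (226,2),(165,1),(167,2),(179,1),(188,1),(189,2),(194,1),(191,2),(197,1),(219,2),(123,1),
   (124,1),(144,2),(145,2),(149,1),(159,2),(80,1),(159,2),(127,1),(128,1),(133,2),(139,2),
   (156,1),(157,1),(130,1),(143,2),(148,2),(152,2),(87,1),(152,2),(130,1),(143,2),(148,2),
   (121,2),(121,2),(118,1),(121,2),(121,1),(126,2),(113,1),(126,2),(135,1),(141,2),(98,1),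
   (141,2),(162,2),(77,1),(162,2),(162,2),(77,1),(162,2),(126,2),(113,1),(126,2),(126,2),(113,1),
   (126,2),(121,2),(118,1),(121,2),(121,2),(118,1),(121,2)]

theorem wordC_ok : (wordC.all okLet) = true := by
  decide +kernel

theorem wordC_eq : beqL (evalP 248 allGens [4, 16])
    (mulP 248 (allGens.getD 16 []) ((evalT (mask 248) wordC).toList 248)) = true := by
  decide +kernel

end CfsgLib.ThE8
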