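import Cfsg.Agent.Lib.ThE8.ChkC

/-!
# A generator of the Thompson group as a product of root elements (generated)
-/

set_option autoImplicit false
set_option maxRecDepth 100000
set_option maxHeartbeats 0

namespace CfsgLib.ThE8

open CfsgLib.ThRep CfsgLib.ThRep.ModThree

/-- The word in root elements. -/
def wordD : List (ℕ × ℕ) :=
  [(120,1),(125,1),(146,1),(151,1),(155,2),(173,1),(177,1),(187,2),(206,2),(208,2),(202,2),
   (218,1),(223,1),(224,2),(231,1),(232,1),(236,1),(238,1),(239,2),(0,1),(239,2),(125,1),(146,2),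
   (155,2),(173,1),(187,1),(206,2),(201,2),(208,2),(202,2),(209,2),(203,2),(224,1),(236,2),
   (237,2),(238,1),(239,1),(130,1),(143,1),(144,1),(145,2),(154,1),(176,1),(204,2),(226,2),
   (13,1),(226,2),(214,2),(25,1),(214,2),(165,2),(166,2),(167,2),(178,2),(179,1),(188,2),(189,1),
   (194,1),(195,1),(210,2),(214,1),(121,2),(135,2),(124,2),(136,2),(150,1),(154,1),(159,2),
   (80,1),(159,2),(139,2),(100,1),(139,2),(128,2),(132,1),(138,2),(139,1),(156,1),(135,1),
   (148,2),(152,2),(87,1),(152,2),(148,2),(91,1),(148,2),(130,2),(136,2),(143,2),(148,2),(152,1),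
   (121,1),(121,2),(118,1),(121,2),(121,1),(126,2),(113,1),(126,2),(135,2),(141,2),(98,1),
   (141,2),(141,2),(98,1),(141,2),(141,2),(98,1),(141,2)]

theorem wordD_ok : (wordD.all okLet) = true := by
  decide +kernel

theorem wordD_eq : beqL (evalP 248 allGens [6, 16])
    (mulP 248 (allGens.getD 16 []) ((evalT (mask 248) wordD).toList 248)) = true := by
  decide +kernel

end CfsgLib.ThE8
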