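import Cfsg.Agent.Lib.ThE8.ChkD

/-!
# A generator of the Thompson group as a product of root elements (generated)
-/

set_option autoImplicit false
set_option maxRecDepth 100000
set_option maxHeartbeats 0

namespace CfsgLib.ThE8

open CfsgLib.ThRep CfsgLib.ThRep.ModThree

/-- The word in root elements. -/
def wordE : List (ℕ × ℕ) :=
  [(122,2),(125,2),(146,1),(151,1),(173,1),(187,1),(206,1),(202,2),(209,1),(203,2),(218,2),
   (223,1),(224,2),(230,2),(232,1),(237,1),(238,2),(239,2),(0,1),(239,2),(120,2),(122,1),(125,1),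
   (146,2),(151,1),(155,1),(173,2),(177,1),(187,2),(206,1),(201,2),(202,2),(203,1),(218,1),
   (223,1),(224,1),(231,2),(232,2),(236,2),(237,1),(238,2),(162,1),(163,1),(164,1),(170,2),
   (171,2),(176,1),(186,1),(204,1),(200,2),(207,2),(226,2),(13,1),(226,2),(169,2),(166,1),
   (167,2),(178,1),(179,1),(189,1),(194,2),(191,1),(210,1),(214,1),(123,2),(124,2),(145,1),
   (149,1),(159,2),(80,1),(159,2),(127,1),(128,2),(133,2),(138,2),(139,1),(157,1),(130,1),
   (136,2),(143,2),(152,2),(87,1),(152,2),(136,1),(143,2),(148,1),(121,1),(126,2),(113,1),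
   (126,2),(135,2),(104,1),(135,2),(141,2),(98,1),(141,2),(126,2),(113,1),(126,2),(126,2),
   (113,1),(126,2),(120,2),(119,1),(120,2),(120,2),(119,1),(120,2)]

theorem wordE_ok : (wordE.all okLet) = true := by
  decide +kernel

theorem wordE_eq : beqL (evalP 248 allGens [8, 16])
    (mulP 248 (allGens.getD 16 []) ((evalT (mask 248) wordE).toList 248)) = true := by
  decide +kernel

end CfsgLib.ThE8
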