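import Cfsg.Agent.Lib.ThE8.ChkE

/-!
# A generator of the Thompson group as a product of root elements (generated)
-/

set_option autoImplicit false
set_option maxRecDepth 100000
set_option maxHeartbeats 0

namespace CfsgLib.ThE8

open CfsgLib.ThRep CfsgLib.ThRep.ModThree

/-- The word in root elements. -/
def wordS : List (ℕ × ℕ) :=
  [(120,1),(122,1),(146,1),(155,2),(187,1),(202,1),(203,1),(223,2),(224,2),(231,2),(232,2),
   (236,1),(238,2),(239,2),(0,1),(239,2),(122,1),(125,1),(146,2),(155,2),(173,1),(177,2),(187,1),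
   (201,2),(208,2),(209,2),(203,2),(218,1),(223,1),(230,2),(231,1),(236,1),(237,2),(239,2),
   (162,1),(163,2),(174,1),(184,2),(185,2),(204,2),(207,1),(226,2),(13,1),(226,2),(169,1),
   (167,1),(179,2),(181,1),(189,2),(194,1),(197,1),(214,2),(219,2),(124,2),(144,2),(149,2),
   (150,2),(154,1),(159,2),(80,1),(159,2),(127,1),(128,2),(133,2),(138,1),(139,1),(156,1),
   (157,1),(130,2),(136,2),(143,2),(148,1),(152,1),(152,2),(87,1),(152,2),(136,2),(143,2),
   (148,1),(152,1),(121,2),(118,1),(121,2),(121,2),(126,2),(113,1),(126,2),(135,2),(135,2),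
   (104,1),(135,2),(141,2),(98,1),(141,2),(141,2),(98,1),(141,2),(141,2),(98,1),(141,2),(123,2),
   (116,1),(123,2),(123,2),(116,1),(123,2),(121,2),(118,1),(121,2),(121,2),(118,1),(121,2)]

theorem wordS_ok : (wordS.all okLet) = true := by
  decide +kernel

theorem wordS_eq : beqL (evalP 248 allGens [10, 16])
    (mulP 248 (allGens.getD 16 []) ((evalT (mask 248) wordS).toList 248)) = true := by
  decide +kernel

end CfsgLib.ThE8
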