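import Cfsg.Agent.Lib.ThE8.ChkS

/-!
# A generator of the Thompson group as a product of root elements (generated)
-/

set_option autoImplicit false
set_option maxRecDepth 100000
set_option maxHeartbeats 0

namespace CfsgLib.ThE8

open CfsgLib.ThRep CfsgLib.ThRep.ModThree

/-- The word in root elements. -/
def wordT : List (ℕ × ℕ) :=
  [(145,1),(150,1),(172,2),(205,1),(200,1),(207,2),(209,2),(223,2),(224,2),(231,1),(232,1),
   (236,2),(238,1),(239,2),(0,1),(239,2),(238,2),(1,1),(238,2),(125,2),(146,1),(151,1),(155,1),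
   (173,2),(177,2),(187,2),(208,2),(202,1),(209,2),(218,1),(223,2),(224,2),(230,2),(232,1),
   (239,2),(162,1),(164,1),(170,1),(171,2),(172,1),(184,2),(176,2),(185,1),(186,1),(205,1),
   (207,2),(226,2),(13,1),(226,2),(169,2),(70,1),(169,2),(169,2),(167,2),(178,1),(179,2),(188,1),
   (181,2),(189,1),(194,2),(191,2),(195,2),(197,2),(210,1),(219,2),(123,1),(144,2),(145,1),
   (149,2),(150,1),(153,1),(159,2),(80,1),(159,2),(127,1),(132,2),(133,2),(138,2),(139,1),
   (130,2),(135,1),(152,2),(152,2),(87,1),(152,2),(136,2),(103,1),(136,2),(130,2),(152,1),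
   (121,1),(121,2),(118,1),(121,2),(126,2),(113,1),(126,2),(135,2),(104,1),(135,2),(135,1),
   (141,2),(98,1),(141,2),(130,2),(109,1),(130,2),(130,2),(109,1),(130,2),(126,2),(113,1),
   (126,2),(126,2),(113,1),(126,2),(123,2),(116,1),(123,2),(123,2),(116,1),(123,2),(121,2),
   (118,1),(121,2),(121,2),(118,1),(121,2),(120,2),(119,1),(120,2),(120,2),(119,1),(120,2)]

theorem wordT_ok : (wordT.all okLet) = true := by
  decide +kernel

theorem wordT_eq : beqL (evalP 248 allGens [12, 16])
    (mulP 248 (allGens.getD 16 []) ((evalT (mask 248) wordT).toList 248)) = true := by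
  decide +kernel

end CfsgLib.ThE8
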