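import Cfsg.Agent.Lib.ThE8.ChkT

/-!
# A generator of the Thompson group as a product of root elements (generated)
-/

set_option autoImplicit false
set_option maxRecDepth 100000
set_option maxHeartbeats 0

namespace CfsgLib.ThE8

open CfsgLib.ThRep CfsgLib.ThRep.ModThree

/-- The word in root elements. -/
def wordU : List (ℕ × ℕ) :=
  [(120,1),(122,1),(125,1),(146,2),(151,1),(155,2),(173,1),(201,2),(202,1),(218,2),(223,1),
   (224,1),(232,1),(236,1),(237,2),(238,1),(239,1),(239,2),(0,1),(239,2),(120,1),(125,2),(151,1),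
   (173,2),(177,2),(187,2),(206,2),(208,1),(202,2),(209,2),(203,1),(218,2),(224,1),(231,2),
   (232,1),(237,1),(238,1),(239,1),(163,2),(170,2),(171,2),(174,2),(172,2),(175,1),(184,2),
   (176,2),(185,2),(186,2),(205,1),(226,2),(13,1),(226,2),(169,1),(166,2),(167,1),(178,1),
   (179,1),(188,1),(181,1),(189,1),(191,2),(197,1),(210,2),(123,2),(144,2),(149,2),(153,2),
   (154,2),(159,2),(80,1),(159,2),(128,1),(132,2),(133,1),(138,2),(139,1),(156,1),(157,1),
   (152,1),(152,2),(87,1),(152,2),(148,2),(91,1),(148,2),(121,1),(121,2),(118,1),(121,2),(121,1),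
   (126,2),(113,1),(126,2),(135,2),(135,2),(104,1),(135,2),(141,2),(98,1),(141,2),(162,2),(77,1),
   (162,2),(162,2),(77,1),(162,2),(141,2),(98,1),(141,2),(141,2),(98,1),(141,2),(135,2),(104,1),
   (135,2),(135,2),(104,1),(135,2),(130,2),(109,1),(130,2),(130,2),(109,1),(130,2),(120,2),
   (119,1),(120,2),(120,2),(119,1),(120,2)]

theorem wordU_ok : (wordU.all okLet) = true := by
  decide +kernel

theorem wordU_eq : beqL (evalP 248 allGens [14, 16])
    (mulP 248 (allGens.getD 16 []) ((evalT (mask 248) wordU).toList 248)) = true := by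
  decide +kernel

end CfsgLib.ThE8
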