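import Mathlib.Data.List.Basic

/-!
# Change of coordinates to a Chevalley basis, by sparse rows (generated)
-/

set_option autoImplicit false
set_option maxRecDepth 100000

namespace CfsgLib.ThE8

/-- Rows of a matrix. -/
def matP0 : List (List (ℕ × ℕ)) :=
  [[(0,1),(1,2),(0,1),(3,2),(0,1),(0,1),(0,2),(5,1),(7,1),(4,2),(9,1),(0,2),(0,2),(0,1),(1,1),
    (1,2),(13,2),(0,1),(0,1),(0,2),(6,2),(1,1),(0,2),(0,1),(0,1),(0,2),(0,2),(5,2),(0,2),(0,1),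
    (10,1),(2,1),(2,1),(0,2),(8,1),(4,1),(4,1),(0,1),(0,1),(0,1),(0,1),(0,1),(2,1),(0,1),(0,2),
    (0,1),(9,1),(7,2),(1,1),(0,1),(1,1),(1,1),(0,1),(0,1),(0,1),(1,2),(7,2),(7,2),(3,2),(0,2),
    (7,1),(0,2),(0,2),(0,2),(12,2),(0,1),(0,1),(0,1),(1,1),(0,2),(1,2),(0,1),(8,2),(4,2),(6,2),
    (5,2),(0,2),(0,2),(0,1)],
   [(1,1),(0,1),(0,1),(2,1),(0,2),(0,1),(0,1),(0,2),(0,2),(3,2),(0,1),(6,1),(14,2),(1,1),(0,2),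
    (2,2),(0,2),(0,2),(0,2),(14,2),(0,1),(6,2),(0,2),(0,1),(0,2),(9,2),(0,2),(0,2),(6,1),(0,1),
    (1,2),(0,2),(1,2),(0,1),(2,1),(0,1),(7,2),(0,1),(4,1),(6,1),(1,2),(0,1),(0,1),(0,1),(0,1),
    (0,1),(0,1),(0,2),(9,2),(7,2),(0,2),(0,2),(2,1),(1,1),(1,2),(0,1),(0,2),(0,1),(6,2),(7,1),
    (0,2),(0,1),(0,1),(0,2),(0,1),(0,2),(0,1),(6,1),(2,1),(12,2),(1,2),(1,1),(1,2),(0,2),(0,2),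
    (0,2),(8,2),(5,2),(5,2),(0,1),(0,2),(3,2),(0,2)],
   [(3,2),(2,2),(0,2),(0,2),(0,1),(0,2),(5,2),(23,2),(0,2),(0,1),(0,2),(0,2),(1,1),(0,2),(12,1),
    (0,2),(0,1),(0,1),(6,2),(0,2),(0,1),(0,2),(2,1),(0,1),(7,1),(9,1),(0,2),(0,1),(1,1),(12,2),
    (4,2),(4,2),(1,1),(0,2),(0,1),(1,1),(0,2),(0,1),(0,2),(0,1),(5,2),(4,1),(0,2),(6,1),(2,2),
    (1,2),(0,2),(1,1),(0,2),(1,1),(8,1),(0,2),(6,1),(2,2),(0,2),(0,1),(0,1),(6,1),(0,2),(1,2),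
    (14,1),(2,2),(0,2),(0,2),(1,2),(8,2),(11,2),(0,1),(0,1),(3,1),(0,1),(1,2)],
   [(0,1),(0,1),(0,2),(1,1),(0,2),(3,2),(0,2),(0,1),(3,1),(0,2),(0,2),(6,1),(14,2),(0,1),(0,1),
    (1,2),(2,2),(13,2),(0,1),(0,1),(0,1),(6,2),(0,2),(2,2),(0,1),(0,1),(7,1),(0,2),(6,2),(0,1),
    (0,1),(0,1),(3,2),(1,2),(0,1),(1,2),(6,1),(0,2),(4,1),(6,1),(0,2),(2,2),(0,2),(0,2),(0,2),
    (0,1),(10,1),(0,1),(8,1),(0,1),(1,2),(1,2),(0,2),(0,1),(0,1),(8,2),(0,2),(6,1),(1,1),(0,2),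
    (0,2),(1,1),(0,1),(6,1),(0,1),(0,1),(0,1),(12,1),(0,1),(1,1),(1,1),(0,2),(0,2),(1,2),(8,2),
    (5,1),(5,1),(0,1),(4,1),(1,2),(0,2)],
   [(1,1),(1,2),(0,2),(0,1),(1,1),(0,2),(0,2),(0,1),(0,2),(4,2),(0,2),(6,2),(4,2),(9,2),(0,2),
    (1,2),(0,2),(0,2),(0,2),(16,2),(0,2),(7,2),(0,2),(0,2),(1,1),(1,1),(5,2),(0,1),(0,1),(8,2),
    (0,1),(1,1),(0,2),(2,2),(1,2),(0,2),(7,2),(4,1),(5,1),(0,2),(0,1),(2,2),(0,1),(2,1),(0,1),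
    (4,2),(4,2),(0,1),(7,1),(1,1),(1,1),(0,2),(0,1),(0,1),(2,1),(0,1),(6,2),(1,2),(5,1),(0,2),
    (2,2),(0,2),(0,2),(0,2),(7,2),(0,1),(0,1),(12,2),(1,1),(1,1),(0,1),(0,2),(0,1),(0,1),(0,1),
    (13,1),(6,1),(1,2),(3,2)],
   [(1,2),(0,2),(1,1),(2,2),(0,2),(0,1),(1,2),(3,1),(1,1),(5,1),(0,2),(4,2),(10,2),(0,1),(2,1),
    (2,1),(12,2),(1,2),(0,2),(6,2),(0,2),(2,1),(0,2),(0,2),(6,2),(0,2),(0,1),(7,2),(0,2),(2,1),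
    (0,1),(0,1),(1,1),(10,1),(4,1),(4,1),(0,2),(0,1),(0,2),(0,2),(2,2),(1,2),(1,2),(4,1),(12,1),
    (1,1),(0,2),(1,2),(0,2),(0,2),(1,2),(2,2),(6,2),(0,1),(0,2),(5,2),(0,2),(1,2),(0,1),(2,1),
    (6,2),(0,1),(0,1),(0,1),(15,2),(1,1),(1,1),(0,2),(9,2),(4,1),(0,1),(5,2),(0,2),(0,2),(3,2),
    (1,2)],
   [(0,2),(0,1),(0,2),(0,2),(0,2),(0,2),(0,2),(3,2),(0,1),(3,2),(8,1),(4,2),(8,1),(1,2),(0,1),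
    (3,1),(1,2),(12,2),(0,2),(0,2),(7,2),(0,2),(3,2),(0,1),(0,2),(5,1),(0,1),(0,1),(6,1),(0,1),
    (0,2),(0,1),(1,2),(0,1),(0,1),(1,2),(0,1),(0,1),(0,1),(7,1),(10,1),(0,2),(0,2),(0,1),(0,2),
    (0,2),(0,2),(1,2),(6,1),(5,1),(6,1),(0,1),(0,2),(0,2),(2,1),(0,2),(0,1),(1,1),(0,1),(0,2),
    (6,1),(1,2),(5,1),(0,2),(0,2),(0,2),(0,1),(1,1),(0,1),(7,2),(0,1),(0,1),(12,2),(2,2),(0,1),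
    (0,1),(3,1),(8,1),(4,1),(0,1),(6,1),(0,1),(3,1),(1,1),(0,1)],
   [(1,2),(0,1),(0,1),(0,1),(2,2),(0,2),(1,1),(0,1),(4,2),(0,2),(6,2),(4,1),(8,2),(1,2),(0,2),
    (0,2),(2,1),(14,1),(1,1),(7,2),(2,2),(0,2),(0,2),(0,2),(6,2),(9,1),(1,1),(0,1),(0,1),(0,1),
    (0,1),(1,2),(0,1),(0,1),(0,1),(6,2),(0,2),(10,2),(0,2),(0,1),(0,2),(1,2),(0,2),(0,2),(2,1),
    (9,1),(0,1),(6,2),(1,1),(0,2),(1,2),(0,1),(0,1),(1,2),(0,2),(0,2),(7,1),(1,2),(6,1),(4,2),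
    (7,2),(0,2),(0,2),(0,2),(15,2),(0,1),(0,1),(2,1),(9,1),(5,1),(5,1),(5,2),(0,2),(0,1)]]

/-- Rows of a matrix. -/
def matP1 : List (List (ℕ × ℕ)) :=
  [[(1,2),(1,2),(0,2),(1,2),(0,1),(1,1),(0,1),(4,2),(0,2),(0,2),(6,2),(13,1),(0,1),(1,1),(2,1),
    (0,1),(16,2),(0,2),(6,2),(0,2),(0,1),(0,1),(0,1),(0,1),(0,2),(6,2),(0,2),(0,1),(6,1),(0,1),
    (0,2),(0,1),(0,2),(0,1),(0,2),(2,2),(0,2),(0,1),(0,1),(6,1),(5,1),(5,1),(1,2),(1,1),(0,2),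
    (1,2),(2,2),(4,2),(4,2),(7,2),(1,2),(0,1),(1,1),(0,1),(1,2),(0,1),(0,1),(1,2),(6,1),(0,2),
    (0,2),(5,2),(0,2),(0,2),(1,1),(0,2),(0,2),(0,1),(6,2),(0,2),(1,2),(12,1),(1,1),(1,2),(1,2),
    (0,1),(0,1),(9,1),(5,1),(5,2),(1,2),(3,2),(0,2),(0,2)],
   [(0,2),(5,1),(0,1),(0,1),(0,1),(0,1),(0,1),(3,2),(8,2),(15,2),(1,2),(0,2),(0,2),(0,2),(0,1),
    (0,1),(14,1),(9,1),(2,1),(0,2),(6,1),(0,1),(0,2),(7,1),(0,1),(0,2),(1,1),(0,2),(0,1),(1,2),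
    (0,1),(0,2),(0,1),(6,2),(5,2),(4,2),(0,1),(1,2),(0,1),(0,1),(1,2),(0,1),(0,2),(0,1),(0,1),
    (4,1),(5,1),(6,1),(1,1),(0,2),(1,2),(0,1),(1,2),(0,1),(0,1),(0,2),(9,1),(6,1),(0,2),(0,1),
    (2,2),(8,1),(1,2),(13,2),(0,2),(2,2),(0,1),(1,1),(0,1),(8,2),(12,1),(4,1),(0,2),(0,2)],
   [(0,1),(0,2),(1,2),(1,2),(0,1),(0,1),(0,1),(6,1),(0,1),(0,2),(5,1),(0,2),(4,2),(9,1),(0,2),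
    (1,1),(0,1),(1,1),(0,2),(0,1),(12,2),(0,1),(0,2),(0,2),(6,2),(1,2),(0,1),(2,2),(6,2),(1,1),
    (6,1),(0,1),(1,1),(1,2),(0,1),(0,2),(1,1),(0,1),(0,1),(0,2),(17,2),(0,1),(1,1),(0,2),(0,1),
    (1,2),(0,2),(1,2),(0,1),(4,1),(4,1),(0,1),(6,2),(1,1),(3,2),(0,2),(0,1),(0,1),(0,2),(0,1),
    (0,2),(6,1),(1,1),(5,1),(13,2),(0,1),(0,1),(14,2),(0,1),(1,2),(0,1),(0,2),(0,2),(1,1),(8,2),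
    (4,2),(6,1),(0,1),(0,2),(4,1),(1,1)],
   [(1,1),(1,1),(1,1),(0,2),(2,1),(1,1),(3,1),(0,2),(6,2),(5,1),(14,2),(0,1),(0,2),(13,2),(0,1),
    (9,1),(2,2),(0,2),(0,2),(0,1),(5,2),(0,1),(7,2),(0,1),(2,2),(2,2),(1,1),(0,1),(0,1),(0,1),
    (6,2),(0,2),(9,1),(1,1),(0,2),(0,2),(0,2),(0,1),(0,2),(2,1),(0,1),(4,1),(4,1),(0,2),(6,1),
    (0,2),(0,2),(2,1),(2,2),(2,2),(8,2),(0,2),(5,1),(0,2),(2,2),(1,1),(0,2),(6,2),(1,2),(13,2),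
    (3,1),(1,1),(0,1),(0,1),(9,1),(4,1),(6,2),(1,2),(3,2),(0,1),(1,2)],
   [(2,2),(1,2),(0,2),(0,2),(1,1),(2,1),(3,1),(8,2),(4,1),(8,2),(0,2),(0,2),(0,2),(0,2),(0,1),
    (0,1),(0,1),(0,1),(13,1),(0,1),(0,1),(0,2),(6,2),(3,2),(0,1),(0,1),(0,2),(6,1),(7,2),(1,2),
    (0,1),(0,2),(0,1),(0,1),(0,1),(1,1),(0,1),(0,2),(0,2),(7,2),(4,1),(4,1),(1,2),(0,1),(0,1),
    (0,2),(1,2),(0,1),(1,2),(10,1),(7,1),(0,1),(1,2),(1,1),(1,2),(1,2),(2,1),(6,1),(0,1),(0,2),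
    (7,2),(0,2),(0,1),(0,2),(0,1),(0,1),(6,2),(0,1),(1,2),(13,2),(0,1),(0,2),(0,2),(0,1),(0,1),
    (0,1),(1,2),(8,2),(4,2),(0,1),(5,2),(0,2),(0,1),(3,2),(1,1)],
   [(0,1),(0,1),(1,1),(0,2),(1,1),(0,1),(0,2),(1,1),(4,2),(0,1),(0,2),(5,1),(0,2),(4,2),(8,1),
    (0,1),(1,1),(0,1),(0,1),(1,2),(0,2),(13,2),(1,2),(0,2),(6,1),(0,1),(0,1),(0,1),(0,1),(0,2),
    (0,2),(7,1),(7,2),(2,1),(0,1),(0,1),(1,1),(2,1),(0,2),(7,1),(10,2),(0,1),(2,2),(0,2),(2,1),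
    (2,2),(9,2),(7,2),(0,1),(0,2),(0,1),(1,1),(0,2),(0,1),(0,1),(1,2),(1,1),(7,1),(6,1),(0,2),
    (0,2),(0,2),(0,1),(2,1),(6,1),(0,1),(1,2),(12,2),(0,1),(1,2),(0,2),(0,2),(0,1),(1,1),(9,2),
    (4,2),(0,1),(6,1),(0,1),(4,2)],
   [(0,1),(0,1),(0,1),(1,2),(0,2),(0,1),(0,2),(0,1),(0,1),(0,1),(0,2),(3,2),(0,2),(0,2),(5,1),
    (0,2),(4,2),(10,1),(0,1),(0,1),(0,2),(1,1),(0,2),(0,2),(12,2),(10,1),(0,1),(0,1),(0,2),(0,1),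
    (0,1),(0,2),(5,1),(1,1),(6,1),(1,1),(2,1),(0,1),(0,2),(3,2),(0,2),(6,2),(5,1),(4,2),(0,1),
    (0,1),(0,1),(0,1),(0,2),(0,1),(0,2),(0,2),(1,2),(10,1),(7,1),(0,1),(3,1),(1,1),(0,2),(0,2),
    (1,2),(0,1),(7,1),(6,1),(2,2),(0,2),(0,2),(0,2),(0,2),(7,1),(0,1),(0,1),(12,2),(0,1),(1,1),
    (0,2),(0,1),(1,1),(15,1),(0,1),(5,1),(0,1),(0,1),(3,1),(1,1),(0,1)],
   [(0,1),(0,1),(0,1),(0,1),(0,1),(0,1),(0,1),(4,2),(3,1),(0,1),(0,1),(5,1),(0,2),(13,2),(2,1),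
    (0,2),(0,1),(0,1),(2,1),(12,2),(0,2),(0,1),(0,1),(6,1),(0,2),(0,2),(0,2),(0,1),(0,2),(0,2),
    (7,2),(7,1),(1,2),(0,2),(0,2),(2,1),(2,2),(8,2),(0,2),(4,2),(4,1),(0,2),(0,2),(1,1),(1,1),
    (2,2),(1,1),(4,1),(13,2),(1,1),(2,2),(0,2),(0,2),(1,1),(0,1),(7,1),(0,2),(0,1),(7,1),(0,2),
    (1,2),(0,2),(0,2),(7,1),(14,1),(0,1),(0,1),(0,2),(1,1),(0,1),(0,1),(1,1),(13,1),(0,1),(5,1),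
    (0,1),(0,2),(5,2),(0,2)]]

/-- Rows of a matrix. -/
def matP2 : List (List (ℕ × ℕ)) :=
  [[(2,1),(0,2),(0,1),(0,1),(0,1),(0,2),(1,2),(5,1),(0,1),(6,2),(0,2),(4,1),(8,2),(0,2),(0,1),
    (1,1),(0,1),(0,2),(0,1),(0,1),(0,1),(12,1),(1,1),(0,2),(6,1),(2,1),(0,1),(2,1),(5,1),(0,1),
    (7,2),(2,1),(0,1),(0,1),(0,1),(2,1),(1,2),(0,1),(6,2),(0,2),(4,1),(5,2),(3,2),(0,2),(1,1),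
    (0,1),(0,2),(0,2),(4,1),(4,2),(0,2),(6,2),(0,2),(1,1),(1,2),(0,2),(0,1),(1,1),(0,2),(10,1),
    (5,2),(0,2),(0,1),(0,1),(0,1),(0,1),(0,2),(0,2),(6,2),(1,1),(13,1),(0,2),(0,1),(1,1),(0,1),
    (0,1),(2,1),(8,1),(4,1),(0,2),(5,2),(0,2),(0,1),(3,1),(1,1),(0,2)],
   [(0,2),(1,2),(0,1),(0,1),(0,2),(0,1),(1,1),(6,1),(0,2),(0,2),(6,1),(14,2),(0,2),(2,1),(0,2),
    (1,1),(0,2),(12,1),(0,1),(0,1),(0,2),(8,1),(1,1),(1,1),(0,2),(5,1),(0,1),(0,2),(6,1),(0,2),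
    (0,1),(0,2),(0,1),(0,2),(0,1),(2,2),(9,2),(0,2),(9,1),(0,2),(0,2),(5,1),(0,1),(0,2),(0,2),
    (4,2),(4,1),(0,1),(6,1),(0,2),(0,2),(0,2),(1,1),(0,2),(0,2),(0,1),(1,1),(1,2),(8,2),(5,1),
    (0,2),(0,2),(0,1),(1,1),(1,2),(7,1),(0,2),(0,2),(13,1),(0,1),(0,1),(0,1),(2,1),(0,1),(9,2),
    (12,1),(0,1),(3,2),(0,1),(0,1),(0,2)],
   [(0,2),(1,1),(1,1),(0,2),(1,1),(3,1),(3,1),(0,2),(0,1),(5,1),(5,1),(8,2),(0,2),(0,1),(0,2),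
    (1,2),(0,2),(0,2),(1,2),(13,1),(0,1),(0,2),(7,1),(0,1),(0,1),(3,1),(5,2),(1,1),(6,2),(0,2),
    (1,2),(0,2),(0,2),(0,2),(0,1),(2,2),(0,1),(8,1),(9,2),(0,2),(0,2),(2,1),(4,2),(5,2),(4,1),
    (0,2),(7,1),(1,1),(1,1),(0,2),(0,1),(0,1),(0,1),(0,1),(0,2),(7,2),(0,2),(7,2),(2,1),(0,2),
    (0,2),(0,2),(8,2),(0,2),(12,2),(1,1),(0,1),(0,1),(1,2),(1,1),(0,1),(14,2),(6,1),(4,1),(0,1),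
    (0,1)],
   [(1,2),(0,1),(0,1),(1,2),(0,1),(1,1),(0,2),(0,1),(0,1),(5,2),(5,1),(5,2),(8,1),(0,2),(0,1),
    (0,2),(0,2),(0,1),(0,1),(0,2),(0,2),(0,1),(13,2),(1,1),(6,1),(0,1),(0,2),(0,1),(2,1),(0,2),
    (6,1),(0,1),(6,1),(0,1),(0,1),(0,1),(0,2),(1,1),(0,1),(1,2),(0,2),(0,1),(7,1),(0,2),(4,2),
    (4,2),(1,2),(0,1),(0,2),(0,2),(0,2),(2,2),(0,1),(0,1),(4,1),(4,2),(0,2),(6,1),(0,2),(4,1),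
    (2,2),(0,1),(0,1),(0,1),(6,1),(0,1),(0,1),(7,2),(2,1),(0,1),(0,2),(8,2),(0,2),(13,2),(0,2),
    (0,1),(0,1),(1,1),(2,2),(8,2),(4,2),(6,1),(0,2),(0,1),(3,2),(0,1),(0,2),(0,1)],
   [(0,1),(0,2),(0,2),(0,1),(0,2),(0,1),(0,1),(1,1),(1,1),(0,2),(3,2),(7,2),(0,1),(13,1),(1,1),
    (0,2),(0,1),(0,2),(0,2),(0,1),(0,1),(13,1),(0,1),(1,1),(6,1),(1,2),(0,2),(0,2),(2,1),(5,1),
    (0,2),(7,1),(0,2),(1,1),(1,2),(1,1),(1,2),(0,2),(0,2),(0,2),(6,1),(5,2),(5,1),(0,2),(0,1),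
    (0,1),(1,1),(0,1),(0,1),(0,1),(19,1),(2,2),(2,2),(0,1),(0,2),(0,2),(0,2),(0,2),(0,2),(6,1),
    (0,1),(0,1),(5,2),(3,2),(1,2),(9,2),(0,1),(12,2),(2,1),(0,1),(1,2),(2,1),(8,2),(5,1),(5,2),
    (1,1),(3,1),(0,2),(0,1)],
   [(0,2),(3,1),(0,2),(0,2),(2,2),(0,2),(5,1),(0,1),(6,1),(14,1),(0,1),(1,2),(3,1),(0,1),(13,1),
    (0,1),(0,2),(6,1),(0,1),(2,2),(0,1),(0,2),(6,2),(0,2),(0,1),(8,2),(0,1),(0,2),(0,2),(1,1),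
    (1,1),(2,1),(7,2),(4,2),(5,1),(0,2),(0,2),(0,1),(1,1),(1,2),(1,1),(5,2),(4,1),(0,1),(7,2),
    (1,1),(2,1),(0,1),(0,2),(0,2),(2,2),(6,1),(0,2),(7,1),(0,2),(1,2),(0,1),(8,2),(0,1),(0,1),
    (14,2),(0,2),(0,1),(2,2),(1,2),(0,1),(14,1),(5,1),(1,2),(3,2),(0,2),(1,1)],
   [(0,2),(0,1),(0,1),(2,2),(1,2),(0,2),(0,2),(0,1),(0,1),(3,1),(7,1),(0,2),(4,2),(9,1),(3,1),
    (0,1),(0,1),(0,1),(13,1),(0,1),(0,2),(0,2),(6,2),(0,2),(2,1),(0,1),(1,1),(14,2),(0,2),(5,2),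
    (1,1),(0,2),(8,1),(0,1),(4,1),(4,2),(2,2),(0,2),(0,2),(0,1),(1,1),(0,1),(0,2),(5,1),(4,1),
    (0,1),(6,1),(2,1),(1,2),(1,2),(0,1),(0,2),(0,2),(1,1),(7,1),(0,1),(5,2),(0,2),(0,1),(0,1),
    (0,1),(0,2),(0,2),(0,1),(6,1),(1,1),(0,1),(12,2),(0,2),(0,1),(0,2),(0,1),(0,1),(1,1),(1,2),
    (13,2),(0,2),(5,2),(8,1)],
   [(0,1),(2,2),(0,2),(0,1),(0,2),(2,1),(1,2),(3,1),(0,2),(0,2),(5,1),(16,2),(1,1),(0,2),(2,2),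
    (0,2),(12,2),(1,1),(0,2),(7,2),(1,1),(0,2),(0,1),(0,1),(0,2),(5,1),(0,1),(9,2),(0,1),(0,2),
    (0,1),(1,2),(3,1),(0,2),(6,2),(0,2),(9,2),(0,1),(0,1),(1,1),(0,2),(1,1),(0,2),(0,1),(0,2),
    (5,1),(4,1),(0,2),(6,1),(0,2),(0,2),(0,2),(1,2),(1,2),(0,1),(1,2),(0,2),(0,2),(6,1),(0,1),
    (0,2),(5,2),(0,2),(0,1),(2,1),(0,1),(0,1),(6,2),(0,2),(0,1),(0,2),(12,2),(0,1),(0,2),(2,1),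
    (0,2),(0,2),(0,1),(0,2),(8,2),(4,2),(0,2),(5,2),(5,2),(0,1),(0,1),(0,2)]]

/-- Rows of a matrix. -/
def matP3 : List (List (ℕ × ℕ)) :=
  [[(1,2),(0,2),(0,2),(0,1),(2,1),(1,2),(0,2),(0,1),(4,2),(0,1),(5,1),(5,2),(8,2),(0,1),(0,2),
    (0,2),(0,2),(1,1),(0,2),(0,2),(0,1),(13,2),(0,2),(0,2),(8,1),(0,2),(0,2),(0,2),(0,2),(6,1),
    (1,1),(6,2),(0,1),(0,1),(1,2),(1,1),(0,1),(1,2),(0,2),(0,2),(0,2),(6,1),(0,2),(4,2),(4,1),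
    (1,1),(0,2),(0,2),(0,2),(0,2),(0,1),(1,1),(0,2),(0,1),(4,1),(4,1),(0,2),(6,2),(2,1),(1,2),
    (1,2),(0,1),(1,1),(0,2),(7,1),(1,1),(5,2),(0,2),(1,2),(1,1),(0,2),(0,2),(6,1),(0,1),(1,1),
    (12,1),(2,2),(2,2),(0,1),(0,2),(9,1),(5,2),(5,1),(0,1),(0,2),(4,2),(1,2)],
   [(0,2),(1,2),(0,2),(1,2),(1,2),(0,2),(2,2),(3,2),(0,1),(6,1),(0,1),(4,1),(8,2),(0,2),(0,1),
    (0,2),(0,1),(1,1),(1,2),(0,2),(12,1),(0,1),(0,2),(0,2),(6,2),(0,1),(0,1),(0,1),(1,2),(0,1),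
    (0,2),(7,2),(6,2),(0,1),(2,2),(1,1),(0,2),(3,1),(0,1),(6,2),(0,1),(4,2),(5,2),(0,2),(1,1),
    (0,2),(0,1),(1,2),(1,1),(0,1),(4,1),(5,2),(11,1),(0,1),(1,2),(1,2),(1,2),(6,2),(7,1),(1,1),
    (2,2),(1,2),(7,2),(0,1),(14,2),(3,1),(0,1),(0,1),(0,1),(14,2),(0,2),(6,1),(0,2),(3,1),(1,2),
    (0,2)],
   [(0,1),(2,1),(0,2),(1,1),(0,1),(3,2),(3,2),(0,2),(0,1),(6,2),(14,2),(0,1),(0,2),(0,2),(0,1),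
    (0,1),(0,2),(0,1),(0,1),(13,2),(1,2),(6,1),(2,1),(3,1),(5,2),(0,2),(8,1),(0,2),(0,2),(0,2),
    (0,1),(0,1),(2,1),(0,1),(0,1),(0,1),(6,2),(0,2),(4,1),(4,1),(0,1),(0,1),(1,2),(0,1),(0,2),
    (0,2),(0,1),(0,1),(0,1),(0,1),(4,1),(4,2),(0,1),(6,1),(0,2),(0,1),(0,2),(3,2),(0,2),(1,1),
    (0,1),(7,1),(0,1),(6,1),(0,2),(0,2),(0,1),(0,1),(0,1),(0,1),(0,1),(6,1),(1,1),(0,2),(12,2),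
    (2,1),(0,1),(0,2),(0,2),(0,2),(0,2),(9,2),(5,2),(5,2),(1,2),(3,2),(0,2),(0,1)],
   [(1,1),(0,2),(0,2),(0,2),(0,1),(0,1),(0,2),(0,1),(1,2),(0,2),(5,1),(5,1),(0,1),(4,1),(9,2),
    (1,1),(0,1),(1,2),(0,1),(1,1),(12,2),(0,2),(0,1),(0,1),(6,1),(2,1),(2,1),(15,2),(0,1),(0,1),
    (0,2),(0,1),(1,1),(0,1),(1,2),(9,1),(0,1),(11,2),(0,2),(2,2),(0,2),(0,2),(0,1),(1,1),(4,2),
    (4,2),(0,1),(7,2),(1,2),(1,2),(1,2),(0,1),(1,1),(8,2),(0,1),(0,2),(5,2),(0,2),(1,2),(0,2),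
    (9,2),(0,1),(0,1),(0,1),(12,2),(0,1),(1,2),(1,2),(18,1),(5,2),(1,2),(3,1),(0,2),(0,2),(0,1)],
   [(1,2),(1,2),(0,2),(0,2),(0,2),(0,1),(1,2),(0,1),(0,2),(3,2),(0,2),(6,1),(0,1),(4,2),(9,2),
    (0,2),(0,1),(1,1),(2,1),(13,1),(0,2),(0,1),(0,1),(6,1),(1,2),(0,1),(1,2),(0,2),(0,2),(5,1),
    (0,2),(0,1),(6,2),(1,2),(0,1),(0,2),(0,2),(1,1),(1,1),(0,1),(0,1),(0,2),(7,2),(4,2),(4,2),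
    (0,1),(0,1),(0,1),(1,2),(1,1),(1,2),(0,2),(5,2),(4,1),(0,1),(7,1),(0,2),(3,2),(5,2),(6,2),
    (1,1),(5,1),(0,2),(0,2),(4,1),(6,2),(0,1),(0,1),(13,2),(0,1),(0,2),(0,2),(0,2),(1,2),(0,1),
    (0,2),(9,2),(5,2),(5,1),(1,2),(3,2),(0,1),(1,1)],
   [(0,2),(0,1),(0,1),(2,1),(2,1),(2,2),(3,2),(0,1),(0,2),(5,1),(0,2),(4,2),(9,2),(0,2),(1,1),
    (0,1),(2,1),(0,2),(14,1),(7,2),(1,1),(0,2),(0,2),(1,2),(0,2),(5,1),(0,1),(7,1),(0,1),(0,2),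
    (0,1),(0,1),(0,1),(0,1),(0,2),(2,1),(0,2),(7,2),(0,1),(9,2),(0,1),(0,2),(0,2),(0,1),(0,1),
    (0,1),(0,1),(0,1),(13,1),(6,1),(0,2),(1,2),(3,1),(0,1),(3,2),(7,1),(0,1),(5,1),(0,2),(0,1),
    (2,1),(1,1),(8,2),(13,2),(0,2),(1,2),(3,1),(0,1),(0,2),(8,2),(4,2),(0,1),(5,2),(1,2),(4,1),
    (0,2),(0,2)],
   [(3,2),(0,2),(1,1),(0,1),(0,1),(0,2),(0,2),(4,1),(0,1),(0,2),(5,2),(15,1),(2,1),(0,1),(1,2),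
    (1,1),(15,1),(6,1),(0,2),(0,1),(0,1),(0,1),(0,1),(0,1),(0,1),(6,1),(0,1),(6,1),(1,1),(0,1),
    (0,1),(2,1),(2,2),(0,1),(0,2),(6,2),(5,1),(6,1),(0,2),(0,2),(2,2),(1,1),(0,1),(0,2),(4,1),
    (12,1),(6,2),(0,2),(0,2),(0,2),(0,1),(0,2),(7,1),(0,1),(5,1),(1,1),(2,2),(0,1),(7,2),(0,2),
    (14,1),(1,2),(0,2),(0,1),(0,1),(2,2),(9,2),(4,2),(8,2),(3,2)],
   [(0,1),(0,1),(0,2),(0,2),(0,2),(1,1),(0,1),(0,2),(0,2),(0,2),(4,1),(0,1),(6,2),(0,1),(4,2),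
    (8,2),(0,2),(0,1),(3,2),(2,1),(14,2),(9,2),(0,2),(0,1),(0,2),(0,1),(0,1),(5,1),(0,1),(8,2),
    (1,2),(0,1),(0,1),(1,1),(1,2),(0,2),(0,2),(0,1),(17,2),(1,2),(1,1),(4,2),(0,2),(0,2),(4,2),
    (4,2),(7,1),(1,1),(0,1),(1,2),(0,2),(0,2),(0,1),(0,2),(1,2),(8,2),(7,2),(0,1),(0,1),(0,1),
    (0,1),(0,2),(0,1),(6,2),(0,2),(0,1),(0,1),(13,1),(0,1),(0,1),(1,2),(0,1),(0,1),(1,2),(13,1),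
    (0,2),(5,1),(0,1),(0,2),(3,2),(1,2),(0,1)]]

/-- Rows of a matrix. -/
def matP4 : List (List (ℕ × ℕ)) :=
  [[(0,1),(0,2),(0,1),(0,1),(0,1),(0,1),(0,2),(3,2),(0,1),(3,1),(0,1),(0,2),(6,1),(4,2),(8,1),
    (0,1),(0,1),(0,2),(0,1),(0,1),(1,1),(0,2),(0,1),(12,2),(0,1),(0,1),(9,1),(0,2),(0,2),(1,2),
    (6,1),(0,2),(0,1),(6,1),(0,2),(1,2),(1,1),(0,2),(0,1),(1,2),(0,1),(8,1),(0,1),(4,2),(4,2),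
    (0,1),(0,2),(2,2),(0,2),(0,1),(8,2),(4,2),(7,2),(4,1),(0,1),(12,2),(1,2),(5,2),(0,2),(2,2),
    (0,2),(0,2),(0,2),(6,2),(1,1),(0,1),(12,1),(1,2),(0,1),(0,2),(1,2),(11,2),(5,2),(5,2),(1,2),
    (4,2)],
   [(1,2),(0,1),(0,2),(0,2),(1,2),(0,1),(0,2),(2,2),(3,2),(0,1),(0,2),(5,1),(0,1),(13,1),(0,2),
    (1,1),(0,2),(0,1),(0,1),(1,2),(0,2),(12,1),(1,1),(7,1),(0,1),(0,1),(0,2),(1,2),(1,1),(5,1),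
    (0,2),(7,2),(1,2),(0,1),(1,1),(0,2),(2,2),(1,2),(7,2),(11,1),(0,1),(0,2),(2,1),(0,1),(0,2),
    (0,2),(0,2),(0,1),(4,1),(14,2),(0,2),(2,2),(2,1),(0,1),(0,1),(0,1),(7,2),(0,2),(5,1),(2,2),
    (0,1),(1,1),(0,1),(6,2),(0,1),(1,2),(14,1),(6,1),(8,2),(4,2),(7,1),(4,1),(0,2),(1,1)],
   [(0,1),(1,2),(0,2),(0,1),(1,1),(2,1),(1,2),(3,1),(7,2),(0,1),(13,1),(0,1),(2,2),(0,1),(0,1),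
    (0,1),(0,1),(16,1),(6,2),(0,2),(0,2),(0,1),(0,2),(0,2),(8,1),(8,2),(0,1),(0,1),(0,2),(2,1),
    (1,1),(0,2),(0,2),(0,2),(6,1),(0,2),(4,2),(4,2),(0,2),(1,1),(0,2),(1,1),(0,1),(1,2),(1,1),
    (4,2),(4,2),(7,2),(0,1),(0,2),(0,2),(1,2),(2,2),(2,2),(0,1),(7,1),(6,2),(0,2),(0,2),(0,2),
    (0,2),(2,2),(7,1),(0,1),(0,2),(13,1),(1,1),(0,1),(0,2),(0,2),(0,2),(0,2),(0,2),(8,1),(5,1),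
    (7,2),(5,2),(0,1)],
   [(0,2),(1,2),(0,2),(1,1),(0,2),(1,2),(2,2),(3,1),(0,2),(0,1),(6,2),(4,2),(8,2),(1,1),(0,2),
    (1,1),(1,2),(1,1),(12,1),(0,1),(0,2),(8,1),(1,2),(0,2),(0,1),(0,2),(0,2),(6,1),(0,2),(6,1),
    (1,1),(1,1),(0,1),(0,2),(2,2),(1,1),(7,2),(5,1),(6,1),(2,1),(0,1),(0,2),(0,2),(7,2),(4,1),
    (0,1),(6,2),(0,2),(0,1),(0,1),(1,2),(0,2),(2,2),(0,2),(0,1),(0,2),(6,1),(0,1),(0,1),(5,1),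
    (2,2),(0,1),(0,2),(0,1),(7,1),(0,1),(0,2),(0,2),(13,1),(0,2),(1,2),(0,2),(3,2),(8,1),(4,1),
    (0,1),(7,1),(3,1),(0,1),(1,1)],
   [(1,2),(0,1),(2,2),(0,2),(0,1),(0,1),(0,1),(0,2),(0,2),(3,2),(0,1),(0,2),(5,1),(0,2),(14,1),
    (0,1),(0,2),(0,2),(0,2),(1,1),(1,1),(12,2),(0,2),(1,2),(6,1),(1,1),(2,2),(1,2),(7,2),(6,1),
    (0,1),(0,1),(1,2),(0,2),(1,2),(2,1),(0,1),(7,1),(12,2),(0,2),(0,2),(0,2),(0,2),(2,1),(1,1),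
    (4,2),(4,2),(7,2),(1,2),(0,1),(2,1),(0,1),(0,2),(0,2),(0,1),(0,1),(0,2),(6,1),(7,2),(0,2),
    (0,1),(0,2),(1,2),(0,1),(0,2),(6,1),(2,1),(14,1),(0,1),(1,1),(0,1),(1,2),(9,2),(5,1),(5,2),
    (0,2),(0,2),(3,1),(0,1),(1,1)],
   [(2,1),(0,2),(1,1),(1,2),(1,1),(0,2),(0,1),(3,1),(0,2),(6,2),(0,2),(13,2),(0,2),(1,2),(0,1),
    (0,2),(0,2),(2,2),(12,1),(0,1),(1,1),(6,1),(1,2),(0,1),(0,1),(0,2),(0,2),(0,2),(5,1),(1,2),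
    (6,2),(0,1),(1,1),(0,2),(0,1),(0,1),(2,1),(1,1),(7,2),(0,1),(4,2),(5,2),(1,1),(0,2),(1,1),
    (0,2),(2,2),(0,2),(9,2),(7,2),(0,1),(0,2),(0,2),(1,2),(1,2),(0,2),(0,1),(2,1),(8,1),(5,2),
    (1,1),(0,1),(0,2),(0,2),(0,2),(0,2),(6,2),(0,2),(1,2),(13,2),(0,1),(0,2),(0,2),(0,2),(2,2),
    (0,1),(8,1),(4,1),(6,1),(5,2),(0,1),(1,2)],
   [(0,2),(1,2),(1,2),(5,2),(6,1),(20,1),(0,1),(0,1),(2,2),(0,2),(17,2),(0,2),(6,1),(0,2),(0,2),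
    (0,1),(1,2),(1,1),(5,1),(1,2),(8,2),(0,2),(2,2),(0,2),(3,1),(0,2),(6,1),(5,2),(4,2),(1,2),
    (4,2),(0,1),(0,2),(1,2),(9,2),(0,2),(6,2),(0,1),(1,2),(1,1),(2,1),(2,1),(8,2),(0,1),(6,2),
    (0,2),(0,2),(0,2),(0,1),(0,1),(0,1),(6,2),(0,1),(0,2),(0,1),(12,1),(0,1),(0,2),(1,1),(0,1),
    (0,1),(0,2),(1,2),(8,2),(5,2),(5,1),(0,2),(0,1),(3,2),(1,2),(0,1)],
   [(0,1),(0,1),(0,2),(0,2),(3,1),(0,2),(0,1),(0,2),(4,2),(0,2),(0,1),(6,1),(4,1),(8,2),(0,1),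
    (0,2),(0,1),(0,1),(2,1),(1,2),(12,1),(0,2),(0,2),(0,2),(6,2),(0,1),(1,2),(0,2),(0,2),(0,1),
    (0,2),(6,2),(0,2),(6,2),(0,2),(0,1),(0,1),(1,2),(0,1),(0,2),(1,1),(0,2),(0,2),(0,1),(6,1),
    (0,1),(4,2),(4,1),(0,2),(0,1),(0,2),(1,1),(0,2),(0,2),(1,2),(0,2),(0,1),(4,2),(5,2),(8,2),
    (0,2),(1,1),(3,2),(0,1),(0,2),(0,1),(6,1),(1,2),(5,1),(0,2),(1,1),(0,1),(1,1),(0,1),(8,2),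
    (13,1),(0,1),(0,1),(1,1),(0,2),(0,2),(0,1),(0,2),(0,1),(8,2),(4,2),(0,2),(5,2),(0,1),(0,1),
    (6,2)]]

/-- Rows of a matrix. -/
def matP5 : List (List (ℕ × ℕ)) :=
  [[(0,1),(2,2),(0,2),(0,1),(0,2),(0,1),(2,2),(0,2),(3,1),(0,2),(7,1),(14,1),(1,2),(2,1),(0,2),
    (0,2),(0,1),(12,2),(0,2),(1,1),(6,1),(1,2),(0,1),(0,2),(1,1),(6,1),(0,1),(0,2),(6,2),(2,2),
    (0,1),(0,2),(0,1),(0,1),(3,2),(0,1),(12,2),(4,1),(1,2),(0,1),(0,2),(0,1),(1,2),(0,1),(0,2),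
    (1,1),(9,2),(8,1),(0,1),(0,1),(1,2),(1,2),(0,2),(0,2),(0,1),(1,1),(7,2),(0,2),(5,2),(1,2),
    (0,1),(0,1),(0,1),(0,2),(7,2),(1,1),(13,1),(2,2),(0,1),(1,1),(0,2),(0,2),(0,2),(8,1),(4,1),
    (0,2),(5,2),(1,1),(3,2),(0,2),(0,1),(0,2)],
   [(0,2),(0,1),(0,1),(0,2),(0,2),(1,2),(1,2),(0,1),(0,2),(0,2),(3,2),(0,1),(6,2),(0,2),(4,2),
    (10,2),(1,2),(0,2),(0,1),(0,2),(0,1),(14,1),(0,1),(0,2),(6,2),(2,2),(0,1),(0,1),(1,1),(6,2),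
    (0,1),(7,1),(0,2),(0,1),(0,1),(1,2),(0,1),(1,2),(0,1),(0,1),(0,1),(6,2),(0,1),(9,2),(0,2),
    (0,2),(0,2),(1,1),(0,2),(0,2),(0,1),(0,1),(0,1),(0,1),(4,2),(13,1),(0,2),(0,1),(2,1),(1,2),
    (0,1),(0,2),(1,1),(6,1),(0,2),(6,1),(0,1),(0,1),(0,2),(0,1),(0,2),(1,1),(6,2),(0,1),(0,2),
    (13,1),(1,1),(1,2),(1,2),(0,2),(1,2),(8,1),(4,1),(6,1),(0,2),(0,1),(3,2),(2,1)],
   [(1,2),(0,2),(1,1),(0,2),(2,2),(0,2),(0,1),(0,2),(4,1),(0,2),(6,2),(4,1),(8,1),(0,1),(1,2),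
    (1,1),(0,1),(0,2),(0,2),(13,1),(0,2),(1,1),(8,2),(0,1),(2,1),(6,1),(1,1),(6,1),(0,1),(0,1),
    (0,2),(0,2),(1,2),(2,1),(0,2),(0,2),(0,1),(6,2),(5,2),(4,1),(0,1),(0,1),(0,2),(3,2),(0,1),
    (0,2),(0,1),(0,2),(4,2),(12,1),(1,2),(0,1),(3,1),(0,1),(2,2),(7,1),(0,2),(0,2),(5,1),(2,2),
    (0,1),(0,2),(0,1),(7,1),(0,2),(1,1),(12,2),(0,2),(1,2),(0,1),(0,2),(0,2),(0,2),(0,1),(14,1),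
    (0,2),(5,2),(0,1),(4,2),(1,1)],
   [(0,2),(2,1),(0,2),(0,1),(2,2),(0,2),(1,1),(3,2),(0,1),(0,2),(11,1),(8,2),(1,1),(3,1),(0,1),
    (0,2),(13,1),(2,1),(6,1),(1,2),(0,2),(0,2),(0,2),(1,2),(5,1),(0,1),(0,2),(6,1),(1,1),(1,2),
    (0,1),(0,2),(0,1),(1,1),(1,1),(0,2),(6,2),(0,2),(4,2),(4,2),(0,2),(0,1),(0,1),(0,2),(0,2),
    (0,1),(0,2),(0,2),(0,1),(0,2),(0,1),(4,2),(5,2),(6,2),(0,2),(1,1),(1,2),(0,2),(0,2),(0,2),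
    (0,2),(0,2),(0,1),(0,1),(6,2),(7,1),(2,1),(0,1),(0,2),(0,2),(7,2),(0,1),(0,1),(0,2),(12,2),
    (1,2),(1,2),(0,1),(0,1),(0,1),(0,2),(0,1),(22,1),(3,1),(0,1),(0,2),(0,2)],
   [(2,2),(0,1),(3,2),(0,2),(1,2),(0,2),(4,2),(7,1),(4,1),(9,2),(0,1),(1,2),(0,2),(0,2),(1,1),
    (13,2),(0,2),(0,1),(0,1),(6,1),(3,1),(0,2),(9,1),(6,2),(0,2),(0,1),(1,2),(0,1),(0,1),(2,2),
    (0,2),(14,2),(4,2),(1,2),(1,1),(0,1),(0,2),(0,2),(0,1),(0,1),(1,2),(4,1),(5,2),(6,1),(0,2),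
    (0,1),(0,2),(1,2),(0,1),(0,1),(1,2),(0,2),(0,2),(7,2),(0,1),(0,1),(6,2),(0,2),(0,2),(0,2),
    (0,1),(0,2),(8,2),(1,1),(12,1),(0,2),(1,2),(1,2),(1,1),(0,1),(14,2),(6,2),(0,1),(4,1),(0,2),
    (0,1)],
   [(0,1),(0,1),(0,1),(2,2),(0,2),(3,1),(0,2),(4,2),(0,2),(5,2),(0,2),(4,2),(10,1),(1,1),(0,2),
    (0,2),(0,1),(14,2),(0,1),(1,1),(6,2),(0,2),(0,1),(0,1),(0,2),(0,2),(0,1),(0,1),(5,1),(9,1),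
    (1,2),(0,2),(0,2),(1,1),(1,2),(0,1),(0,1),(0,1),(6,2),(5,1),(5,2),(0,1),(0,2),(0,2),(2,1),
    (0,2),(0,2),(0,1),(5,2),(4,2),(0,1),(6,2),(0,1),(1,2),(1,2),(0,2),(0,2),(1,1),(1,2),(0,1),
    (8,1),(5,2),(0,2),(1,1),(0,2),(2,2),(7,2),(1,1),(14,2),(1,2),(0,1),(0,1),(0,2),(1,1),(8,1),
    (4,2),(0,2),(5,2),(6,1),(0,1),(0,2)],
   [(0,2),(0,1),(0,2),(0,2),(1,1),(0,2),(0,1),(1,1),(0,1),(0,1),(4,2),(0,1),(11,2),(8,2),(1,1),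
    (2,2),(1,1),(0,1),(16,2),(6,2),(1,2),(1,1),(1,2),(0,2),(6,1),(0,1),(9,1),(1,1),(1,1),(1,2),
    (0,1),(1,1),(7,2),(12,1),(4,1),(0,2),(0,1),(0,2),(4,1),(4,1),(8,1),(0,1),(0,2),(2,2),(0,2),
    (0,1),(0,1),(0,1),(1,1),(7,1),(0,1),(9,2),(1,2),(0,1),(6,1),(0,2),(18,2),(0,2),(0,1),(1,2),
    (15,1),(6,2),(0,1),(4,2),(0,1),(0,1)],
   [(0,2),(0,1),(2,2),(1,2),(0,2),(0,2),(1,2),(0,2),(3,2),(0,1),(6,1),(5,1),(9,2),(1,1),(0,2),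
    (1,1),(1,1),(13,2),(0,2),(0,1),(0,1),(7,2),(1,1),(0,2),(0,2),(1,1),(5,1),(0,2),(8,2),(0,1),
    (0,2),(0,2),(0,1),(0,1),(2,1),(0,2),(0,1),(0,2),(6,2),(0,2),(9,1),(2,1),(0,1),(2,2),(8,2),
    (4,2),(0,1),(8,1),(0,1),(2,2),(0,1),(0,1),(0,2),(1,2),(0,2),(7,1),(0,1),(5,1),(2,2),(0,1),
    (0,2),(0,2),(7,1),(0,1),(0,1),(0,2),(12,2),(0,2),(0,1),(0,2),(3,1),(0,1),(0,2),(8,1),(4,1),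
    (0,2),(5,1),(0,1),(0,2),(3,2),(1,1)]]

/-- Rows of a matrix. -/
def matP6 : List (List (ℕ × ℕ)) :=
  [[(2,1),(0,2),(1,1),(0,2),(0,2),(1,2),(0,1),(0,2),(3,1),(7,2),(14,2),(1,1),(2,2),(3,1),(15,2),
    (6,1),(2,1),(2,2),(0,1),(5,2),(11,1),(5,2),(1,1),(0,2),(12,1),(4,1),(0,2),(0,2),(0,2),(0,1),
    (1,2),(3,2),(0,1),(9,1),(0,2),(6,1),(0,1),(0,2),(0,2),(1,2),(1,2),(0,2),(2,1),(0,1),(6,2),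
    (0,2),(7,2),(0,1),(0,1),(0,2),(0,2),(1,2),(6,2),(0,2),(0,1),(0,2),(12,1),(1,2),(0,1),(0,1),
    (1,2),(0,1),(0,2),(9,2),(11,2),(0,2),(0,2),(3,2),(0,2),(0,1)],
   [(0,1),(0,2),(1,2),(0,1),(1,1),(1,1),(1,2),(4,1),(0,1),(0,1),(5,1),(0,1),(13,1),(0,2),(0,1),
    (1,1),(0,1),(0,1),(0,1),(0,1),(0,1),(12,2),(0,1),(0,1),(0,2),(6,1),(1,1),(1,2),(9,2),(0,2),
    (6,2),(0,2),(0,2),(0,2),(0,2),(0,2),(0,1),(0,2),(2,2),(0,1),(0,2),(6,2),(0,1),(9,1),(0,1),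
    (2,1),(0,1),(0,1),(0,2),(0,2),(1,1),(0,1),(4,1),(4,2),(0,1),(8,1),(2,1),(0,2),(0,2),(0,1),
    (0,2),(0,2),(1,1),(6,1),(1,2),(6,1),(0,2),(1,1),(0,1),(0,2),(0,1),(6,1),(2,1),(18,2),(1,2),
    (0,1),(14,2),(6,1),(0,1),(5,1)],
   [(0,2),(0,1),(1,1),(0,1),(1,2),(0,1),(0,2),(0,2),(0,2),(4,2),(0,1),(0,1),(5,1),(5,2),(9,1),
    (0,1),(0,1),(1,2),(0,2),(0,2),(0,2),(0,2),(12,2),(1,2),(7,1),(0,2),(0,1),(3,1),(8,2),(7,1),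
    (0,2),(0,1),(0,2),(0,2),(0,2),(0,1),(1,1),(0,1),(0,2),(0,1),(7,1),(11,2),(1,1),(0,1),(0,1),
    (1,2),(0,2),(0,1),(0,2),(4,2),(4,2),(0,1),(8,1),(0,1),(1,1),(0,1),(0,1),(4,2),(6,2),(0,2),
    (0,2),(6,2),(0,1),(0,1),(0,2),(1,2),(0,1),(6,2),(1,1),(0,2),(16,1),(0,1),(0,1),(0,1),(0,1),
    (0,2),(8,1),(5,2),(5,2),(0,1),(0,2),(3,1),(0,1),(0,2),(0,1)],
   [(0,1),(0,1),(0,2),(0,1),(0,1),(0,1),(2,2),(1,2),(0,1),(4,1),(6,2),(0,2),(13,2),(1,2),(1,1),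
    (1,1),(0,1),(1,2),(12,1),(0,2),(0,2),(0,2),(6,1),(1,2),(0,1),(0,2),(0,2),(0,2),(7,2),(0,2),
    (6,2),(1,1),(1,2),(0,2),(0,1),(0,2),(1,1),(0,1),(0,1),(8,1),(4,2),(4,2),(1,2),(1,1),(1,2),
    (0,1),(2,1),(10,2),(0,2),(7,2),(1,2),(2,1),(0,2),(1,2),(1,1),(7,1),(0,2),(0,1),(6,1),(0,2),
    (0,2),(0,2),(1,2),(7,1),(0,1),(0,2),(0,2),(13,2),(2,2),(0,2),(2,1),(0,2),(8,1),(4,1),(0,2),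
    (7,2),(3,2),(0,1),(0,1),(0,2)],
   [(1,1),(0,1),(1,2),(0,1),(4,1),(0,2),(4,2),(0,2),(5,2),(0,1),(4,1),(8,1),(1,2),(0,1),(3,1),
    (16,1),(0,2),(6,1),(2,1),(0,2),(0,2),(1,2),(5,2),(1,2),(6,2),(0,2),(1,1),(1,2),(0,1),(0,1),
    (2,1),(8,1),(0,1),(4,1),(5,2),(0,1),(0,2),(0,2),(0,2),(0,2),(1,2),(0,2),(1,1),(17,1),(0,2),
    (0,2),(3,2),(0,1),(1,1),(0,1),(0,2),(7,1),(0,2),(7,2),(0,2),(0,1),(0,1),(1,2),(0,1),(6,1),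
    (0,1),(0,1),(0,2),(12,1),(0,2),(2,1),(2,2),(0,1),(0,2),(8,2),(4,2),(6,2),(0,2),(0,1),(3,2),
    (2,2)],
   [(0,2),(0,2),(1,2),(0,2),(0,1),(0,1),(1,1),(0,2),(0,1),(0,2),(3,2),(0,1),(0,2),(5,2),(0,2),
    (13,1),(0,1),(2,1),(1,2),(0,1),(0,2),(0,2),(12,2),(0,1),(1,1),(7,2),(0,2),(2,1),(0,1),(0,1),
    (5,2),(0,2),(0,2),(6,1),(0,2),(1,1),(0,2),(0,1),(0,2),(0,1),(1,1),(1,1),(0,1),(7,2),(4,1),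
    (4,1),(2,2),(0,1),(1,1),(0,2),(1,2),(1,2),(4,1),(4,1),(0,2),(6,2),(0,2),(0,2),(2,2),(2,2),
    (0,2),(0,1),(1,1),(6,2),(0,2),(0,2),(5,1),(0,2),(1,1),(0,2),(1,1),(0,2),(6,1),(0,2),(0,1),
    (0,2),(12,2),(0,1),(0,1),(0,1),(0,2),(0,1),(1,2),(1,2),(8,1),(5,1),(7,1),(4,1),(1,2)],
   [(0,1),(0,2),(1,1),(1,2),(2,2),(0,1),(7,2),(11,2),(8,2),(0,2),(0,2),(0,2),(0,2),(1,2),(1,2),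
    (0,1),(12,1),(1,2),(0,2),(7,1),(0,2),(2,2),(1,2),(5,2),(0,1),(0,2),(8,1),(1,2),(0,1),(1,1),
    (3,2),(0,1),(17,2),(0,2),(0,2),(1,2),(0,2),(0,2),(1,2),(0,1),(0,2),(0,2),(17,1),(1,1),(0,1),
    (1,2),(0,2),(0,2),(0,2),(0,2),(9,2),(0,2),(0,1),(7,1),(0,1),(1,2),(0,1),(0,1),(6,2),(0,2),
    (0,2),(0,2),(12,2),(1,1),(0,1),(1,2),(0,1),(0,1),(0,1),(0,2),(8,2),(4,2),(0,2),(6,1),(4,1),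
    (0,1),(1,1)],
   [(0,1),(0,2),(0,1),(0,1),(0,1),(4,1),(0,1),(4,1),(0,1),(0,1),(5,2),(0,1),(4,1),(8,1),(1,1),
    (0,2),(0,2),(0,2),(0,2),(0,2),(0,1),(0,2),(12,1),(0,1),(1,2),(6,2),(1,1),(0,1),(0,2),(1,1),
    (0,1),(5,1),(9,2),(0,1),(0,2),(0,1),(0,2),(0,2),(0,1),(1,2),(0,1),(0,2),(0,1),(6,1),(0,2),
    (4,1),(4,2),(1,1),(0,1),(0,1),(0,2),(1,2),(1,1),(1,2),(4,1),(4,2),(0,1),(6,2),(0,1),(0,2),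
    (0,2),(2,2),(2,2),(0,1),(1,2),(8,1),(5,2),(0,1),(0,1),(1,1),(1,2),(0,2),(6,1),(0,1),(0,2),
    (13,1),(0,2),(0,1),(1,1),(0,1),(2,1),(9,1),(4,1),(0,1),(5,2),(1,1),(3,1),(0,2),(0,1)]]

/-- Rows of a matrix. -/
def matP7 : List (List (ℕ × ℕ)) :=
  [[(0,1),(1,1),(1,1),(0,2),(0,1),(0,1),(1,2),(1,2),(4,1),(0,1),(11,1),(8,2),(0,2),(1,2),(0,1),
    (0,2),(0,1),(1,2),(13,2),(2,1),(7,1),(0,1),(0,1),(1,1),(8,1),(0,2),(6,2),(0,1),(1,1),(1,2),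
    (1,2),(2,1),(8,2),(0,2),(4,1),(8,1),(1,1),(0,2),(1,1),(0,2),(0,1),(4,1),(4,2),(0,1),(6,2),
    (0,1),(4,1),(0,1),(0,2),(0,2),(2,1),(6,1),(0,2),(0,2),(9,1),(1,2),(8,1),(1,2),(12,1),(1,2),
    (0,2),(0,1),(0,2),(0,2),(0,2),(0,2),(0,1),(8,2),(5,2),(5,2),(0,1),(0,2),(6,1)],
   [(1,1),(5,1),(0,1),(0,2),(0,1),(4,1),(1,2),(6,2),(4,1),(9,2),(0,2),(0,2),(0,2),(0,2),(0,1),
    (1,2),(13,1),(1,2),(0,1),(7,2),(1,2),(0,1),(0,2),(0,2),(0,2),(6,1),(7,2),(4,2),(0,1),(0,2),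
    (1,1),(1,2),(0,2),(12,2),(4,1),(0,2),(1,1),(0,2),(1,2),(0,1),(0,2),(0,1),(1,1),(4,1),(5,2),
    (6,1),(0,2),(0,1),(2,1),(1,2),(2,2),(0,2),(8,1),(7,2),(4,2),(0,2),(8,2),(0,2),(12,2),(0,2),
    (0,2),(0,2),(1,2),(0,1),(0,2),(1,1),(8,2),(4,1),(0,2),(5,2),(0,2),(4,1)],
   [(1,2),(0,2),(0,2),(0,1),(0,2),(0,1),(1,2),(0,2),(0,2),(4,1),(0,1),(0,1),(6,2),(4,1),(10,2),
    (0,2),(0,2),(3,1),(13,2),(1,2),(0,2),(7,2),(0,2),(1,1),(0,2),(1,2),(5,2),(0,2),(7,2),(1,1),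
    (0,1),(0,1),(0,2),(5,1),(0,1),(6,2),(5,1),(4,1),(0,2),(0,1),(1,2),(0,1),(0,2),(0,1),(0,1),
    (0,2),(1,2),(4,2),(4,2),(0,1),(6,2),(0,1),(1,1),(1,1),(0,1),(0,2),(0,1),(1,1),(0,2),(0,1),
    (7,2),(0,2),(7,2),(0,1),(1,2),(0,2),(0,1),(6,2),(1,2),(0,2),(12,1),(0,2),(1,1),(1,1),(0,2),
    (0,2),(10,1),(4,1),(0,1),(6,1),(0,1),(3,2),(0,1),(0,2)],
   [(0,1),(0,1),(0,1),(0,2),(1,2),(0,2),(1,1),(0,1),(0,2),(4,2),(0,2),(0,1),(5,2),(0,2),(4,2),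
    (8,1),(0,1),(1,2),(1,1),(1,2),(0,2),(0,2),(12,2),(0,2),(0,2),(0,1),(6,2),(0,2),(0,2),(1,1),
    (1,2),(0,2),(5,1),(0,1),(9,1),(0,1),(0,1),(0,1),(0,2),(3,2),(1,1),(17,1),(0,2),(0,2),(2,2),
    (1,1),(0,1),(7,1),(4,1),(7,1),(0,2),(1,2),(1,2),(0,2),(0,1),(0,2),(0,2),(0,2),(0,2),(0,2),
    (6,1),(0,2),(0,1),(8,2),(0,1),(0,2),(0,1),(0,1),(6,1),(0,1),(0,1),(13,1),(0,2),(0,2),(0,1),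
    (0,2),(0,1),(0,2),(2,2),(13,1),(0,1),(6,1),(0,2),(3,2),(0,1),(0,2),(0,2)],
   [(0,2),(1,1),(0,2),(0,1),(0,1),(1,2),(0,1),(0,1),(1,1),(3,1),(8,2),(4,1),(9,2),(0,2),(0,1),
    (0,1),(0,1),(0,1),(0,2),(0,1),(0,1),(14,1),(0,2),(6,2),(0,2),(0,1),(0,2),(2,1),(6,1),(12,1),
    (0,1),(0,1),(5,1),(6,1),(11,2),(1,1),(0,1),(0,2),(0,2),(0,2),(0,2),(2,1),(10,1),(6,1),(0,1),
    (0,1),(2,1),(0,2),(1,1),(2,2),(7,1),(1,1),(5,1),(0,1),(2,1),(0,1),(8,1),(0,2),(15,2),(0,2),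
    (0,1),(0,1),(0,1),(0,2),(1,2),(0,1),(14,1),(5,1),(0,2),(0,1),(3,1),(0,1),(0,1),(0,1)],
   [(0,1),(0,2),(0,2),(0,2),(2,2),(0,1),(0,1),(1,2),(0,1),(3,1),(1,1),(5,2),(0,2),(4,1),(11,1),
    (2,2),(2,2),(22,1),(1,2),(0,2),(0,1),(8,2),(1,2),(8,1),(0,1),(0,2),(0,2),(0,2),(0,1),(3,1),
    (0,2),(7,1),(4,1),(4,1),(1,1),(1,1),(1,1),(0,1),(0,2),(0,1),(0,1),(0,1),(10,2),(6,1),(0,2),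
    (0,2),(2,1),(0,2),(1,2),(1,1),(0,2),(0,2),(6,1),(0,1),(0,1),(5,2),(0,2),(0,1),(1,1),(0,2),
    (1,2),(7,1),(14,1),(0,1),(0,2),(1,1),(1,1),(0,1),(0,1),(0,2),(8,2),(4,1),(0,2),(6,2),(0,2),
    (4,2),(0,1),(0,1)],
   [(0,1),(0,2),(0,1),(0,2),(0,1),(1,1),(1,2),(0,1),(0,2),(0,2),(3,2),(0,1),(7,1),(4,1),(8,1),
    (3,1),(0,1),(0,2),(1,1),(0,2),(12,2),(0,2),(0,1),(8,1),(0,2),(1,2),(0,1),(7,2),(1,2),(6,1),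
    (0,2),(0,2),(1,2),(0,2),(0,1),(2,2),(0,1),(1,2),(6,2),(0,2),(10,2),(1,2),(0,2),(0,1),(0,2),
    (2,1),(0,1),(0,1),(4,2),(4,2),(8,1),(0,2),(6,1),(0,1),(0,2),(0,1),(6,1),(0,1),(0,2),(5,1),
    (0,1),(0,2),(0,1),(0,2),(0,1),(0,1),(0,2),(6,1),(15,1),(0,2),(0,1),(0,2),(0,1),(3,1),(0,2),
    (13,1),(6,1),(5,2),(1,2),(0,2)],
   [(0,2),(0,2),(2,1),(0,1),(1,1),(0,1),(7,1),(0,1),(6,2),(4,1),(8,1),(3,1),(0,1),(2,2),(0,2),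
    (14,2),(8,1),(0,1),(1,2),(0,2),(0,2),(0,2),(5,1),(8,2),(3,1),(0,1),(0,1),(0,2),(2,1),(0,2),
    (0,2),(6,2),(10,2),(0,1),(2,2),(2,1),(0,1),(0,2),(0,1),(0,1),(4,2),(4,2),(7,2),(2,1),(1,1),
    (2,1),(0,1),(0,2),(8,1),(0,1),(0,2),(5,1),(1,2),(0,2),(3,1),(6,1),(0,2),(1,2),(12,2),(0,1),
    (1,2),(0,1),(0,1),(0,1),(0,1),(0,1),(14,2),(7,1),(0,1),(4,2),(0,1)]]

/-- Rows of a matrix. -/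
def matP8 : List (List (ℕ × ℕ)) :=
  [[(0,1),(0,1),(2,2),(0,1),(0,2),(0,1),(0,1),(1,1),(0,1),(3,1),(1,1),(5,2),(0,2),(15,1),(0,2),
    (1,1),(0,2),(1,2),(13,2),(0,2),(0,2),(0,1),(6,2),(2,1),(0,2),(8,1),(0,1),(0,1),(6,1),(0,1),
    (0,1),(0,1),(0,2),(0,2),(0,1),(2,2),(0,1),(0,2),(0,1),(6,1),(5,1),(5,1),(0,1),(0,2),(0,1),
    (0,1),(0,2),(0,1),(0,2),(1,2),(5,2),(5,1),(7,2),(0,1),(2,2),(0,1),(1,1),(0,2),(2,1),(8,1),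
    (5,2),(0,1),(1,2),(1,1),(0,2),(0,2),(7,1),(1,2),(12,1),(0,2),(0,2),(0,1),(1,2),(2,2),(0,1),
    (8,2),(5,1),(5,1),(5,1),(0,2),(1,2)],
   [(1,1),(0,1),(2,2),(1,1),(0,2),(2,1),(3,2),(1,2),(20,1),(0,1),(0,2),(0,2),(0,2),(0,1),(0,2),
    (0,1),(1,1),(12,2),(0,2),(0,2),(7,1),(0,2),(1,2),(0,1),(0,2),(0,1),(0,1),(6,1),(7,1),(0,1),
    (0,2),(0,2),(0,2),(0,1),(0,2),(2,2),(0,1),(1,1),(7,2),(4,1),(4,2),(0,1),(0,2),(1,2),(0,2),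
    (0,2),(0,2),(1,1),(0,1),(0,2),(4,2),(4,2),(0,1),(6,2),(0,1),(0,2),(0,2),(6,2),(1,1),(6,1),
    (1,1),(7,2),(0,2),(0,2),(0,2),(1,1),(6,2),(1,1),(0,2),(13,1),(0,2),(0,1),(0,2),(0,1),(0,2),
    (0,1),(1,1),(8,2),(4,2),(0,2),(5,2),(0,1),(0,2),(3,2),(1,1)],
   [(4,2),(1,1),(2,2),(0,1),(0,1),(3,1),(0,1),(6,2),(0,1),(4,2),(12,1),(2,2),(1,1),(12,2),(0,1),
    (1,2),(7,2),(0,1),(1,1),(0,1),(1,1),(5,1),(1,1),(7,2),(0,2),(0,2),(0,2),(0,2),(0,1),(3,2),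
    (0,2),(0,1),(6,1),(0,2),(4,2),(5,2),(0,2),(0,2),(0,2),(1,2),(0,2),(0,1),(1,2),(0,2),(9,2),
    (0,2),(6,2),(0,2),(1,2),(1,2),(1,2),(0,2),(0,2),(1,2),(0,2),(6,2),(0,1),(6,2),(1,1),(0,2),
    (0,1),(0,1),(0,1),(0,1),(6,1),(0,2),(1,2),(12,2),(0,1),(0,1),(0,2),(0,1),(0,1),(1,2),(1,2),
    (8,1),(4,1),(7,2),(4,1),(2,2)],
   [(0,1),(0,1),(0,1),(0,2),(2,1),(0,1),(0,2),(0,1),(0,2),(4,2),(0,2),(7,1),(13,2),(0,1),(0,2),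
    (0,1),(0,1),(4,1),(12,2),(0,1),(0,2),(0,2),(6,2),(0,1),(0,1),(0,2),(1,2),(0,2),(7,2),(0,2),
    (7,1),(0,1),(0,1),(0,1),(0,1),(0,1),(0,2),(2,2),(0,2),(7,2),(5,1),(4,2),(0,1),(0,1),(0,2),
    (0,2),(2,1),(1,1),(0,2),(10,1),(7,2),(6,1),(0,1),(1,1),(0,2),(15,1),(1,2),(0,1),(2,1),(0,1),
    (6,2),(2,2),(12,2),(0,2),(2,1),(3,2),(0,2),(13,2),(0,2),(5,1),(0,2),(0,1),(3,1),(0,2),(1,1)],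
   [(1,2),(0,1),(0,2),(1,1),(0,2),(2,1),(1,1),(4,1),(12,2),(8,1),(0,1),(0,1),(0,1),(0,1),(0,1),
    (1,1),(1,2),(13,2),(0,1),(0,1),(6,2),(0,2),(4,1),(0,1),(6,1),(8,1),(1,2),(0,1),(0,2),(0,2),
    (0,1),(2,1),(0,2),(0,2),(12,1),(5,1),(0,1),(1,1),(0,2),(0,1),(0,1),(0,2),(0,1),(0,2),(0,1),
    (9,1),(0,1),(7,2),(0,2),(0,2),(1,1),(0,2),(0,2),(0,2),(1,2),(0,1),(8,2),(0,2),(6,1),(2,1),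
    (2,2),(6,1),(0,2),(0,2),(0,1),(12,1),(0,2),(0,1),(1,2),(1,1),(0,1),(0,2),(0,1),(8,2),(4,2),
    (0,1),(5,1),(0,1),(0,1),(4,2),(0,2),(0,1)],
   [(2,1),(0,1),(0,1),(0,2),(0,2),(0,1),(0,1),(0,2),(0,1),(0,2),(3,2),(0,1),(0,1),(5,2),(0,1),
    (4,2),(8,2),(0,1),(1,1),(0,2),(0,2),(0,2),(0,1),(0,1),(14,2),(0,1),(7,2),(0,1),(1,2),(0,1),
    (1,1),(0,2),(5,2),(8,2),(0,2),(3,2),(0,2),(2,2),(0,1),(0,2),(0,2),(6,1),(0,2),(4,2),(4,1),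
    (0,1),(0,1),(3,1),(1,1),(0,2),(0,2),(10,2),(0,1),(6,1),(0,1),(0,2),(0,1),(1,2),(2,1),(1,1),
    (8,1),(1,2),(5,2),(0,1),(2,1),(2,2),(6,1),(0,1),(0,1),(16,2),(1,1),(1,1),(1,2),(13,1),(0,1),
    (5,2),(0,1),(4,2),(0,1),(0,1)],
   [(0,1),(0,2),(0,2),(0,1),(0,2),(0,1),(0,2),(1,1),(1,2),(0,2),(3,2),(0,1),(0,1),(5,1),(5,2),
    (11,1),(1,1),(0,2),(1,2),(0,2),(12,2),(0,1),(1,2),(6,1),(1,2),(0,2),(0,1),(9,2),(0,1),(8,2),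
    (1,1),(6,2),(0,2),(6,1),(10,2),(0,2),(0,1),(0,1),(1,2),(0,1),(0,1),(0,1),(0,2),(0,1),(0,1),
    (4,1),(4,1),(7,1),(1,1),(0,1),(1,2),(4,2),(1,1),(7,2),(0,1),(5,2),(0,2),(0,2),(11,1),(0,1),
    (0,2),(0,1),(12,2),(0,2),(0,1),(0,2),(2,2),(1,1),(0,2),(13,1),(7,1),(0,1),(4,2),(0,2)],
   [(0,2),(0,2),(0,2),(0,1),(0,1),(0,2),(0,1),(0,1),(0,2),(0,1),(1,2),(4,2),(0,1),(11,2),(8,1),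
    (0,2),(0,1),(1,1),(0,1),(0,1),(0,2),(1,1),(22,2),(0,2),(1,2),(0,1),(0,2),(1,2),(5,2),(0,2),
    (8,1),(0,2),(0,2),(0,2),(1,1),(0,2),(1,2),(0,1),(0,1),(0,2),(6,2),(0,2),(4,2),(5,2),(0,1),
    (0,2),(0,2),(0,1),(1,2),(0,1),(0,1),(0,2),(0,1),(4,2),(12,2),(0,1),(4,1),(0,1),(0,1),(1,1),
    (0,1),(7,1),(0,1),(0,1),(5,1),(0,2),(1,1),(0,2),(0,1),(0,1),(0,2),(6,2),(0,1),(1,2),(12,1),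
    (4,1),(1,2),(1,2),(8,2),(4,2),(0,2),(5,1),(0,2),(4,2),(0,1),(0,1),(0,2)]]

/-- Rows of a matrix. -/
def matP9 : List (List (ℕ × ℕ)) :=
  [[(0,1),(0,1),(0,2),(3,1),(0,2),(0,2),(0,2),(0,1),(4,1),(0,1),(0,1),(5,1),(5,2),(8,1),(0,1),
    (1,2),(0,1),(0,2),(0,2),(0,2),(0,2),(0,1),(12,2),(0,2),(1,1),(6,1),(1,2),(0,2),(0,1),(0,1),
    (0,2),(0,1),(5,2),(0,2),(7,1),(0,2),(0,2),(1,1),(4,1),(2,1),(12,1),(4,2),(1,2),(1,2),(0,1),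
    (0,2),(1,1),(0,2),(0,2),(0,2),(9,2),(0,2),(6,1),(0,1),(3,2),(0,1),(0,1),(0,1),(0,2),(18,1),
    (0,1),(1,1),(0,2),(0,1),(7,2),(0,2),(1,1),(12,1),(1,2),(0,1),(1,2),(0,1),(0,1),(0,1),(9,1),
    (4,2),(6,1),(5,2),(0,1)],
   [(0,2),(0,1),(1,1),(0,1),(2,1),(0,2),(2,2),(3,1),(0,1),(0,1),(5,2),(0,2),(16,1),(0,2),(1,1),
    (0,1),(1,1),(12,1),(0,2),(1,1),(7,2),(3,2),(1,2),(5,2),(1,1),(6,1),(0,2),(2,1),(4,2),(0,2),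
    (0,1),(7,1),(0,2),(4,2),(5,2),(0,2),(0,2),(1,1),(0,1),(0,1),(0,2),(0,2),(1,1),(4,2),(4,1),
    (0,1),(6,1),(1,1),(0,1),(1,2),(0,2),(0,2),(1,1),(1,1),(0,1),(6,1),(0,2),(6,2),(0,1),(1,1),
    (0,2),(9,1),(0,2),(14,2),(0,1),(1,1),(0,2),(1,2),(0,2),(0,1),(0,2),(8,2),(4,1),(0,2),(5,2),
    (0,2),(4,1),(0,1),(0,2),(0,2)],
   [(0,1),(1,1),(3,1),(0,1),(0,1),(7,2),(0,2),(5,1),(5,1),(9,1),(0,2),(0,1),(2,1),(0,1),(0,1),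
    (0,1),(12,1),(0,1),(8,1),(0,1),(0,2),(0,2),(0,2),(1,2),(7,2),(0,1),(6,2),(1,2),(0,2),(1,1),
    (0,1),(0,2),(2,2),(0,1),(18,2),(0,2),(1,1),(0,1),(0,2),(0,2),(0,2),(0,1),(1,2),(0,2),(9,2),
    (9,2),(0,1),(2,2),(1,2),(0,1),(1,1),(7,2),(1,1),(7,2),(1,2),(0,1),(0,1),(7,2),(2,2),(12,2),
    (1,1),(1,2),(0,2),(1,2),(0,2),(0,2),(8,2),(12,1),(0,2),(3,2),(2,1)],
   [(3,1),(0,1),(0,1),(0,2),(0,2),(0,1),(0,2),(0,1),(0,2),(3,2),(0,2),(0,1),(5,2),(0,2),(14,2),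
    (0,2),(0,1),(0,1),(1,1),(0,1),(0,1),(0,2),(12,2),(9,2),(5,2),(0,1),(14,2),(0,2),(1,2),(0,1),
    (1,2),(0,2),(1,1),(0,1),(0,1),(0,1),(6,1),(5,2),(4,2),(1,1),(0,1),(0,2),(1,1),(0,1),(0,2),
    (0,1),(11,2),(0,2),(6,1),(0,2),(0,2),(0,2),(1,1),(0,1),(2,2),(0,2),(8,1),(0,1),(0,1),(5,2),
    (0,2),(1,1),(0,1),(0,2),(0,1),(7,2),(0,1),(0,2),(0,1),(12,2),(0,2),(1,1),(1,1),(1,1),(0,1),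
    (0,1),(8,2),(11,1),(1,1),(3,2),(0,2),(0,2),(0,2)],
   [(0,1),(1,1),(2,2),(0,1),(0,1),(0,2),(2,1),(4,1),(0,1),(11,1),(12,1),(0,1),(0,2),(1,2),(0,1),
    (12,1),(0,1),(0,1),(0,1),(6,1),(0,2),(0,2),(0,2),(0,1),(0,1),(0,1),(8,1),(6,1),(0,1),(0,2),
    (0,1),(0,2),(0,2),(1,1),(1,1),(0,2),(0,1),(13,2),(5,1),(1,1),(0,2),(0,2),(0,1),(0,2),(1,1),
    (12,2),(6,1),(1,1),(0,1),(2,1),(0,2),(2,2),(1,1),(6,1),(0,2),(0,1),(5,2),(0,2),(0,1),(0,1),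
    (0,2),(0,1),(0,1),(0,1),(6,2),(0,1),(0,1),(0,2),(13,1),(0,1),(2,2),(0,1),(0,1),(0,1),(0,2),
    (8,2),(4,1),(7,2),(0,1),(6,1)],
   [(0,1),(0,1),(0,1),(0,1),(4,1),(0,1),(0,2),(0,1),(3,2),(0,1),(0,1),(5,1),(0,1),(4,2),(8,1),
    (0,1),(2,2),(1,2),(1,2),(13,2),(0,2),(0,2),(7,2),(0,2),(0,2),(0,1),(0,2),(0,2),(0,1),(0,2),
    (5,1),(8,2),(0,2),(4,1),(3,2),(0,2),(13,1),(4,2),(2,2),(0,2),(0,1),(1,2),(1,2),(0,1),(0,1),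
    (9,1),(7,1),(0,2),(0,2),(0,1),(1,1),(0,2),(1,1),(0,1),(0,2),(0,1),(0,1),(6,1),(0,2),(0,2),
    (6,2),(0,2),(0,2),(0,1),(0,1),(0,1),(0,2),(6,1),(0,1),(0,2),(13,2),(0,2),(0,2),(0,1),(0,2),
    (0,1),(1,1),(1,1),(8,2),(4,2),(0,2),(5,1),(0,1),(0,1),(5,1)],
   [(0,1),(1,1),(0,2),(0,2),(1,2),(0,1),(0,2),(0,2),(0,1),(0,1),(3,2),(0,2),(0,1),(5,1),(0,2),
    (13,2),(1,1),(0,2),(1,1),(0,1),(2,2),(12,2),(0,1),(0,1),(0,2),(6,2),(0,1),(0,1),(2,2),(7,2),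
    (0,2),(7,2),(2,2),(0,2),(0,2),(6,1),(6,1),(0,2),(4,2),(5,1),(4,1),(1,1),(0,1),(1,1),(9,1),
    (8,1),(0,1),(2,1),(0,1),(0,2),(1,2),(0,1),(0,1),(0,2),(7,1),(0,2),(5,1),(2,2),(0,1),(1,2),
    (0,1),(6,1),(1,1),(0,2),(12,2),(0,1),(1,2),(1,1),(0,1),(1,2),(0,1),(8,2),(4,1),(0,2),(5,1),
    (0,2),(0,2),(4,1),(0,2),(0,2)],
   [(0,1),(1,2),(1,1),(1,1),(1,2),(0,1),(1,2),(5,1),(5,1),(15,1),(3,1),(1,1),(0,1),(14,2),(1,1),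
    (6,2),(1,2),(0,1),(0,2),(0,2),(0,2),(0,1),(6,1),(0,1),(6,1),(0,2),(2,1),(2,2),(3,2),(0,2),
    (6,2),(0,2),(4,1),(4,1),(0,2),(0,2),(0,1),(0,1),(1,1),(1,2),(2,1),(9,1),(0,1),(7,2),(0,1),
    (0,1),(1,2),(0,1),(2,1),(0,1),(0,2),(7,2),(0,2),(6,1),(0,2),(1,2),(1,1),(0,1),(8,1),(14,1),
    (0,1),(2,2),(3,2),(0,2),(13,2),(0,2),(5,1),(5,1),(0,2),(1,1)]]

/-- Rows of a matrix. -/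
def matP10 : List (List (ℕ × ℕ)) :=
  [[(0,2),(1,2),(3,1),(0,1),(0,1),(0,2),(0,1),(0,2),(3,2),(1,1),(5,1),(0,1),(4,2),(8,1),(0,2),
    (0,2),(2,2),(0,1),(0,1),(0,2),(14,1),(0,1),(0,2),(7,1),(0,1),(0,1),(0,1),(0,2),(1,1),(6,2),
    (7,2),(0,2),(0,2),(0,2),(1,1),(0,2),(0,2),(1,2),(0,2),(0,2),(13,2),(5,1),(0,2),(0,1),(0,1),
    (0,2),(1,2),(0,1),(0,1),(1,2),(10,2),(6,2),(0,2),(0,1),(0,2),(1,2),(1,1),(2,1),(0,2),(0,1),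
    (6,2),(0,2),(6,1),(1,2),(2,2),(0,2),(8,2),(15,2),(0,2),(0,2),(0,1),(0,1),(0,1),(1,1),(0,2),
    (8,2),(4,1),(6,2),(6,2),(0,2),(0,2)],
   [(0,2),(0,2),(1,2),(0,2),(0,2),(0,2),(0,2),(1,1),(1,2),(3,1),(0,1),(0,2),(23,2),(0,2),(0,1),
    (0,2),(1,2),(15,2),(8,1),(3,1),(0,1),(6,2),(0,2),(0,2),(6,2),(0,1),(0,1),(1,1),(1,1),(2,2),
    (0,1),(0,1),(0,1),(6,2),(0,2),(4,1),(5,1),(2,1),(2,2),(2,2),(0,1),(9,1),(7,1),(0,1),(0,1),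
    (0,2),(5,2),(0,1),(0,1),(0,1),(7,2),(0,2),(5,1),(0,1),(0,2),(0,1),(1,1),(0,2),(0,1),(6,2),
    (0,2),(16,2),(1,1),(0,1),(0,2),(1,1),(9,2),(5,1),(6,2),(0,1),(4,2),(0,2),(0,2)],
   [(0,1),(0,2),(0,2),(4,2),(2,2),(0,1),(3,1),(0,2),(0,1),(26,1),(0,2),(0,2),(13,1),(0,2),(8,2),
    (1,1),(0,1),(0,1),(1,2),(6,2),(0,1),(11,1),(0,2),(0,1),(0,2),(1,2),(1,1),(0,1),(12,1),(4,1),
    (1,1),(0,1),(0,2),(0,1),(1,1),(0,1),(1,2),(10,1),(0,1),(6,2),(0,2),(0,1),(0,2),(1,1),(2,2),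
    (0,1),(1,2),(0,2),(7,1),(7,2),(0,2),(1,2),(1,1),(7,1),(15,1),(1,2),(0,1),(1,1),(0,2),(0,2),
    (1,1),(8,1),(4,2),(6,2),(0,2),(0,1),(3,1),(0,2),(0,2)],
   [(0,1),(0,2),(0,1),(1,2),(0,2),(0,1),(0,1),(2,2),(0,1),(3,2),(0,2),(6,1),(5,1),(8,1),(0,1),
    (0,2),(0,2),(3,2),(1,1),(12,1),(0,1),(0,2),(7,2),(0,2),(0,1),(1,1),(0,2),(0,2),(7,1),(0,1),
    (6,1),(1,1),(0,1),(2,1),(2,1),(1,2),(8,2),(4,1),(4,1),(1,1),(0,2),(3,1),(2,1),(0,2),(4,1),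
    (4,1),(0,2),(7,1),(0,2),(0,2),(2,1),(0,1),(1,2),(0,1),(0,1),(0,1),(8,1),(5,2),(0,1),(0,2),
    (0,2),(0,2),(0,1),(1,1),(7,2),(17,2),(0,1),(2,1),(1,1),(13,1),(6,2),(1,2),(4,2),(0,1),(0,1)],
   [(0,2),(0,2),(0,1),(0,1),(0,2),(0,1),(0,2),(1,1),(0,1),(0,2),(4,1),(0,2),(0,1),(5,1),(0,1),
    (4,2),(8,2),(1,2),(0,2),(3,1),(15,2),(0,2),(7,1),(1,2),(0,2),(0,1),(2,1),(6,1),(7,1),(0,1),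
    (0,1),(1,1),(2,1),(1,1),(0,2),(0,2),(7,2),(10,2),(0,1),(1,1),(0,1),(0,2),(0,2),(0,2),(1,2),
    (0,1),(0,2),(4,1),(4,1),(0,2),(6,2),(0,1),(0,1),(0,2),(1,1),(1,1),(4,1),(6,2),(7,1),(1,1),
    (2,2),(0,1),(0,2),(7,1),(1,1),(12,1),(0,2),(2,2),(0,2),(0,2),(0,1),(10,2),(4,1),(6,1),(5,1),
    (0,2)],
   [(0,1),(1,1),(1,2),(2,2),(7,1),(0,2),(0,2),(20,1),(0,1),(0,1),(0,2),(0,1),(0,1),(2,2),(14,2),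
    (0,1),(0,1),(8,2),(0,1),(1,2),(0,1),(0,2),(5,1),(8,2),(0,2),(1,2),(0,2),(1,1),(0,2),(1,1),
    (0,2),(0,1),(0,2),(7,1),(4,2),(4,1),(0,2),(0,1),(0,2),(0,1),(0,2),(0,2),(0,2),(0,1),(0,1),
    (0,1),(0,1),(4,2),(5,2),(6,2),(1,2),(0,2),(1,2),(1,2),(0,1),(0,2),(0,1),(0,2),(0,2),(6,1),
    (1,2),(7,2),(0,2),(0,1),(0,1),(0,1),(8,2),(1,1),(12,2),(0,2),(1,1),(1,1),(0,2),(0,2),(0,2),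
    (0,1),(8,1),(4,1),(6,1),(0,2),(5,1),(0,1),(0,2)],
   [(0,2),(2,2),(0,1),(0,1),(1,2),(1,2),(5,2),(0,2),(6,1),(5,1),(8,2),(0,1),(0,2),(4,1),(0,1),
    (0,1),(12,1),(0,1),(0,1),(8,2),(0,1),(0,2),(0,1),(0,2),(0,1),(6,1),(1,2),(10,2),(1,2),(2,2),
    (1,1),(0,1),(7,2),(9,1),(0,2),(0,1),(1,1),(0,2),(0,2),(0,1),(1,2),(0,2),(0,2),(4,1),(5,1),
    (7,1),(1,1),(1,1),(1,2),(0,1),(0,2),(0,2),(8,1),(0,1),(0,1),(6,1),(0,2),(0,2),(0,1),(0,2),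
    (1,2),(6,2),(2,1),(12,1),(0,2),(0,1),(0,2),(0,2),(0,2),(0,2),(0,1),(0,1),(0,2),(8,2),(5,2),
    (6,2),(4,2),(0,1),(0,1),(0,2)],
   [(0,2),(0,1),(0,1),(0,1),(0,2),(0,1),(0,1),(0,2),(1,1),(0,1),(0,2),(3,1),(0,2),(0,2),(5,1),
    (0,1),(4,2),(8,1),(1,1),(2,1),(0,2),(1,1),(0,2),(13,1),(0,2),(8,1),(1,2),(0,2),(0,1),(0,2),
    (0,1),(5,2),(0,1),(7,2),(0,1),(0,1),(0,1),(0,1),(4,2),(2,1),(7,2),(9,1),(0,1),(1,2),(1,2),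
    (0,1),(0,2),(1,1),(0,1),(0,1),(9,1),(7,2),(0,2),(0,2),(0,1),(2,1),(0,2),(0,2),(1,2),(0,2),
    (7,2),(0,2),(6,1),(0,1),(0,1),(0,2),(0,2),(0,2),(0,2),(0,1),(6,2),(2,2),(12,1),(4,2),(0,1),
    (2,1),(8,1),(4,2),(6,1),(0,1),(4,2),(0,1),(0,1),(0,2)]]

/-- Rows of a matrix. -/
def matP11 : List (List (ℕ × ℕ)) :=
  [[(0,2),(1,2),(1,2),(3,2),(6,2),(0,2),(0,2),(5,1),(5,2),(10,1),(0,2),(1,1),(0,2),(0,1),(14,1),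
    (1,2),(7,2),(0,2),(1,2),(0,1),(0,2),(0,2),(6,1),(0,1),(7,2),(2,2),(2,2),(2,2),(0,1),(0,1),
    (0,2),(7,1),(4,2),(4,2),(0,2),(0,2),(0,2),(1,2),(0,2),(0,1),(2,1),(5,1),(12,1),(0,2),(0,2),
    (0,1),(1,2),(0,2),(1,1),(0,1),(1,1),(8,1),(0,1),(5,1),(0,1),(0,2),(2,1),(1,2),(6,2),(0,1),
    (1,2),(12,2),(0,1),(1,1),(0,2),(2,1),(0,2),(15,1),(5,2),(0,1),(4,1),(0,1),(0,2),(0,2)],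
   [(0,2),(0,1),(0,1),(0,2),(0,1),(0,1),(1,1),(0,2),(0,1),(0,2),(5,1),(0,2),(5,2),(14,2),(2,1),
    (0,1),(1,2),(1,1),(13,1),(0,1),(0,2),(0,1),(6,1),(1,1),(1,2),(0,1),(0,2),(0,1),(6,1),(7,1),
    (0,2),(0,2),(1,1),(2,1),(1,1),(0,1),(0,1),(7,2),(0,1),(9,2),(0,2),(0,1),(1,1),(0,1),(0,1),
    (1,2),(0,1),(0,1),(0,2),(4,2),(4,1),(8,2),(0,2),(0,2),(1,1),(0,2),(0,1),(0,1),(1,2),(1,1),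
    (6,2),(7,1),(0,2),(0,2),(0,1),(0,2),(0,1),(0,2),(0,2),(6,1),(1,2),(0,1),(16,2),(2,1),(1,2),
    (21,1),(0,1),(3,1),(0,2),(1,1)],
   [(1,1),(0,2),(1,1),(3,2),(0,1),(0,1),(0,1),(5,2),(5,1),(0,1),(4,2),(8,2),(0,1),(1,2),(0,2),
    (0,1),(0,1),(0,2),(24,1),(1,2),(0,2),(0,1),(0,1),(0,1),(0,1),(5,2),(0,2),(9,1),(2,1),(0,2),
    (0,2),(3,1),(7,1),(0,1),(4,1),(4,1),(0,1),(0,2),(0,2),(0,2),(0,1),(0,2),(0,1),(0,2),(0,1),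
    (0,2),(0,1),(4,1),(13,2),(0,1),(0,1),(1,2),(0,2),(1,1),(0,2),(0,1),(0,2),(0,2),(6,1),(0,1),
    (0,2),(5,2),(1,1),(0,2),(2,1),(0,1),(6,1),(16,1),(1,1),(0,2),(1,2),(2,2),(8,1),(5,2),(6,2),
    (4,1),(0,2),(0,2),(0,2)],
   [(0,2),(0,2),(2,2),(0,1),(0,1),(0,1),(8,2),(0,1),(5,2),(0,1),(13,1),(0,2),(0,1),(0,2),(0,1),
    (0,1),(0,1),(1,1),(27,1),(0,1),(1,1),(5,2),(0,2),(0,1),(6,2),(0,2),(0,2),(0,2),(1,2),(0,1),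
    (0,1),(1,1),(0,2),(0,1),(7,1),(0,1),(4,2),(4,2),(1,1),(0,1),(1,1),(0,2),(0,2),(0,1),(0,2),
    (11,1),(7,2),(1,1),(0,1),(1,2),(0,1),(0,1),(0,2),(0,1),(1,2),(0,1),(6,1),(8,2),(0,2),(1,1),
    (1,1),(0,1),(7,1),(0,1),(13,1),(3,2),(0,2),(2,1),(0,2),(14,1),(11,2),(0,2),(0,2)],
   [(0,1),(0,2),(0,1),(2,2),(0,1),(2,2),(1,2),(3,2),(0,2),(0,2),(5,1),(0,1),(4,1),(8,1),(1,2),
    (0,2),(4,1),(16,1),(6,2),(0,1),(0,1),(1,2),(2,1),(5,1),(1,2),(6,2),(0,2),(0,1),(0,2),(1,2),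
    (1,1),(2,2),(1,2),(7,2),(11,1),(1,2),(0,2),(3,1),(0,2),(0,1),(9,1),(7,2),(0,1),(0,1),(0,2),
    (4,2),(1,2),(1,2),(6,1),(0,1),(0,2),(6,2),(0,2),(2,1),(8,1),(1,2),(14,1),(0,2),(0,1),(0,2),
    (3,1),(9,2),(4,1),(0,2),(6,1),(0,2),(3,2),(0,2),(0,2),(0,2)],
   [(1,2),(0,1),(0,2),(0,1),(0,2),(0,1),(0,2),(0,2),(1,1),(0,2),(3,2),(0,1),(0,1),(5,2),(0,2),
    (15,2),(0,1),(0,2),(0,2),(0,1),(0,1),(1,2),(12,2),(0,2),(9,2),(0,1),(0,1),(0,1),(1,2),(7,1),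
    (0,2),(7,2),(0,1),(1,2),(0,1),(0,2),(4,1),(0,1),(6,1),(0,1),(4,2),(4,1),(1,1),(0,1),(0,1),
    (2,2),(2,2),(0,1),(10,2),(6,2),(0,1),(3,2),(0,1),(0,1),(0,1),(2,1),(15,2),(0,1),(0,1),(2,2),
    (0,2),(7,1),(0,2),(14,1),(0,1),(0,2),(0,2),(2,2),(0,2),(1,2),(8,1),(4,1),(0,2),(7,1),(4,2),
    (0,1),(0,2)],
   [(1,1),(0,2),(1,2),(0,1),(2,2),(1,1),(0,1),(4,1),(7,2),(4,1),(8,2),(1,2),(0,2),(0,2),(0,2),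
    (0,1),(1,2),(14,1),(8,1),(1,1),(0,1),(0,1),(0,2),(0,2),(0,2),(7,2),(6,1),(1,2),(0,2),(1,2),
    (1,2),(2,1),(0,1),(0,1),(6,1),(0,2),(4,1),(5,1),(3,1),(2,2),(1,1),(10,2),(0,1),(7,2),(1,2),
    (2,1),(0,2),(1,1),(0,1),(0,1),(7,2),(1,2),(5,2),(2,1),(0,2),(1,2),(0,2),(6,1),(2,2),(13,1),
    (0,2),(2,1),(0,2),(0,2),(0,1),(0,2),(13,2),(0,2),(5,1),(1,2),(3,1),(1,2)],
   [(1,1),(3,2),(1,1),(0,2),(0,1),(0,2),(4,2),(0,1),(0,1),(6,1),(13,2),(0,2),(3,1),(0,2),(0,1),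
    (0,2),(0,2),(13,1),(0,2),(8,1),(0,2),(3,1),(0,1),(5,2),(0,2),(0,1),(6,1),(2,2),(1,2),(0,1),
    (0,2),(1,2),(0,1),(0,2),(0,1),(7,1),(13,2),(2,1),(1,2),(1,1),(4,2),(5,2),(6,1),(2,2),(1,2),
    (0,2),(1,1),(0,1),(0,2),(1,2),(7,1),(8,1),(1,2),(0,1),(8,2),(0,1),(0,2),(0,1),(13,2),(0,2),
    (0,1),(0,1),(0,1),(1,2),(0,2),(0,1),(8,1),(4,1),(0,2),(5,2),(0,2),(4,2),(0,1),(0,1),(0,2)]]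

/-- Rows of a matrix. -/
def matP12 : List (List (ℕ × ℕ)) :=
  [[(0,2),(0,2),(0,1),(0,2),(0,1),(0,2),(0,1),(2,1),(1,2),(17,2),(10,1),(4,1),(14,2),(0,2),(1,2),
    (6,1),(1,2),(2,2),(7,2),(0,1),(0,2),(7,2),(0,1),(1,2),(0,2),(0,2),(0,2),(1,1),(0,2),(1,1),
    (6,2),(0,1),(4,2),(4,2),(0,2),(0,2),(1,2),(2,2),(0,2),(1,2),(0,2),(4,1),(4,2),(0,2),(6,2),
    (1,2),(0,2),(1,1),(0,2),(0,2),(0,2),(0,1),(9,2),(0,2),(0,1),(5,1),(0,1),(0,1),(1,2),(1,2),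
    (0,1),(6,2),(2,1),(12,2),(0,1),(1,1),(0,2),(1,1),(0,2),(0,2),(0,1),(8,1),(4,2),(0,1),(5,2),
    (0,2),(0,2),(4,1),(0,2),(0,1)],
   [(0,1),(1,2),(0,1),(1,2),(0,1),(1,1),(2,2),(3,1),(1,1),(5,1),(0,2),(4,2),(8,1),(0,1),(1,2),
    (0,1),(0,2),(0,2),(2,1),(14,2),(0,1),(7,1),(1,2),(0,2),(0,2),(0,1),(0,1),(6,1),(0,2),(6,1),
    (1,2),(2,1),(0,2),(0,2),(1,2),(0,1),(0,1),(0,2),(6,1),(5,2),(4,1),(0,1),(0,2),(0,2),(0,2),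
    (0,2),(1,2),(0,2),(1,2),(10,1),(0,2),(6,1),(1,2),(0,2),(1,1),(0,2),(0,2),(0,2),(0,2),(0,1),
    (1,1),(6,2),(0,1),(0,1),(5,2),(0,2),(0,2),(1,1),(0,2),(1,2),(6,2),(0,1),(14,1),(0,1),(0,2),
    (0,1),(1,1),(2,2),(0,1),(13,1),(0,1),(5,1),(1,2),(3,2),(0,1),(0,1)],
   [(0,1),(0,2),(0,1),(0,1),(0,2),(0,1),(1,2),(0,1),(0,2),(7,2),(11,1),(8,2),(2,2),(0,1),(0,2),
    (0,2),(1,2),(0,1),(12,2),(0,1),(0,2),(0,1),(6,2),(0,1),(0,1),(2,2),(0,1),(6,2),(0,2),(0,2),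
    (6,1),(0,1),(0,1),(0,1),(0,1),(2,1),(2,1),(0,2),(0,2),(6,2),(5,1),(4,2),(0,2),(0,2),(0,1),
    (0,1),(0,1),(0,1),(1,2),(0,2),(0,1),(11,1),(6,2),(0,1),(0,1),(0,1),(1,2),(0,2),(0,2),(0,2),
    (1,1),(0,1),(0,2),(6,1),(0,2),(6,2),(0,2),(1,2),(0,2),(0,1),(0,1),(0,1),(7,2),(0,1),(0,2),
    (12,2),(2,1),(1,1),(0,2),(1,2),(0,2),(14,1),(6,1),(4,1),(0,1),(0,2),(0,2)],
   [(0,1),(2,1),(1,2),(0,1),(1,1),(0,1),(0,2),(0,2),(3,1),(1,2),(5,2),(0,1),(13,1),(1,1),(0,1),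
    (2,2),(0,1),(1,1),(12,1),(0,2),(1,1),(7,1),(1,2),(1,1),(0,2),(7,1),(0,2),(6,2),(0,1),(0,1),
    (1,1),(2,2),(1,1),(1,1),(0,1),(6,2),(0,2),(9,1),(0,2),(1,2),(0,2),(0,2),(3,1),(0,1),(0,2),
    (4,2),(4,1),(0,2),(8,2),(0,2),(2,2),(2,2),(0,1),(0,2),(7,2),(1,2),(5,1),(0,2),(1,2),(0,2),
    (1,1),(0,1),(6,1),(0,2),(0,1),(0,1),(12,2),(1,2),(0,2),(0,2),(0,1),(0,1),(0,2),(0,1),(9,1),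
    (4,2),(0,1),(6,2),(0,1),(3,1),(0,2),(0,1),(0,2)],
   [(0,1),(0,1),(0,2),(0,2),(2,2),(1,1),(0,2),(1,2),(3,1),(7,1),(5,2),(9,2),(0,2),(1,2),(0,2),
    (0,1),(0,2),(14,2),(0,1),(0,2),(0,1),(6,2),(0,2),(0,1),(0,2),(1,1),(0,1),(0,2),(6,1),(0,2),
    (6,1),(2,1),(2,1),(0,1),(4,2),(7,1),(4,1),(4,2),(1,2),(0,1),(3,2),(0,1),(0,2),(6,2),(4,1),
    (9,2),(0,2),(2,2),(2,1),(0,1),(0,1),(0,1),(6,1),(0,2),(0,2),(5,1),(0,1),(2,1),(0,2),(8,2),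
    (0,1),(14,1),(1,1),(0,2),(0,1),(0,2),(0,1),(2,1),(13,1),(0,2),(6,1),(5,2),(1,2)],
   [(1,2),(0,1),(0,1),(0,2),(2,2),(0,2),(2,1),(5,1),(11,2),(8,2),(0,2),(1,1),(2,2),(0,2),(0,2),
    (0,1),(12,1),(1,2),(0,1),(6,2),(0,2),(0,1),(0,2),(1,1),(8,2),(7,2),(0,2),(1,1),(1,2),(4,2),
    (0,2),(0,2),(18,1),(0,1),(2,1),(0,2),(1,2),(1,1),(5,2),(5,2),(6,1),(0,2),(0,1),(0,1),(1,2),
    (1,1),(3,1),(0,2),(6,1),(0,2),(0,2),(5,2),(0,2),(0,1),(0,1),(0,2),(1,1),(0,1),(7,1),(1,2),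
    (12,2),(1,2),(0,2),(0,1),(0,2),(0,1),(0,2),(1,2),(8,2),(4,1),(0,2),(5,2),(1,2),(3,1),(0,2),
    (1,1)],
   [(0,2),(3,2),(0,2),(0,2),(0,2),(0,1),(0,1),(0,2),(5,1),(0,1),(5,2),(5,1),(8,2),(0,1),(0,1),
    (0,1),(3,2),(14,1),(0,2),(8,2),(0,2),(0,2),(0,1),(0,2),(0,1),(0,2),(6,2),(1,1),(7,1),(0,1),
    (2,1),(1,1),(1,1),(0,1),(0,2),(0,1),(7,2),(4,2),(4,1),(0,2),(0,2),(3,1),(3,2),(0,2),(4,1),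
    (4,2),(8,2),(0,2),(0,1),(1,1),(0,2),(0,2),(0,2),(0,2),(0,2),(0,1),(8,1),(8,1),(2,2),(1,1),
    (7,1),(0,2),(13,1),(0,2),(0,2),(1,2),(0,2),(0,1),(11,1),(5,1),(5,2),(0,1),(0,1),(4,1),(0,2),
    (0,2)],
   [(0,2),(0,2),(0,2),(0,2),(0,2),(1,1),(1,1),(0,1),(0,2),(0,1),(3,2),(7,2),(5,1),(10,1),(0,2),
    (0,2),(0,1),(0,2),(0,2),(1,2),(14,2),(0,1),(6,2),(2,1),(0,1),(1,1),(0,2),(5,2),(1,2),(6,2),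
    (0,1),(0,2),(0,2),(0,1),(0,2),(1,2),(1,2),(0,2),(0,2),(0,1),(7,1),(4,2),(5,1),(0,1),(0,2),
    (0,2),(0,2),(0,1),(1,2),(1,2),(0,2),(9,2),(0,2),(6,2),(1,1),(2,1),(2,1),(0,2),(2,2),(6,2),
    (1,2),(6,1),(0,2),(1,2),(0,2),(0,2),(0,2),(6,1),(0,2),(0,2),(14,1),(0,1),(0,1),(0,1),(1,1),
    (0,2),(0,2),(0,1),(8,2),(5,2),(7,1),(3,1),(0,1),(0,2),(0,2)]]

/-- Rows of a matrix. -/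
def matP13 : List (List (ℕ × ℕ)) :=
  [[(1,2),(0,1),(0,2),(0,1),(0,2),(0,1),(0,1),(0,1),(0,2),(1,2),(3,1),(0,2),(12,1),(8,2),(0,2),
    (0,2),(0,1),(2,2),(0,2),(0,1),(0,2),(12,1),(0,1),(0,1),(0,1),(6,2),(0,2),(2,1),(0,2),(9,2),
    (6,2),(0,1),(0,1),(3,2),(0,2),(1,1),(1,1),(7,2),(5,1),(4,1),(0,1),(1,1),(0,1),(0,2),(0,1),
    (1,2),(0,2),(0,1),(5,1),(4,1),(9,2),(0,1),(2,1),(1,1),(0,1),(0,2),(0,2),(0,1),(8,1),(7,1),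
    (0,1),(0,2),(0,1),(9,2),(1,2),(12,2),(0,1),(2,2),(2,1),(0,2),(0,2),(14,2),(5,2),(0,2),(0,2),
    (5,1)],
   [(2,1),(1,1),(3,1),(0,2),(0,1),(5,2),(0,1),(5,1),(0,1),(4,2),(8,2),(2,1),(0,1),(3,1),(14,1),
    (0,1),(0,1),(6,1),(1,2),(0,2),(2,2),(6,1),(8,2),(0,2),(0,1),(0,2),(0,2),(0,2),(4,2),(0,2),
    (0,2),(7,1),(4,2),(5,1),(1,1),(0,2),(2,1),(0,1),(0,1),(0,2),(5,1),(4,1),(0,1),(8,2),(0,2),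
    (2,1),(2,2),(0,2),(0,1),(0,1),(6,2),(1,1),(5,2),(0,2),(1,2),(2,1),(0,1),(6,1),(2,1),(12,2),
    (1,2),(2,1),(0,2),(0,1),(0,2),(0,1),(14,1),(11,1),(0,1),(1,2)],
   [(0,2),(2,1),(0,2),(0,2),(1,2),(1,1),(0,1),(0,2),(3,2),(0,2),(0,1),(5,1),(0,2),(4,1),(8,2),
    (1,1),(1,2),(0,1),(0,2),(1,1),(0,2),(12,1),(0,1),(0,2),(0,2),(7,1),(2,2),(2,1),(7,2),(6,2),
    (0,2),(0,1),(1,2),(0,1),(0,1),(2,1),(1,2),(0,1),(6,1),(0,2),(9,1),(0,2),(0,1),(1,1),(0,2),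
    (0,2),(0,1),(0,2),(1,2),(0,1),(9,2),(0,2),(6,2),(0,1),(3,2),(0,2),(1,2),(0,1),(0,1),(1,2),
    (6,2),(1,1),(5,1),(1,1),(1,1),(0,1),(8,2),(0,1),(0,1),(0,2),(12,2),(1,2),(0,2),(1,2),(0,2),
    (0,2),(0,1),(15,2),(5,2),(1,2),(6,1)],
   [(2,1),(0,2),(0,2),(0,1),(0,2),(0,2),(0,1),(0,2),(0,2),(0,2),(3,2),(0,2),(0,1),(6,1),(4,1),
    (9,2),(0,1),(0,2),(1,1),(0,1),(0,1),(14,1),(1,1),(0,1),(7,1),(1,2),(2,1),(0,2),(5,2),(0,2),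
    (7,2),(1,2),(0,1),(0,1),(0,2),(0,1),(0,1),(1,2),(0,1),(1,2),(6,1),(0,1),(11,1),(0,1),(1,2),
    (1,1),(0,1),(0,2),(0,2),(5,2),(4,1),(0,1),(6,2),(0,2),(1,2),(2,1),(0,2),(0,2),(1,1),(0,2),
    (0,1),(6,1),(0,1),(0,2),(6,1),(0,1),(1,1),(0,1),(1,1),(6,1),(0,2),(14,2),(0,2),(2,2),(0,1),
    (1,1),(0,2),(0,1),(13,2),(6,2)],
   [(1,2),(0,2),(0,2),(0,1),(3,2),(1,2),(0,1),(3,2),(8,1),(14,2),(0,2),(0,1),(0,2),(2,1),(1,2),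
    (12,1),(0,2),(1,2),(6,1),(0,1),(0,2),(0,1),(1,1),(0,2),(0,1),(6,2),(0,1),(6,1),(1,2),(0,1),
    (0,1),(0,2),(0,2),(2,1),(0,2),(0,1),(0,1),(6,1),(5,2),(4,1),(0,1),(0,2),(0,2),(0,1),(0,1),
    (1,2),(0,1),(0,1),(0,2),(0,1),(4,2),(4,2),(0,2),(8,1),(0,1),(2,1),(2,1),(0,2),(0,2),(0,1),
    (6,2),(0,2),(6,1),(0,2),(0,2),(1,2),(0,1),(0,2),(7,1),(0,2),(0,2),(13,2),(0,1),(1,1),(0,1),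
    (0,1),(0,1),(1,1),(0,2),(8,2),(4,2),(6,2),(0,2),(0,1),(3,2),(0,1),(1,2)],
   [(0,1),(0,1),(3,1),(1,2),(1,1),(0,2),(4,2),(7,2),(0,1),(4,1),(9,2),(0,2),(0,1),(0,2),(1,1),
    (0,2),(1,1),(12,1),(0,2),(1,2),(6,1),(0,2),(1,1),(0,2),(1,2),(0,2),(5,2),(0,2),(0,2),(7,1),
    (0,2),(0,1),(1,1),(0,2),(0,1),(1,2),(2,2),(6,2),(5,1),(4,1),(0,2),(2,1),(1,2),(0,2),(0,2),
    (0,1),(0,1),(5,2),(4,2),(0,1),(6,1),(0,2),(0,2),(0,1),(4,1),(1,1),(0,2),(7,1),(7,2),(0,2),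
    (0,2),(1,2),(1,2),(7,1),(1,1),(0,1),(12,1),(0,1),(0,2),(0,1),(0,1),(0,2),(1,2),(0,2),(0,1),
    (14,2),(5,2),(0,2),(0,1),(4,1),(0,2),(0,2)],
   [(0,2),(0,2),(0,1),(2,1),(0,1),(0,1),(1,2),(0,1),(0,1),(4,2),(0,1),(11,1),(8,1),(0,1),(0,2),
    (0,2),(0,2),(0,1),(1,2),(0,1),(0,2),(12,2),(0,1),(0,2),(0,2),(7,1),(2,2),(0,2),(0,2),(0,2),
    (7,1),(7,1),(0,2),(0,2),(2,1),(0,1),(2,2),(0,1),(0,2),(6,2),(5,2),(4,2),(0,1),(3,2),(0,1),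
    (0,2),(1,2),(0,1),(0,2),(4,2),(12,2),(1,1),(0,2),(1,1),(0,2),(0,2),(0,1),(1,1),(0,2),(7,1),
    (1,2),(5,1),(0,2),(0,2),(0,1),(1,2),(0,1),(0,2),(8,1),(0,2),(12,2),(0,1),(0,1),(1,2),(2,1),
    (10,2),(5,1),(5,1),(0,2),(0,2),(3,2),(0,2),(0,2),(0,2)],
   [(1,2),(0,2),(0,1),(0,1),(1,2),(0,2),(1,1),(1,1),(4,2),(0,2),(20,2),(0,1),(0,1),(0,2),(0,1),
    (0,1),(1,1),(14,1),(0,1),(0,1),(0,1),(6,2),(0,1),(0,2),(0,2),(0,1),(0,2),(1,2),(5,2),(9,2),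
    (1,2),(2,2),(0,2),(1,1),(0,1),(0,1),(0,1),(6,1),(0,1),(9,1),(0,1),(0,2),(1,1),(1,1),(0,2),
    (1,2),(0,2),(0,2),(9,2),(0,2),(6,1),(0,1),(0,1),(0,1),(1,1),(1,1),(0,2),(1,1),(0,2),(7,2),
    (0,1),(0,1),(5,2),(0,1),(0,2),(1,2),(0,2),(0,2),(0,1),(6,2),(1,2),(0,2),(12,2),(0,2),(1,2),
    (0,2),(1,2),(0,1),(0,2),(0,2),(8,1),(4,1),(0,2),(5,1),(0,2),(4,1),(0,2),(1,1)]]

/-- Rows of a matrix. -/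
def matP14 : List (List (ℕ × ℕ)) :=
  [[(0,2),(1,2),(3,1),(0,2),(0,2),(1,1),(4,1),(0,2),(0,2),(5,2),(0,2),(13,2),(0,1),(0,2),(1,2),
    (0,2),(0,1),(0,1),(0,1),(0,1),(12,1),(0,2),(8,2),(1,2),(3,1),(0,1),(6,1),(0,1),(6,1),(0,1),
    (0,1),(0,1),(0,1),(0,1),(0,1),(0,2),(2,1),(0,2),(0,1),(6,2),(0,1),(10,2),(0,1),(1,2),(0,2),
    (0,2),(0,2),(0,1),(1,2),(5,2),(4,1),(0,1),(6,2),(0,1),(0,2),(0,2),(2,2),(0,2),(0,1),(0,2),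
    (0,1),(16,1),(2,1),(0,2),(2,1),(7,1),(0,1),(13,2),(1,1),(0,2),(0,1),(0,2),(1,2),(0,1),(0,1),
    (8,1),(5,1),(5,1),(0,1),(6,2),(0,1)],
   [(1,2),(0,1),(2,1),(3,1),(0,2),(0,1),(3,1),(8,2),(16,2),(1,2),(0,2),(0,2),(0,2),(0,1),(13,1),
    (0,2),(0,1),(7,1),(0,2),(2,1),(0,1),(0,1),(6,2),(7,2),(0,2),(3,1),(0,1),(2,2),(0,2),(1,2),
    (6,2),(5,1),(6,1),(0,2),(0,1),(0,2),(0,2),(1,1),(0,2),(0,1),(0,2),(4,2),(4,1),(0,1),(6,1),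
    (0,1),(4,2),(0,2),(0,2),(1,2),(0,2),(0,1),(6,1),(0,1),(6,1),(1,1),(1,1),(0,1),(0,2),(9,2),
    (13,2),(3,1),(0,1),(12,2),(4,2),(7,2),(0,2),(3,1),(1,1)],
   [(0,1),(0,1),(0,2),(0,1),(0,1),(0,2),(0,1),(3,2),(4,1),(0,2),(0,2),(6,2),(4,1),(14,1),(2,2),
    (12,1),(2,2),(8,2),(0,1),(0,1),(0,2),(1,2),(6,1),(0,2),(8,1),(1,2),(1,2),(0,1),(3,1),(0,2),
    (6,2),(0,1),(9,1),(0,1),(0,1),(0,1),(2,2),(0,1),(0,2),(1,1),(10,1),(0,2),(6,2),(0,2),(0,2),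
    (2,1),(0,2),(0,1),(1,1),(1,2),(8,2),(0,1),(6,2),(0,2),(0,1),(3,2),(6,1),(0,1),(14,1),(0,1),
    (0,2),(2,1),(0,2),(0,1),(0,2),(0,2),(8,2),(4,1),(0,1),(6,1),(4,2),(0,1),(1,2)],
   [(2,2),(0,2),(0,2),(0,2),(0,2),(0,1),(8,2),(0,1),(5,2),(0,1),(4,1),(9,1),(3,1),(0,2),(0,2),
    (1,2),(12,1),(0,2),(1,1),(8,2),(0,1),(0,2),(2,2),(5,2),(0,2),(0,1),(9,2),(0,1),(0,2),(3,2),
    (1,2),(0,2),(7,2),(4,1),(6,1),(0,1),(0,2),(0,1),(2,1),(12,2),(0,2),(9,2),(1,2),(0,1),(0,2),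
    (0,1),(0,1),(0,2),(1,2),(6,2),(0,1),(6,2),(0,1),(3,1),(0,2),(0,1),(9,1),(12,2),(1,1),(0,2),
    (1,2),(0,1),(0,2),(1,2),(13,2),(0,1),(5,1),(0,2),(4,1),(1,2),(0,1)],
   [(0,1),(1,2),(6,2),(5,1),(1,2),(5,2),(0,2),(4,1),(9,2),(0,1),(2,1),(0,2),(0,2),(0,1),(0,1),
    (12,2),(0,2),(8,2),(0,2),(0,1),(0,2),(1,1),(0,2),(0,1),(5,2),(1,2),(6,1),(0,1),(0,2),(3,1),
    (0,2),(1,1),(0,1),(0,1),(0,2),(6,1),(5,2),(4,2),(0,2),(1,2),(1,1),(3,2),(1,2),(4,1),(4,1),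
    (0,1),(7,2),(0,1),(0,1),(1,1),(0,1),(0,1),(1,1),(0,1),(0,2),(9,1),(5,2),(2,1),(0,2),(0,2),
    (0,2),(0,2),(6,1),(0,2),(0,1),(0,1),(12,1),(3,1),(2,1),(0,2),(0,2),(8,1),(4,2),(6,2),(1,1),
    (6,2)],
   [(0,2),(1,2),(0,2),(1,2),(0,2),(1,2),(0,2),(0,2),(4,2),(1,2),(5,1),(5,2),(8,2),(1,1),(0,2),
    (1,2),(0,2),(1,2),(0,2),(12,1),(0,2),(0,1),(7,1),(0,1),(0,1),(0,1),(0,2),(1,2),(6,2),(0,2),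
    (0,1),(6,2),(1,1),(0,2),(0,2),(4,2),(1,1),(0,2),(17,2),(1,2),(0,2),(0,1),(0,1),(0,2),(0,2),
    (0,2),(7,2),(4,2),(0,2),(6,1),(0,2),(0,1),(2,1),(0,1),(4,2),(0,1),(7,1),(6,1),(0,1),(0,1),
    (2,1),(8,2),(0,1),(0,1),(0,2),(12,1),(1,2),(0,2),(2,1),(1,2),(0,1),(8,2),(4,2),(0,2),(6,1),
    (0,2),(4,2),(0,1)],
   [(0,2),(0,1),(0,1),(2,1),(0,2),(0,2),(0,2),(0,2),(0,2),(0,2),(5,2),(5,1),(0,2),(13,1),(0,2),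
    (0,1),(0,1),(0,1),(1,1),(0,2),(1,1),(12,2),(1,2),(0,2),(6,1),(0,2),(0,1),(0,1),(0,2),(1,1),
    (0,1),(5,2),(1,2),(6,2),(1,2),(0,1),(0,1),(2,1),(1,2),(1,2),(0,1),(6,2),(0,1),(4,2),(4,1),
    (0,1),(0,1),(0,1),(0,2),(0,2),(1,2),(0,2),(1,1),(0,2),(10,1),(6,1),(0,1),(6,1),(1,2),(0,1),
    (0,2),(7,1),(6,1),(0,1),(0,1),(0,1),(0,1),(0,1),(1,1),(6,1),(0,1),(0,2),(0,2),(15,1),(0,1),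
    (0,2),(0,2),(0,2),(1,2),(8,1),(11,1),(0,1),(0,2),(3,2),(0,2),(1,1)],
   [(0,2),(0,1),(1,1),(0,1),(0,1),(1,1),(0,2),(0,2),(0,1),(0,2),(3,2),(0,2),(0,1),(5,1),(5,2),
    (8,2),(0,2),(0,1),(0,2),(2,2),(1,1),(0,2),(12,1),(1,1),(0,2),(8,1),(2,2),(0,2),(7,1),(0,1),
    (6,2),(0,2),(0,1),(0,1),(0,2),(4,1),(0,2),(1,2),(7,1),(4,2),(4,2),(2,2),(0,2),(1,1),(2,1),
    (0,2),(0,2),(4,1),(4,2),(0,2),(6,1),(0,2),(6,1),(0,1),(9,1),(0,1),(0,2),(5,1),(0,1),(0,2),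
    (3,1),(0,1),(6,2),(0,1),(0,1),(0,2),(13,2),(0,1),(2,2),(0,1),(0,2),(0,2),(9,2),(4,2),(0,1),
    (5,1),(0,2),(0,2),(3,2),(0,1),(0,1),(0,1)]]

/-- Rows of a matrix. -/
def matP15 : List (List (ℕ × ℕ)) :=
  [[(13,2),(4,1),(0,2),(6,1),(1,2),(1,2),(0,2),(0,1),(0,1),(2,2),(12,1),(1,1),(0,1),(0,2),(0,1),
    (0,1),(0,2),(0,2),(1,2),(4,2),(0,1),(0,1),(1,1),(11,2),(0,2),(0,1),(3,2),(0,2),(0,1),(0,2),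
    (10,2),(4,1),(0,2),(0,1),(0,2),(1,2),(2,1),(0,1),(0,1),(2,1),(0,1),(0,2),(13,2),(0,2),(0,2),
    (4,1),(0,2),(2,1),(0,1),(0,2),(0,2),(0,1),(0,2),(13,2),(1,2),(0,2),(1,2),(4,1),(0,1),(0,2),
    (0,2),(9,1),(2,1),(0,2),(7,1),(0,1),(0,1),(0,2),(0,2),(0,2),(1,1),(11,2),(1,2),(2,2),(1,1),
    (1,1),(0,1),(0,2),(0,2),(2,1),(0,1),(0,1),(0,2),(4,2),(0,2),(0,2)],
   [(12,2),(6,1),(1,2),(3,1),(0,2),(1,1),(1,2),(4,1),(1,2),(11,2),(1,2),(0,2),(0,2),(2,1),(0,1),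
    (0,1),(5,2),(0,1),(1,1),(1,2),(10,2),(0,2),(4,1),(0,1),(0,1),(1,2),(14,2),(0,2),(1,1),(1,2),
    (3,1),(0,2),(0,2),(17,1),(1,1),(0,2),(2,2),(1,2),(3,1),(0,1),(0,2),(0,2),(0,1),(4,1),(8,1),
    (1,2),(0,1),(0,2),(0,2),(3,1),(0,2),(2,1),(8,1),(0,1),(0,2),(0,2),(1,1),(5,1),(1,1),(0,2),
    (0,2),(0,2),(0,2),(0,2),(0,2),(0,2),(0,1),(11,1),(0,2),(2,1),(1,2),(2,2),(0,2),(0,1),(4,2),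
    (0,2),(0,2),(3,1),(0,2),(0,2)],
   [(13,2),(0,1),(4,1),(0,2),(0,2),(0,1),(2,2),(1,2),(3,2),(0,1),(0,2),(0,2),(0,2),(0,1),(0,1),
    (10,1),(0,2),(1,1),(0,2),(0,1),(0,1),(0,1),(0,1),(0,2),(0,2),(5,2),(0,1),(1,1),(0,2),(0,2),
    (8,2),(2,1),(0,2),(3,2),(1,1),(0,2),(0,1),(0,2),(8,1),(5,1),(0,1),(0,2),(0,1),(3,1),(4,2),
    (1,1),(16,1),(1,2),(0,1),(1,2),(2,2),(0,1),(0,2),(0,2),(0,2),(5,2),(8,1),(0,1),(1,2),(5,1),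
    (0,2),(0,1),(1,1),(8,2),(0,2),(2,2),(0,2),(5,1),(0,1),(0,1),(0,2),(1,1),(0,2),(2,2),(13,1),
    (0,2),(0,1),(0,2),(0,1),(0,1),(2,1),(0,1),(3,2),(1,1),(5,1),(0,2),(0,1)],
   [(13,2),(0,1),(3,2),(1,2),(0,2),(3,1),(2,1),(1,2),(1,2),(0,2),(14,1),(1,2),(1,2),(1,1),(1,2),
    (0,1),(0,2),(0,2),(4,2),(0,2),(0,2),(1,2),(9,1),(0,1),(1,2),(0,2),(4,1),(0,1),(0,2),(0,1),
    (9,2),(4,1),(1,1),(0,2),(1,1),(2,2),(0,1),(0,1),(0,2),(1,2),(0,2),(0,1),(0,2),(12,1),(0,1),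
    (1,2),(2,1),(0,1),(3,2),(0,1),(0,1),(1,2),(5,1),(8,1),(0,1),(0,2),(1,2),(4,2),(0,2),(2,1),
    (8,1),(0,1),(0,2),(0,2),(0,2),(0,1),(5,2),(0,1),(2,2),(0,2),(0,2),(0,2),(1,1),(0,1),(10,2),
    (1,1),(4,2),(1,1),(1,2),(3,2),(0,1),(1,1),(4,2),(1,2)],
   [(13,2),(4,2),(2,2),(0,2),(2,2),(1,1),(2,1),(1,1),(0,1),(0,2),(1,1),(0,1),(10,1),(0,1),(1,2),
    (0,1),(0,2),(0,2),(1,1),(0,1),(0,2),(0,1),(4,2),(1,2),(0,2),(0,1),(0,1),(8,1),(0,1),(0,2),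
    (1,2),(5,1),(0,1),(0,1),(9,1),(4,1),(2,1),(1,2),(2,1),(0,1),(0,2),(2,2),(0,1),(0,1),(0,2),
    (12,1),(0,1),(4,1),(0,2),(3,1),(1,2),(0,1),(0,2),(0,2),(14,2),(0,1),(1,2),(0,2),(3,2),(1,1),
    (0,2),(0,2),(8,2),(0,2),(1,2),(0,2),(0,1),(5,2),(1,1),(0,1),(1,2),(0,1),(15,1),(0,2),(0,1),
    (0,2),(0,2),(1,1),(2,1),(4,2),(0,2),(1,2),(0,2)],
   [(12,2),(1,1),(5,2),(0,1),(3,2),(1,1),(0,1),(1,1),(0,2),(0,1),(0,1),(0,2),(0,2),(0,1),(11,1),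
    (0,2),(0,1),(0,1),(1,2),(1,2),(1,1),(6,1),(0,2),(0,1),(0,1),(0,2),(9,1),(1,2),(1,1),(3,1),
    (0,1),(1,1),(0,1),(9,1),(4,2),(0,1),(0,2),(0,2),(0,1),(3,1),(0,2),(0,2),(0,1),(1,1),(1,1),
    (0,2),(12,1),(1,1),(2,2),(0,2),(0,1),(3,2),(1,2),(0,1),(15,2),(0,2),(0,1),(0,1),(0,1),(4,1),
    (1,2),(1,2),(8,1),(1,1),(0,2),(1,2),(4,2),(0,1),(0,2),(0,2),(0,2),(1,1),(0,2),(0,1),(0,2),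
    (0,2),(11,1),(1,1),(0,2),(1,1),(1,1),(1,1),(0,2),(7,1),(0,2),(3,2),(1,2)],
   [(12,1),(0,2),(0,1),(3,1),(0,2),(0,1),(1,1),(2,2),(2,2),(3,1),(1,1),(1,1),(0,2),(11,1),(0,1),
    (0,1),(0,2),(1,2),(2,1),(1,1),(4,1),(1,1),(0,2),(0,2),(0,1),(8,2),(0,2),(0,1),(0,2),(0,1),
    (4,1),(0,2),(0,2),(0,1),(0,1),(8,1),(5,1),(0,2),(0,1),(0,2),(0,1),(3,2),(0,1),(0,1),(1,2),
    (2,1),(12,1),(0,2),(0,2),(0,1),(1,2),(1,1),(3,2),(0,2),(1,1),(1,2),(4,2),(8,2),(0,2),(3,1),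
    (3,2),(0,1),(11,2),(1,1),(0,2),(0,1),(6,1),(0,2),(0,2),(2,2),(0,2),(1,1),(1,2),(12,1),(0,1),
    (1,2),(3,2),(0,1),(0,2),(0,1),(2,1),(0,2),(1,2),(0,2),(3,2),(0,1)],
   [(12,1),(6,1),(1,2),(5,2),(3,2),(1,2),(1,2),(1,2),(10,2),(1,1),(0,1),(0,1),(1,1),(0,2),(0,2),
    (1,1),(0,1),(4,1),(0,1),(2,2),(0,2),(9,2),(0,2),(0,2),(0,1),(6,2),(0,1),(9,1),(4,2),(2,1),
    (1,1),(2,2),(1,2),(0,1),(1,1),(0,2),(0,2),(0,2),(12,2),(0,2),(3,2),(0,2),(0,2),(0,2),(3,2),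
    (0,2),(0,2),(1,1),(4,2),(9,1),(1,2),(0,2),(4,2),(0,1),(0,1),(0,1),(0,2),(8,2),(0,1),(0,1),
    (0,1),(6,2),(0,2),(1,1),(1,2),(0,1),(0,2),(2,2),(0,1),(10,2),(0,2),(0,2),(1,2),(0,1),(0,2),
    (0,1),(1,2),(0,2),(4,2),(1,1),(1,2),(3,2),(0,1),(0,2)]]

/-- Rows of a matrix. -/
def matP16 : List (List (ℕ × ℕ)) :=
  [[(14,1),(5,2),(0,2),(0,2),(2,1),(0,2),(0,1),(0,2),(1,1),(0,2),(3,1),(0,1),(11,1),(1,1),(1,1),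
    (1,2),(2,2),(0,1),(0,1),(5,1),(1,1),(0,1),(0,2),(8,2),(0,2),(0,2),(0,2),(0,1),(3,2),(1,1),
    (0,2),(0,1),(0,2),(13,1),(0,2),(0,2),(0,1),(1,1),(2,2),(2,1),(1,2),(0,2),(0,2),(0,1),(13,2),
    (0,2),(0,2),(1,1),(1,1),(0,1),(2,1),(0,2),(0,1),(1,2),(0,2),(4,2),(10,1),(0,2),(0,2),(0,2),
    (3,2),(1,1),(1,2),(9,1),(0,2),(0,1),(0,1),(0,1),(4,2),(0,2),(0,1),(0,1),(2,2),(0,1),(0,1),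
    (0,2),(0,1),(11,2),(0,1),(0,1),(1,2),(0,2),(0,2),(2,1),(0,1),(0,2),(0,1),(4,2),(0,2),(0,1),
    (5,2)],
   [(12,1),(0,2),(0,1),(3,1),(0,2),(1,1),(3,2),(2,1),(2,2),(1,1),(14,2),(0,2),(0,2),(0,2),(1,1),
    (0,1),(1,2),(2,2),(4,2),(0,2),(0,1),(0,2),(1,2),(8,1),(0,1),(0,1),(1,1),(4,1),(0,1),(0,1),
    (0,1),(0,1),(8,2),(4,1),(0,2),(0,2),(0,1),(0,2),(0,1),(2,2),(1,2),(0,2),(1,2),(0,2),(14,2),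
    (0,1),(0,1),(0,2),(1,2),(1,2),(0,2),(2,1),(2,2),(1,1),(4,2),(9,1),(0,1),(0,2),(0,1),(0,1),
    (3,1),(2,1),(0,2),(9,1),(0,1),(7,1),(0,2),(0,2),(0,1),(0,1),(0,1),(0,2),(0,2),(1,2),(12,1),
    (0,1),(0,2),(0,2),(0,2),(0,1),(1,2),(1,1),(1,2),(0,1),(4,1),(1,1),(4,2),(0,2)],
   [(13,2),(0,1),(4,2),(0,1),(1,1),(2,1),(1,2),(2,2),(2,1),(1,1),(0,1),(0,1),(11,1),(1,1),(1,1),
    (1,1),(0,2),(1,1),(5,1),(1,2),(0,1),(0,2),(10,2),(1,1),(4,1),(0,2),(1,2),(1,1),(13,2),(0,1),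
    (1,1),(0,1),(0,2),(3,2),(0,2),(0,2),(1,2),(0,1),(0,2),(0,1),(15,2),(1,2),(1,1),(0,1),(2,1),
    (0,2),(0,1),(0,2),(0,1),(0,2),(13,2),(0,2),(1,1),(0,2),(0,1),(3,2),(0,1),(0,2),(1,1),(9,1),
    (0,2),(0,1),(0,1),(0,1),(4,2),(0,1),(0,1),(0,2),(1,1),(0,1),(0,2),(0,2),(1,2),(12,2),(0,1),
    (0,1),(0,1),(0,2),(0,1),(2,1),(0,1),(0,1),(0,2),(2,2),(0,1),(2,1),(3,1),(0,1),(0,2)],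
   [(13,1),(0,1),(3,1),(3,1),(2,2),(0,1),(1,1),(1,2),(1,2),(0,1),(3,2),(10,2),(2,1),(1,1),(1,1),
    (0,2),(1,2),(0,1),(5,1),(0,2),(0,2),(0,1),(0,2),(8,1),(0,2),(0,1),(5,1),(0,1),(0,1),(1,1),
    (0,1),(15,1),(0,1),(0,1),(0,1),(2,2),(2,1),(2,2),(0,1),(0,1),(12,2),(0,1),(1,2),(2,1),(0,1),
    (0,2),(2,2),(0,2),(0,2),(2,1),(4,1),(8,2),(0,2),(0,1),(0,2),(5,2),(1,2),(1,2),(8,1),(0,1),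
    (0,1),(0,2),(0,2),(0,1),(4,2),(0,2),(0,2),(0,1),(2,1),(1,2),(13,2),(0,2),(0,2),(0,2),(1,2),
    (0,2),(0,2),(2,1),(0,2),(0,1),(2,1),(0,1),(1,2),(0,2),(3,1),(0,2)],
   [(12,1),(1,2),(3,2),(0,1),(0,2),(4,1),(1,2),(0,2),(1,1),(1,2),(0,1),(0,1),(0,1),(0,1),(0,2),
    (10,2),(2,1),(0,1),(0,2),(1,2),(0,1),(0,2),(0,2),(0,2),(7,2),(0,2),(0,2),(8,1),(1,2),(5,2),
    (0,2),(0,2),(0,2),(0,2),(0,2),(13,1),(0,2),(1,2),(0,1),(0,1),(2,1),(0,2),(0,1),(0,2),(2,1),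
    (0,1),(13,1),(2,2),(2,2),(1,1),(5,2),(16,1),(0,2),(0,2),(1,1),(3,2),(0,1),(0,1),(0,2),(0,2),
    (9,1),(0,1),(0,2),(0,2),(0,2),(4,1),(1,1),(0,1),(0,2),(3,2),(1,2),(0,1),(10,2),(4,2),(1,1),
    (1,2),(0,1),(1,2),(2,1),(0,1),(2,2),(3,2),(0,1)],
   [(12,1),(0,1),(5,2),(0,1),(0,1),(0,2),(2,1),(0,1),(0,2),(0,1),(3,1),(0,1),(0,2),(1,1),(0,1),
    (11,2),(0,1),(3,2),(0,1),(0,1),(0,2),(0,2),(0,2),(4,2),(1,1),(1,1),(0,2),(8,2),(0,1),(0,1),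
    (1,1),(3,1),(0,2),(1,2),(1,1),(8,2),(4,1),(0,1),(0,1),(1,1),(0,1),(4,1),(0,1),(1,1),(1,2),
    (13,2),(0,2),(0,1),(0,1),(2,1),(0,2),(3,2),(0,1),(0,2),(1,2),(17,2),(0,2),(4,1),(1,2),(0,2),
    (0,2),(9,1),(0,1),(1,2),(6,2),(0,2),(0,2),(0,1),(2,1),(3,1),(10,2),(2,2),(1,1),(0,2),(0,2),
    (3,2),(0,1),(2,1),(0,1),(0,2),(0,2),(4,1)],
   [(12,1),(0,1),(0,1),(4,1),(1,2),(3,2),(0,1),(0,2),(0,1),(1,2),(0,2),(1,1),(0,2),(15,2),(1,1),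
    (2,2),(0,1),(1,1),(7,1),(0,2),(10,1),(0,1),(0,1),(0,2),(0,1),(6,2),(1,2),(8,1),(5,2),(0,1),
    (0,1),(0,1),(0,2),(2,1),(1,2),(2,1),(0,1),(0,1),(13,1),(0,2),(0,2),(0,2),(1,2),(1,2),(3,2),
    (1,2),(1,2),(5,2),(8,1),(0,1),(0,2),(0,1),(1,1),(3,1),(1,1),(0,2),(9,2),(1,1),(0,1),(0,1),
    (5,1),(4,2),(0,1),(0,2),(1,1),(1,2),(11,1),(0,2),(0,2),(0,2),(0,2),(1,1),(1,2),(0,2),(0,1),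
    (0,1),(2,2),(0,2),(0,1),(5,1),(0,1)],
   [(14,1),(3,1),(0,2),(0,2),(0,1),(0,2),(2,2),(0,2),(3,2),(0,1),(0,2),(0,2),(0,1),(0,2),(0,1),
    (0,2),(11,1),(1,1),(0,1),(1,1),(9,1),(0,2),(3,2),(8,2),(1,1),(0,2),(0,1),(6,2),(0,2),(9,2),
    (4,2),(0,1),(1,1),(0,2),(6,2),(2,1),(0,2),(0,1),(14,2),(2,2),(0,2),(1,1),(4,2),(0,1),(0,2),
    (0,2),(4,2),(8,2),(0,2),(0,2),(2,2),(3,1),(0,2),(0,2),(0,2),(0,2),(8,1),(0,2),(0,2),(0,2),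
    (1,1),(6,2),(2,1),(4,1),(0,2),(10,2),(0,2),(1,2),(2,1),(0,1),(1,2),(0,2),(1,2),(2,2),(0,1),
    (1,2),(4,1),(0,1)]]

/-- Rows of a matrix. -/
def matP17 : List (List (ℕ × ℕ)) :=
  [[(12,2),(1,1),(3,2),(1,1),(0,2),(0,1),(2,2),(0,1),(0,1),(0,1),(2,1),(1,2),(0,2),(0,1),(13,1),
    (1,1),(0,2),(1,2),(0,1),(0,2),(0,1),(0,1),(0,2),(4,2),(0,1),(1,1),(0,1),(9,2),(0,1),(0,1),
    (0,1),(0,2),(3,2),(0,2),(12,2),(6,2),(0,1),(0,1),(0,2),(2,2),(2,1),(1,1),(1,1),(0,2),(12,2),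
    (0,1),(0,1),(0,2),(2,2),(0,1),(0,1),(2,2),(0,2),(0,1),(0,1),(0,1),(0,2),(13,1),(0,1),(0,2),
    (6,1),(0,2),(0,1),(0,2),(10,1),(0,2),(1,2),(0,1),(4,1),(0,1),(0,1),(0,2),(0,2),(0,2),(0,2),
    (1,2),(1,1),(0,2),(11,1),(0,2),(0,1),(1,2),(1,1),(1,1),(0,1),(1,1),(2,1),(0,2),(0,2),(0,2),
    (0,1),(3,2),(0,2),(0,1)],
   [(14,1),(4,1),(0,1),(0,2),(3,2),(0,1),(3,2),(0,2),(0,2),(1,1),(0,2),(13,2),(0,2),(0,2),(0,2),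
    (2,1),(1,2),(6,2),(2,1),(1,2),(8,2),(3,2),(3,1),(0,1),(0,2),(0,1),(1,2),(8,1),(8,2),(0,2),
    (3,2),(0,1),(2,2),(1,2),(0,2),(13,2),(0,1),(0,2),(1,2),(0,1),(0,2),(0,1),(3,1),(1,2),(1,1),
    (4,1),(8,1),(1,1),(0,2),(0,2),(0,2),(3,1),(1,2),(0,2),(0,1),(8,1),(0,2),(1,1),(0,2),(7,1),
    (0,1),(1,2),(2,1),(0,1),(0,1),(0,2),(10,1),(0,2),(0,1),(0,2),(0,1),(1,2),(0,1),(3,1),(0,1),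
    (4,1),(0,2),(4,1),(0,1)],
   [(12,2),(5,2),(0,2),(0,2),(0,2),(0,1),(2,2),(0,1),(0,1),(0,1),(2,1),(0,2),(0,2),(1,1),(0,1),
    (0,2),(10,1),(1,2),(0,1),(0,2),(0,1),(0,1),(3,1),(0,2),(4,2),(0,2),(0,2),(0,1),(0,2),(9,2),
    (0,1),(0,1),(0,2),(0,2),(4,1),(1,2),(0,2),(0,2),(14,1),(6,1),(0,1),(0,1),(0,2),(1,1),(0,1),
    (14,1),(0,2),(0,2),(0,1),(3,2),(0,1),(2,1),(1,1),(0,1),(0,2),(0,2),(13,2),(0,2),(0,2),(0,1),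
    (5,1),(0,2),(0,2),(1,1),(8,1),(0,2),(0,2),(0,2),(0,2),(0,1),(4,1),(1,1),(1,1),(0,1),(0,1),
    (0,1),(0,1),(1,2),(0,1),(10,2),(0,1),(0,2),(0,1),(0,1),(0,2),(1,2),(1,2),(1,2),(3,2),(0,1),
    (0,1),(0,2),(5,1),(0,2)],
   [(12,2),(5,2),(0,1),(0,2),(0,1),(0,1),(2,2),(0,1),(6,1),(0,1),(1,2),(0,1),(14,2),(1,1),(0,2),
    (0,2),(0,1),(6,2),(1,2),(0,2),(1,1),(8,2),(0,1),(0,2),(0,1),(0,1),(4,2),(1,1),(0,2),(9,2),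
    (4,1),(0,1),(0,2),(5,1),(0,1),(0,1),(0,2),(4,2),(12,1),(1,2),(2,2),(0,1),(4,1),(0,1),(0,2),
    (0,2),(15,2),(1,1),(0,1),(0,2),(0,2),(4,1),(0,1),(0,1),(0,2),(8,1),(0,2),(0,2),(1,2),(0,1),
    (4,2),(0,1),(0,2),(1,2),(1,1),(0,2),(0,1),(0,2),(0,2),(11,1),(2,2),(1,2),(1,2),(1,1),(5,2),
    (0,2),(7,2),(0,2)],
   [(12,2),(0,1),(0,1),(3,1),(0,1),(1,2),(0,2),(4,1),(0,2),(2,1),(0,1),(2,1),(12,1),(0,1),(1,1),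
    (0,1),(1,1),(0,2),(1,1),(0,2),(0,2),(4,1),(0,2),(0,2),(1,1),(0,2),(8,1),(0,1),(0,2),(0,1),
    (0,2),(3,2),(0,1),(1,2),(0,2),(0,1),(8,2),(4,1),(0,2),(0,1),(0,1),(0,2),(3,2),(0,1),(1,1),
    (1,2),(0,1),(0,2),(0,1),(12,1),(0,2),(1,1),(1,1),(0,2),(0,1),(0,1),(2,2),(0,2),(0,2),(0,1),
    (0,1),(0,1),(4,1),(8,1),(3,1),(0,2),(4,2),(0,1),(0,1),(0,1),(9,1),(1,2),(0,1),(0,2),(4,2),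
    (1,1),(0,1),(2,2),(1,1),(0,1),(1,2),(11,1),(0,2),(0,2),(0,2),(0,2),(0,1),(0,2),(2,2),(1,2),
    (2,2),(0,2),(0,1),(0,1),(0,2),(3,1),(0,2)],
   [(12,1),(0,2),(0,2),(3,2),(0,1),(0,2),(0,1),(0,1),(2,1),(0,2),(0,2),(3,2),(1,1),(1,1),(0,1),
    (0,1),(10,1),(0,1),(0,2),(1,2),(0,2),(0,2),(1,1),(1,2),(0,1),(4,2),(0,1),(0,1),(0,2),(0,2),
    (0,1),(8,2),(0,2),(2,1),(3,1),(0,1),(0,2),(0,1),(0,2),(0,1),(8,2),(4,1),(0,1),(2,1),(0,2),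
    (2,1),(0,1),(0,2),(0,2),(2,1),(1,1),(12,2),(0,2),(0,2),(0,1),(1,1),(1,2),(0,2),(4,2),(0,2),
    (0,1),(0,1),(4,2),(8,1),(0,1),(0,2),(1,1),(5,2),(1,2),(9,2),(0,1),(1,2),(0,1),(5,2),(0,2),
    (1,1),(2,1),(1,2),(1,2),(0,1),(11,2),(0,2),(0,1),(0,2),(0,2),(1,2),(1,2),(0,1),(0,2),(0,2),
    (2,2),(2,1),(4,1),(0,1),(0,1)],
   [(13,1),(5,1),(0,1),(0,1),(5,2),(2,1),(0,1),(0,2),(0,1),(1,2),(0,1),(11,1),(2,2),(3,2),(1,2),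
    (0,2),(0,2),(5,2),(0,2),(0,2),(0,2),(0,1),(8,1),(0,1),(1,2),(0,2),(4,1),(0,2),(1,1),(9,2),
    (4,2),(0,1),(0,1),(2,1),(2,1),(0,1),(0,2),(0,2),(1,2),(1,1),(13,2),(0,1),(0,1),(0,1),(1,2),
    (1,1),(0,2),(2,1),(0,2),(0,2),(0,2),(0,2),(5,2),(8,1),(0,2),(0,2),(0,2),(0,2),(5,2),(0,1),
    (0,1),(0,1),(8,1),(0,2),(0,2),(0,2),(1,1),(4,1),(1,2),(0,1),(0,2),(1,2),(0,2),(1,1),(1,1),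
    (10,2),(0,1),(0,1),(1,1),(0,2),(1,2),(1,1),(5,2),(0,2),(0,1),(1,1),(3,2),(1,2)],
   [(12,2),(5,1),(0,2),(0,1),(0,2),(4,2),(0,1),(0,1),(1,1),(0,2),(0,1),(0,1),(0,1),(0,1),(12,2),
    (0,2),(1,2),(0,2),(0,1),(0,2),(0,2),(0,1),(2,2),(4,1),(1,1),(0,1),(1,2),(8,1),(0,1),(2,2),
    (3,1),(0,1),(0,1),(0,1),(1,2),(13,2),(0,2),(0,2),(0,1),(0,1),(0,2),(2,1),(0,2),(0,2),(0,1),
    (2,1),(1,1),(12,1),(0,1),(0,1),(2,1),(0,2),(0,1),(3,1),(0,2),(1,2),(0,1),(0,2),(13,2),(0,1),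
    (1,1),(0,2),(5,2),(0,2),(0,1),(9,1),(0,1),(0,2),(1,2),(5,1),(0,1),(0,1),(0,2),(0,2),(0,1),
    (0,2),(0,1),(1,2),(1,1),(10,2),(0,1),(0,2),(0,2),(1,2),(1,2),(1,1),(0,2),(0,2),(0,2),(2,2),
    (0,1),(0,2),(0,1),(0,2),(3,2),(0,2),(0,1)]]

/-- Rows of a matrix. -/
def matP18 : List (List (ℕ × ℕ)) :=
  [[(13,1),(4,1),(0,1),(0,2),(1,1),(3,1),(1,1),(1,1),(1,1),(0,1),(0,2),(0,2),(0,2),(0,1),(10,1),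
    (1,1),(3,1),(1,2),(0,1),(6,2),(0,1),(0,1),(0,1),(0,2),(10,1),(0,1),(0,1),(0,1),(6,1),(0,2),
    (0,2),(14,2),(1,1),(0,1),(5,1),(3,2),(14,2),(2,2),(1,1),(0,1),(0,1),(0,1),(2,2),(0,2),(0,1),
    (2,2),(13,1),(2,2),(0,1),(0,2),(3,2),(1,1),(1,1),(8,2),(0,2),(1,2),(0,1),(0,2),(4,1),(0,2),
    (0,2),(1,2),(3,1),(0,2),(1,2),(10,1),(0,2),(0,1),(1,1),(0,2),(0,1),(2,2),(1,2),(7,1),(3,1),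
    (0,2),(0,2)],
   [(12,1),(0,1),(0,2),(3,2),(1,1),(1,2),(3,2),(0,1),(0,1),(1,1),(0,2),(3,1),(0,1),(11,2),(0,2),
    (0,1),(1,2),(1,2),(3,2),(0,2),(4,1),(0,2),(0,2),(0,2),(0,1),(0,1),(8,2),(0,2),(0,2),(5,1),
    (0,2),(3,2),(13,1),(1,1),(1,1),(0,1),(3,2),(0,1),(0,2),(2,1),(1,2),(12,2),(1,2),(0,1),(1,2),
    (7,2),(0,1),(0,1),(14,1),(1,2),(0,2),(0,1),(0,1),(3,2),(0,2),(1,2),(0,2),(8,1),(0,2),(1,2),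
    (0,2),(5,2),(2,1),(0,2),(0,1),(1,1),(15,2),(0,2),(0,1),(0,1),(1,2),(0,1),(2,1),(0,1),(0,2),
    (2,1),(0,1),(0,1),(1,2),(3,2),(0,2),(0,2)],
   [(12,2),(1,2),(4,1),(0,1),(0,2),(0,1),(2,2),(0,1),(1,2),(4,1),(2,2),(0,2),(10,1),(0,2),(0,2),
    (0,2),(0,2),(0,2),(0,2),(2,1),(0,1),(0,1),(5,2),(1,1),(1,1),(8,2),(0,1),(0,2),(0,1),(0,2),
    (3,1),(0,2),(0,2),(0,2),(0,2),(0,2),(8,2),(4,1),(0,2),(1,1),(4,2),(0,1),(1,1),(2,1),(0,1),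
    (15,2),(0,2),(2,2),(0,2),(0,1),(2,2),(0,1),(0,1),(0,1),(1,1),(4,1),(8,1),(1,2),(0,1),(0,2),
    (4,2),(0,2),(0,2),(1,1),(9,1),(1,1),(6,2),(0,1),(0,1),(0,2),(0,1),(0,2),(0,1),(0,2),(1,1),
    (0,2),(11,2),(0,2),(1,2),(3,1),(1,1),(1,2),(3,1),(1,2),(0,1),(0,2),(3,1),(0,2),(0,2)],
   [(12,2),(1,2),(3,2),(0,2),(1,1),(4,1),(0,2),(0,2),(1,2),(0,2),(1,1),(0,1),(0,2),(0,2),(0,1),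
    (11,2),(0,1),(0,2),(0,1),(0,1),(0,2),(0,2),(0,1),(0,1),(0,2),(0,1),(5,2),(2,1),(9,1),(0,1),
    (1,1),(4,2),(2,1),(0,1),(9,1),(5,1),(0,2),(2,1),(4,1),(0,2),(1,1),(2,2),(12,1),(6,1),(5,1),
    (0,2),(0,1),(0,2),(4,1),(9,2),(3,1),(3,1),(0,2),(0,2),(11,2),(0,1),(0,1),(0,2),(0,1),(4,2),
    (2,1),(0,1),(0,1),(0,1),(0,2),(0,1),(0,2),(0,1),(0,1),(10,1),(0,1),(0,1),(0,1),(0,1),(1,2),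
    (0,1),(1,1),(0,1),(0,2),(0,1),(2,2),(1,2),(0,1),(0,2),(3,2),(1,1)],
   [(12,2),(0,1),(4,2),(0,2),(5,1),(1,2),(2,1),(1,2),(0,1),(0,2),(0,2),(0,1),(11,2),(0,1),(0,1),
    (1,2),(0,2),(1,1),(0,2),(2,1),(4,1),(0,1),(0,2),(0,2),(0,1),(10,1),(0,2),(0,2),(0,2),(4,2),
    (0,1),(1,2),(0,1),(8,1),(4,1),(0,2),(0,1),(0,2),(0,1),(3,2),(2,1),(1,2),(0,1),(0,1),(13,1),
    (0,2),(0,1),(0,1),(1,2),(0,1),(1,2),(2,2),(0,2),(1,1),(6,2),(8,2),(0,2),(0,1),(9,1),(9,2),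
    (0,1),(1,1),(6,2),(0,1),(0,2),(0,2),(0,1),(1,1),(0,2),(1,1),(0,1),(0,1),(12,2),(0,2),(1,2),
    (0,1),(2,1),(0,2),(0,2),(3,2),(1,1),(0,1),(0,2),(3,2),(1,1)],
   [(12,1),(0,1),(4,1),(1,1),(0,1),(4,1),(0,1),(0,1),(1,2),(2,1),(0,2),(0,2),(0,1),(12,1),(1,2),
    (0,1),(0,2),(1,1),(1,1),(0,2),(0,1),(5,2),(1,1),(0,1),(0,2),(9,2),(0,1),(1,2),(4,1),(0,1),
    (0,2),(0,1),(14,1),(0,2),(1,1),(1,2),(3,1),(1,1),(1,1),(0,2),(0,2),(13,2),(0,2),(0,2),(0,2),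
    (3,2),(0,1),(2,1),(0,1),(0,1),(1,2),(0,2),(4,1),(8,2),(0,1),(0,1),(2,2),(3,2),(1,1),(0,2),
    (9,1),(0,2),(0,1),(0,2),(0,1),(0,2),(4,1),(0,2),(0,1),(0,1),(0,2),(0,2),(0,1),(0,2),(1,2),
    (0,1),(12,1),(2,1),(1,1),(2,1),(0,2),(0,1),(0,1),(3,1),(0,1),(0,1),(0,2),(3,2),(0,2),(0,2)],
   [(12,2),(1,1),(3,1),(3,2),(2,1),(2,2),(1,1),(0,2),(0,2),(0,2),(0,2),(1,2),(11,1),(1,1),(1,2),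
    (0,1),(0,2),(0,1),(1,1),(1,1),(5,2),(1,1),(0,1),(0,1),(8,2),(0,2),(1,2),(0,2),(5,2),(0,1),
    (0,1),(0,1),(13,1),(0,2),(2,2),(0,1),(4,1),(0,1),(1,2),(1,1),(0,2),(12,1),(0,1),(1,1),(1,2),
    (0,2),(1,2),(3,2),(0,2),(0,1),(0,2),(0,2),(4,1),(8,1),(0,1),(0,2),(0,2),(0,1),(4,2),(0,1),
    (0,2),(0,2),(11,2),(8,2),(1,2),(0,1),(0,1),(0,2),(1,2),(2,2),(13,1),(0,2),(0,2),(0,2),(2,1),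
    (2,1),(2,1),(0,2),(2,2),(3,2),(1,2)],
   [(12,2),(0,1),(0,1),(4,2),(0,2),(0,2),(0,1),(4,1),(0,1),(2,2),(0,2),(1,2),(0,2),(0,2),(12,2),
    (0,2),(0,1),(0,2),(0,2),(0,2),(1,1),(1,1),(0,2),(4,2),(0,2),(1,2),(1,1),(10,1),(0,1),(0,1),
    (3,1),(0,2),(2,2),(0,2),(8,1),(4,2),(0,1),(0,2),(0,1),(0,2),(3,2),(0,2),(0,2),(0,2),(1,2),
    (18,2),(1,2),(1,1),(0,1),(2,2),(1,1),(0,1),(0,1),(0,1),(13,2),(0,1),(0,1),(0,2),(0,1),(0,1),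
    (3,2),(0,1),(0,2),(0,1),(0,2),(8,2),(2,1),(1,1),(5,2),(0,2),(0,2),(0,1),(0,1),(0,1),(0,1),
    (1,1),(1,1),(11,2),(0,2),(3,1),(0,1),(1,2),(0,2),(0,2),(0,2),(2,2),(0,1),(1,1),(4,1),(0,2),
    (0,1)]]

/-- Rows of a matrix. -/
def matP19 : List (List (ℕ × ℕ)) :=
  [[(13,1),(0,1),(3,2),(1,1),(1,2),(4,2),(6,1),(1,2),(0,1),(10,2),(0,2),(0,2),(0,2),(0,2),(2,2),
    (0,2),(1,2),(0,2),(4,2),(1,2),(0,2),(0,1),(0,1),(10,1),(0,2),(0,1),(3,2),(0,2),(0,2),(0,1),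
    (0,1),(0,1),(14,2),(0,1),(0,2),(0,2),(0,1),(2,2),(0,2),(0,1),(0,2),(1,1),(1,2),(0,2),(13,1),
    (1,2),(1,1),(1,1),(3,1),(0,2),(1,1),(1,2),(4,1),(11,2),(1,2),(3,1),(0,1),(1,2),(0,1),(8,1),
    (0,2),(1,2),(0,1),(5,1),(2,2),(0,2),(1,2),(0,2),(0,2),(2,1),(10,2),(0,1),(1,2),(1,2),(0,1),
    (2,2),(1,2),(0,1),(2,2),(0,1),(0,2),(1,2),(3,2),(1,1)],
   [(12,1),(0,1),(0,2),(3,1),(0,2),(0,1),(0,1),(0,2),(2,2),(0,2),(0,1),(2,1),(0,2),(1,2),(1,1),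
    (0,2),(11,2),(0,1),(0,2),(0,2),(0,2),(0,1),(0,1),(0,2),(0,1),(0,2),(0,1),(6,1),(0,1),(0,1),
    (1,2),(8,2),(0,2),(0,2),(1,1),(3,1),(3,2),(9,1),(5,2),(2,2),(0,1),(4,2),(3,2),(0,1),(0,1),
    (13,1),(0,2),(0,2),(1,1),(0,1),(4,2),(9,2),(8,1),(4,2),(3,1),(0,2),(0,2),(0,2),(12,2),(0,2),
    (0,2),(4,1),(0,1),(0,1),(0,1),(0,2),(0,2),(0,1),(0,2),(0,2),(0,1),(0,2),(11,1),(0,1),(0,2),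
    (0,1),(1,2),(3,2),(0,1),(1,1),(2,2),(1,1),(0,1),(0,1),(3,1),(0,2),(0,2)],
   [(12,1),(0,2),(4,1),(0,1),(1,1),(0,1),(3,1),(4,2),(0,2),(0,2),(0,2),(0,1),(0,2),(11,2),(0,1),
    (0,1),(1,2),(0,2),(0,1),(1,2),(0,2),(0,1),(0,1),(7,2),(0,1),(0,2),(8,1),(0,1),(0,1),(0,2),
    (5,1),(0,1),(0,2),(1,1),(8,1),(4,1),(0,1),(0,1),(0,2),(1,1),(2,1),(1,2),(0,1),(3,2),(0,1),
    (13,1),(0,1),(0,1),(1,1),(0,1),(0,1),(0,2),(2,1),(0,1),(0,1),(0,1),(0,2),(5,1),(10,1),(1,1),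
    (0,2),(3,1),(1,2),(0,1),(0,1),(8,1),(0,1),(0,2),(0,1),(0,2),(0,1),(5,2),(2,2),(0,1),(0,2),
    (0,1),(0,1),(0,1),(0,1),(0,1),(10,2),(2,2),(0,1),(1,1),(0,2),(1,1),(0,1),(0,1),(3,2),(0,1),
    (0,1),(5,2),(0,2),(0,1)],
   [(14,2),(4,2),(0,2),(0,2),(3,1),(0,1),(0,1),(0,1),(1,2),(1,1),(0,1),(0,2),(1,1),(0,1),(10,2),
    (0,2),(0,1),(0,1),(0,1),(0,2),(2,2),(1,2),(5,1),(0,1),(0,1),(2,1),(8,2),(1,2),(0,1),(0,1),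
    (4,2),(1,2),(0,2),(0,1),(8,2),(6,1),(1,2),(0,1),(2,2),(0,1),(0,1),(0,2),(1,1),(0,1),(1,2),
    (12,2),(0,1),(0,2),(3,1),(0,2),(0,2),(4,1),(0,1),(0,1),(0,2),(4,1),(9,2),(0,2),(0,2),(0,2),
    (4,1),(0,2),(11,2),(3,2),(0,1),(4,2),(1,1),(2,1),(0,2),(0,1),(0,1),(0,1),(0,1),(11,2),(0,1),
    (1,1),(1,1),(0,1),(0,2),(4,1),(3,1),(0,2),(0,1),(5,1),(0,1)],
   [(14,1),(3,2),(3,2),(2,2),(0,2),(0,2),(0,2),(1,1),(1,2),(0,1),(0,1),(13,2),(0,2),(0,2),(3,1),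
    (1,2),(0,1),(0,1),(0,1),(4,1),(1,1),(0,2),(0,1),(9,2),(1,1),(0,2),(4,2),(0,1),(0,1),(0,2),
    (0,1),(0,1),(8,1),(5,2),(2,1),(0,1),(2,1),(0,2),(0,1),(2,1),(0,1),(1,2),(13,1),(0,1),(2,2),
    (0,2),(5,2),(2,1),(0,1),(4,2),(9,1),(2,1),(0,1),(3,1),(0,2),(1,2),(0,2),(8,1),(1,2),(1,2),
    (0,1),(4,2),(0,2),(1,2),(2,1),(0,1),(0,2),(0,2),(0,1),(0,2),(10,2),(0,1),(0,2),(0,1),(2,1),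
    (2,2),(0,2),(0,2),(0,2),(2,1),(1,1),(0,2),(0,1),(3,2),(0,2),(0,1)],
   [(12,2),(0,2),(0,1),(3,2),(0,2),(0,1),(0,2),(3,1),(0,1),(0,1),(2,1),(0,1),(1,1),(0,2),(0,2),
    (0,2),(0,1),(10,2),(0,1),(0,2),(0,2),(0,2),(0,1),(0,2),(0,1),(0,1),(1,2),(5,1),(0,1),(0,2),
    (0,1),(0,2),(0,1),(8,2),(0,2),(0,2),(1,1),(5,1),(0,1),(0,1),(0,2),(8,1),(5,1),(0,2),(0,2),
    (0,1),(0,2),(2,1),(1,1),(0,2),(2,1),(0,2),(0,1),(12,2),(0,2),(0,2),(2,2),(1,2),(0,1),(2,1),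
    (0,2),(1,1),(0,1),(5,2),(9,1),(0,1),(0,1),(1,2),(3,1),(0,1),(0,2),(0,1),(9,1),(2,2),(1,1),
    (4,2),(1,1),(0,2),(3,2),(0,1),(14,1),(2,1),(0,2),(3,2),(1,2),(0,2),(2,2),(1,1),(0,1),(0,1),
    (4,2),(0,1)],
   [(12,2),(1,1),(3,2),(0,1),(1,2),(3,1),(0,2),(0,2),(0,1),(2,1),(0,1),(1,1),(0,2),(0,1),(0,1),
    (10,1),(1,2),(1,2),(0,2),(2,2),(0,1),(0,1),(5,1),(0,2),(0,2),(1,2),(0,1),(8,2),(1,2),(7,1),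
    (0,1),(1,2),(8,2),(5,2),(1,2),(1,2),(2,1),(1,1),(0,2),(1,2),(0,2),(0,1),(0,2),(12,1),(1,2),
    (3,2),(1,2),(3,1),(1,2),(6,2),(8,2),(0,2),(0,2),(6,2),(0,2),(1,2),(0,2),(9,2),(0,2),(0,1),
    (0,2),(0,1),(5,2),(0,2),(0,2),(0,2),(1,1),(0,2),(0,1),(2,2),(10,1),(2,1),(0,2),(0,1),(0,2),
    (0,1),(1,2),(0,1),(0,1),(0,1),(3,1),(0,2),(1,1),(4,1)],
   [(12,1),(5,2),(0,1),(1,2),(3,1),(0,1),(3,2),(0,2),(0,2),(0,1),(0,2),(0,1),(0,2),(0,2),(10,2),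
    (0,2),(0,2),(1,1),(0,2),(0,2),(0,1),(1,2),(1,2),(4,1),(0,1),(0,1),(1,2),(0,2),(9,2),(0,1),
    (1,2),(3,1),(0,1),(0,1),(0,1),(1,2),(8,2),(5,1),(0,2),(1,1),(0,1),(2,1),(0,1),(1,2),(1,2),
    (0,2),(1,1),(12,2),(0,2),(1,1),(1,2),(0,2),(0,2),(0,1),(2,1),(0,2),(0,1),(0,1),(1,2),(13,1),
    (1,2),(2,1),(3,2),(1,2),(0,1),(0,2),(8,1),(2,2),(0,2),(5,1),(0,2),(0,2),(0,2),(0,2),(0,1),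
    (0,2),(0,2),(0,2),(0,1),(0,1),(0,2),(11,1),(0,2),(2,1),(0,1),(0,1),(1,1),(1,2),(0,1),(2,2),
    (1,1),(0,1),(0,1),(5,1)]]

/-- Rows of a matrix. -/
def matP20 : List (List (ℕ × ℕ)) :=
  [[(12,2),(0,2),(0,2),(3,2),(0,1),(1,2),(0,1),(4,1),(2,2),(1,2),(0,2),(0,1),(0,2),(0,2),(0,2),
    (11,1),(0,1),(2,2),(1,1),(8,2),(0,2),(0,2),(1,2),(0,1),(9,1),(1,1),(4,1),(0,1),(0,1),(1,1),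
    (0,1),(8,2),(4,1),(0,1),(0,2),(0,1),(0,2),(3,1),(0,2),(0,1),(2,1),(1,1),(0,2),(12,2),(0,2),
    (1,1),(1,1),(0,1),(1,2),(2,2),(3,1),(5,1),(9,2),(1,1),(1,1),(3,1),(0,1),(0,1),(0,1),(0,2),
    (10,1),(0,1),(6,2),(0,1),(0,1),(0,2),(0,2),(0,1),(0,2),(1,1),(1,2),(0,2),(11,1),(0,2),(1,1),
    (2,1),(1,2),(0,2),(0,2),(0,1),(2,2),(1,1),(0,1),(0,1),(3,2),(1,1)],
   [(12,1),(1,1),(3,2),(0,1),(0,1),(1,1),(3,2),(1,1),(2,1),(0,2),(0,1),(0,1),(0,2),(1,1),(10,1),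
    (0,1),(0,2),(0,1),(0,1),(0,1),(0,2),(3,1),(6,2),(0,1),(12,1),(0,1),(1,2),(4,1),(0,1),(0,1),
    (0,2),(9,1),(4,1),(0,2),(0,1),(0,2),(4,2),(0,2),(1,1),(3,1),(0,2),(12,1),(0,2),(1,1),(2,1),
    (0,2),(4,2),(0,2),(0,2),(1,2),(4,2),(8,1),(0,2),(0,2),(0,1),(0,1),(0,1),(3,1),(1,2),(0,2),
    (0,1),(10,1),(1,1),(0,2),(6,2),(0,2),(0,1),(1,2),(1,1),(0,1),(13,1),(0,2),(0,1),(0,1),(0,2),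
    (0,2),(0,1),(2,1),(0,2),(3,2),(0,1),(0,1),(1,1),(3,1),(0,1)],
   [(12,1),(0,2),(4,1),(0,2),(0,1),(0,2),(0,1),(3,2),(0,2),(4,1),(2,2),(1,2),(10,2),(0,1),(1,2),
    (2,2),(0,1),(0,1),(0,2),(1,2),(4,2),(1,1),(0,1),(0,2),(0,2),(8,2),(0,1),(0,1),(0,1),(0,1),
    (3,2),(0,2),(0,2),(0,2),(1,1),(8,2),(4,1),(0,1),(0,1),(0,1),(0,2),(0,2),(2,1),(0,1),(0,2),
    (0,1),(1,1),(1,2),(0,2),(12,1),(0,1),(0,1),(0,1),(1,2),(2,2),(2,1),(1,1),(0,1),(0,1),(0,1),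
    (14,2),(0,2),(2,1),(3,1),(1,2),(0,1),(10,2),(1,2),(0,1),(5,1),(0,1),(0,1),(0,1),(2,1),(0,2),
    (0,2),(0,2),(0,1),(12,2),(1,1),(0,2),(1,1),(3,1),(0,2),(0,2),(2,2),(2,2),(4,1),(0,2),(0,1)],
   [(18,1),(0,2),(0,2),(0,1),(3,1),(0,1),(0,1),(0,1),(2,2),(2,1),(0,2),(0,1),(12,1),(0,2),(0,1),
    (2,2),(0,2),(0,1),(0,2),(1,2),(5,2),(1,2),(0,1),(9,2),(0,1),(2,1),(3,1),(0,2),(0,2),(1,2),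
    (0,1),(8,1),(4,2),(2,2),(0,1),(6,1),(2,2),(1,2),(13,1),(0,2),(2,1),(0,2),(0,2),(0,2),(2,1),
    (2,1),(0,1),(0,1),(4,1),(9,2),(0,2),(0,2),(0,1),(4,1),(0,2),(0,1),(0,1),(0,1),(8,2),(0,1),
    (0,1),(0,1),(1,1),(5,2),(0,2),(1,2),(0,1),(0,1),(0,2),(0,1),(15,1),(1,2),(0,2),(0,1),(3,2),
    (1,1),(2,1),(1,2),(1,2),(3,2),(0,2),(0,1)],
   [(12,1),(0,2),(0,1),(4,1),(2,2),(2,2),(0,2),(1,2),(1,2),(0,2),(0,2),(0,1),(14,2),(0,1),(0,2),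
    (0,2),(0,1),(1,2),(0,2),(0,1),(0,2),(6,2),(1,2),(0,2),(1,2),(8,2),(1,2),(0,2),(4,2),(1,1),
    (0,2),(15,2),(0,2),(1,1),(4,1),(0,1),(0,2),(0,2),(1,2),(0,1),(0,1),(14,1),(0,1),(2,1),(0,1),
    (0,1),(6,2),(0,1),(0,1),(4,2),(8,2),(0,2),(0,2),(1,1),(0,1),(3,2),(12,1),(0,2),(2,1),(0,2),
    (4,1),(1,2),(0,1),(2,1),(0,1),(0,2),(0,2),(0,2),(11,1),(0,2),(1,1),(0,1),(0,2),(0,2),(0,2),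
    (3,1),(4,1),(0,1),(0,1),(0,2),(4,2),(0,2)],
   [(12,2),(0,2),(0,2),(4,1),(1,2),(0,1),(2,2),(1,1),(0,2),(1,2),(0,1),(0,1),(1,1),(0,2),(0,1),
    (0,1),(12,1),(0,2),(1,1),(0,1),(0,1),(0,2),(0,2),(0,2),(5,1),(0,2),(0,2),(0,1),(0,2),(0,1),
    (9,2),(0,1),(0,2),(5,2),(0,1),(0,2),(0,2),(0,1),(13,1),(1,1),(0,2),(1,1),(2,2),(0,1),(4,1),
    (0,2),(0,1),(12,1),(0,2),(3,2),(0,1),(0,2),(0,2),(2,2),(1,1),(1,2),(15,1),(0,2),(2,1),(3,1),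
    (0,1),(0,2),(1,1),(8,1),(0,1),(0,1),(8,1),(0,1),(1,2),(0,1),(0,1),(0,1),(0,2),(1,1),(0,2),
    (10,2),(0,1),(0,1),(2,1),(0,1),(2,1),(1,2),(0,2),(2,1),(0,1),(0,1),(1,1),(3,2)],
   [(13,1),(0,2),(3,1),(2,2),(0,1),(2,2),(0,2),(3,1),(0,2),(0,2),(1,2),(0,2),(0,1),(12,1),(0,1),
    (0,2),(2,2),(0,2),(0,2),(0,2),(0,2),(0,1),(4,2),(2,1),(1,1),(12,1),(3,2),(0,1),(0,2),(1,1),
    (0,1),(13,1),(0,1),(0,2),(0,1),(0,2),(3,2),(0,2),(0,2),(0,2),(1,2),(1,2),(13,1),(0,2),(0,2),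
    (0,1),(3,2),(3,1),(0,1),(0,2),(1,1),(5,2),(8,2),(0,1),(0,1),(0,1),(0,1),(0,2),(3,2),(2,2),
    (0,2),(8,1),(0,2),(0,1),(1,2),(0,1),(5,2),(1,1),(1,2),(1,1),(0,1),(1,2),(0,2),(11,2),(2,2),
    (0,1),(1,1),(1,1),(0,2),(0,1),(5,2),(0,2),(4,2),(0,2)],
   [(12,2),(0,1),(0,1),(4,1),(5,1),(0,1),(0,2),(2,1),(1,2),(1,2),(2,2),(10,2),(5,2),(2,2),(0,2),
    (0,2),(5,2),(13,2),(0,1),(0,2),(0,2),(5,2),(11,1),(5,2),(0,2),(0,2),(0,2),(0,1),(2,1),(4,2),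
    (0,1),(0,2),(0,1),(13,1),(1,2),(2,2),(0,2),(4,2),(1,1),(0,1),(5,1),(8,2),(1,1),(0,1),(1,2),
    (4,2),(1,2),(9,2),(3,2),(0,1),(4,2),(2,2),(0,2),(0,2),(1,1),(1,1),(0,1),(0,2),(11,2),(0,2),
    (0,1),(0,1),(0,1),(0,1),(0,1),(1,1),(0,2),(0,2),(3,2),(1,1),(0,2),(4,2),(1,1)]]

/-- Rows of a matrix. -/
def matP21 : List (List (ℕ × ℕ)) :=
  [[(13,2),(0,1),(3,1),(1,1),(0,2),(0,2),(4,2),(0,2),(3,2),(0,1),(0,1),(0,1),(0,2),(0,2),(10,2),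
    (0,2),(1,1),(1,1),(1,1),(1,1),(9,1),(0,2),(0,2),(11,1),(0,2),(7,1),(0,1),(8,1),(5,2),(0,1),
    (0,2),(4,1),(1,1),(0,1),(1,2),(1,2),(13,2),(0,2),(0,2),(0,1),(2,2),(0,2),(0,1),(2,2),(2,2),
    (0,2),(0,1),(4,1),(9,2),(0,2),(0,1),(0,2),(0,1),(3,2),(0,1),(0,2),(0,2),(0,1),(8,2),(2,1),
    (0,2),(5,1),(1,2),(0,2),(0,1),(0,1),(0,1),(0,1),(1,1),(0,2),(0,2),(11,1),(0,2),(1,2),(0,1),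
    (0,2),(0,1),(1,1),(0,2),(4,1),(0,1),(1,1),(0,1),(3,2),(0,2),(0,1)],
   [(12,2),(1,1),(3,2),(0,1),(1,1),(0,2),(4,2),(0,1),(1,1),(2,1),(0,2),(0,1),(0,1),(0,2),(13,2),
    (0,2),(1,1),(0,2),(0,1),(0,1),(0,1),(0,1),(5,2),(12,1),(0,2),(0,1),(5,2),(0,2),(0,2),(0,1),
    (1,2),(8,1),(4,2),(0,2),(2,2),(4,1),(0,1),(0,2),(2,2),(15,1),(0,1),(0,2),(2,2),(0,1),(0,2),
    (2,2),(0,2),(0,1),(0,1),(0,2),(0,1),(13,1),(1,1),(0,1),(5,2),(0,1),(0,1),(0,2),(0,1),(9,2),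
    (0,2),(0,2),(6,2),(0,1),(0,2),(0,2),(1,2),(0,2),(0,2),(0,1),(2,1),(10,1),(0,2),(0,2),(0,1),
    (0,1),(0,2),(0,1),(0,2),(1,2),(5,1),(0,2),(0,2),(0,1),(0,1),(4,1)],
   [(13,2),(0,1),(3,2),(0,1),(0,2),(4,1),(0,2),(0,2),(0,2),(2,1),(3,1),(0,1),(12,2),(0,2),(1,2),
    (0,1),(0,2),(0,1),(0,1),(0,1),(0,2),(6,1),(0,1),(0,1),(0,2),(0,1),(11,1),(0,1),(4,2),(2,2),
    (0,2),(8,1),(5,1),(0,1),(0,1),(6,2),(2,2),(0,2),(14,1),(1,1),(0,1),(1,2),(0,2),(0,1),(0,1),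
    (2,1),(1,2),(0,1),(0,1),(0,2),(13,1),(0,2),(0,2),(1,2),(0,1),(3,1),(0,1),(0,1),(1,1),(10,2),
    (0,2),(0,2),(6,1),(2,2),(0,1),(0,2),(0,2),(0,1),(0,1),(0,2),(0,1),(10,1),(1,2),(0,2),(0,1),
    (1,1),(0,2),(1,2),(0,2),(0,1),(0,1),(4,1),(1,2),(3,1),(0,2)],
   [(14,2),(3,2),(1,2),(0,1),(3,2),(1,1),(0,1),(3,2),(2,1),(0,1),(0,2),(10,2),(1,2),(0,2),(1,1),
    (0,2),(0,2),(0,1),(0,1),(0,1),(0,1),(4,1),(2,2),(0,2),(0,2),(9,2),(0,1),(1,2),(3,2),(0,2),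
    (1,1),(0,2),(9,2),(4,1),(0,1),(0,1),(2,1),(2,1),(2,2),(1,2),(0,1),(1,1),(12,2),(0,2),(0,1),
    (0,1),(2,2),(0,2),(3,1),(0,1),(2,1),(0,2),(4,2),(8,1),(0,1),(0,2),(0,1),(0,1),(0,2),(5,2),
    (1,2),(10,1),(0,2),(0,1),(5,2),(0,2),(0,1),(0,1),(0,2),(0,2),(0,2),(1,2),(1,1),(11,2),(0,1),
    (0,1),(0,2),(0,2),(0,1),(0,2),(0,2),(1,2),(0,1),(0,1),(4,2),(1,2),(4,2),(0,2),(0,1)],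
   [(13,2),(0,1),(7,2),(2,2),(0,2),(0,2),(0,1),(1,1),(0,2),(0,1),(1,1),(0,1),(0,1),(0,1),(10,1),
    (0,2),(0,2),(0,1),(1,1),(0,1),(0,2),(0,2),(0,1),(1,1),(4,1),(0,2),(0,2),(0,2),(0,2),(9,1),
    (0,2),(0,1),(0,1),(0,1),(3,1),(0,2),(1,1),(0,1),(0,1),(8,1),(5,2),(0,1),(0,2),(0,2),(0,2),
    (3,1),(0,2),(0,1),(1,2),(1,2),(16,2),(1,1),(1,2),(0,2),(2,1),(0,1),(0,1),(0,1),(6,1),(13,2),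
    (4,2),(2,1),(8,2),(0,2),(0,2),(0,1),(0,1),(0,1),(4,2),(0,1),(0,1),(0,1),(2,1),(1,1),(0,2),
    (0,1),(0,1),(10,1),(0,1),(2,2),(0,2),(0,2),(0,1),(1,2),(0,2),(0,1),(4,1),(0,1),(0,2),(0,1),
    (5,2)],
   [(12,1),(1,1),(3,2),(0,1),(1,1),(0,1),(2,1),(0,1),(0,1),(2,1),(1,2),(1,2),(0,2),(0,1),(0,2),
    (10,1),(1,1),(0,2),(0,2),(1,2),(0,1),(0,2),(0,1),(1,1),(4,1),(0,2),(0,2),(0,2),(1,2),(8,1),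
    (0,1),(0,2),(0,1),(0,2),(3,1),(0,2),(0,1),(2,1),(8,2),(6,1),(0,2),(0,2),(0,1),(3,1),(1,2),
    (1,2),(0,2),(0,1),(0,2),(12,2),(1,1),(0,1),(1,1),(1,1),(0,2),(2,1),(0,2),(0,2),(0,2),(0,1),
    (5,1),(9,1),(1,1),(0,1),(0,2),(3,2),(1,2),(1,1),(8,2),(0,1),(0,1),(0,2),(1,1),(4,1),(0,1),
    (1,2),(0,2),(0,1),(0,1),(0,1),(0,1),(14,2),(0,2),(2,2),(0,1),(2,1),(0,2),(1,1),(3,1),(0,2),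
    (0,2),(0,2),(3,1),(0,2),(0,2)],
   [(12,2),(0,1),(0,2),(3,2),(0,1),(0,2),(1,1),(2,1),(0,1),(3,2),(1,1),(1,1),(0,1),(12,1),(1,2),
    (0,1),(0,1),(0,2),(2,2),(0,1),(0,1),(0,1),(4,2),(1,2),(1,2),(0,2),(8,1),(2,1),(5,2),(0,2),
    (0,2),(1,2),(8,1),(4,1),(2,2),(0,2),(0,2),(4,1),(0,1),(2,2),(0,1),(0,1),(12,2),(1,2),(0,1),
    (1,2),(0,1),(1,2),(3,2),(1,2),(6,1),(8,1),(0,1),(3,2),(3,1),(0,1),(1,1),(9,1),(0,2),(0,2),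
    (0,2),(0,1),(5,2),(1,2),(1,2),(0,2),(18,1),(0,1),(0,2),(1,2),(0,2),(1,1),(0,2),(1,1),(2,1),
    (0,2),(0,2),(0,1),(0,1)],
   [(12,2),(0,2),(0,2),(3,2),(0,1),(0,2),(0,2),(0,1),(3,2),(1,1),(1,2),(0,1),(1,2),(0,1),(0,1),
    (0,1),(0,1),(10,2),(1,1),(0,2),(2,2),(0,2),(0,2),(0,1),(1,1),(4,2),(0,2),(0,2),(0,2),(0,1),
    (9,1),(2,1),(0,2),(3,2),(0,1),(0,1),(11,1),(4,1),(0,1),(0,2),(0,1),(0,1),(0,1),(2,1),(0,1),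
    (0,1),(4,2),(0,2),(12,1),(0,2),(1,2),(1,1),(0,1),(6,1),(0,1),(0,2),(0,2),(4,1),(9,1),(0,2),
    (0,2),(5,1),(0,1),(0,2),(0,1),(9,1),(0,2),(0,2),(1,2),(0,1),(4,1),(0,2),(0,1),(1,1),(1,2),
    (1,2),(0,2),(0,1),(0,1),(10,2),(0,2),(0,1),(1,2),(1,1),(0,1),(1,2),(0,1),(0,1),(4,1),(0,2),
    (6,1),(0,1)]]

/-- Rows of a matrix. -/
def matP22 : List (List (ℕ × ℕ)) :=
  [[(14,1),(3,1),(2,2),(4,1),(0,2),(2,1),(1,2),(0,2),(0,1),(0,1),(0,1),(12,2),(0,1),(0,1),(1,1),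
    (0,1),(0,2),(0,2),(7,1),(0,2),(0,2),(0,2),(0,2),(9,1),(0,2),(0,1),(0,2),(4,2),(0,2),(0,1),
    (0,2),(0,1),(0,2),(8,1),(6,1),(1,1),(3,1),(0,1),(3,2),(1,2),(0,1),(12,2),(0,2),(0,1),(0,2),
    (1,2),(0,2),(1,2),(3,1),(1,2),(0,2),(14,2),(1,1),(1,2),(5,2),(1,2),(0,2),(8,2),(1,2),(1,1),
    (5,2),(1,1),(0,2),(0,1),(2,2),(0,2),(1,1),(0,2),(10,1),(0,2),(0,2),(2,2),(3,1),(0,1),(1,2),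
    (3,2),(0,1),(0,2),(0,2),(4,2),(0,1)],
   [(13,2),(0,2),(3,1),(0,2),(1,2),(0,2),(2,2),(0,2),(0,2),(0,1),(1,1),(3,2),(0,2),(1,2),(10,2),
    (0,1),(0,2),(0,2),(0,1),(0,2),(0,2),(0,1),(0,1),(0,1),(0,1),(6,2),(0,2),(1,1),(0,1),(8,1),
    (1,1),(0,1),(0,2),(4,2),(1,1),(1,1),(8,1),(4,2),(0,1),(0,1),(2,1),(5,1),(1,1),(0,1),(0,1),
    (14,1),(1,2),(3,1),(0,1),(3,2),(0,2),(2,1),(4,2),(9,1),(0,1),(0,1),(0,1),(0,1),(4,1),(0,2),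
    (0,2),(9,1),(3,2),(0,2),(4,2),(0,2),(3,2),(0,2),(0,1),(0,2),(0,2),(1,1),(10,1),(0,1),(2,2),
    (2,1),(3,2),(0,2),(3,2),(2,2),(3,2),(0,2)],
   [(13,1),(0,2),(3,2),(0,2),(1,2),(3,2),(4,2),(1,2),(0,1),(0,2),(0,1),(0,1),(0,1),(10,2),(0,2),
    (0,1),(0,1),(2,1),(0,1),(1,2),(1,2),(4,2),(2,2),(0,2),(0,2),(8,2),(0,1),(0,1),(0,1),(0,1),
    (3,2),(1,2),(0,2),(1,1),(8,2),(4,1),(0,1),(0,1),(0,2),(4,2),(0,1),(0,1),(2,1),(0,2),(0,1),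
    (0,2),(13,2),(0,2),(0,1),(1,1),(0,2),(0,1),(3,2),(0,1),(2,1),(14,1),(0,1),(3,2),(3,2),(0,2),
    (2,2),(9,1),(2,2),(0,2),(4,2),(1,1),(0,1),(0,2),(0,1),(2,2),(0,1),(0,2),(13,1),(4,1),(1,1),
    (1,1),(0,2),(2,2),(0,1),(0,1),(5,2),(0,2),(0,2)],
   [(12,1),(0,1),(5,1),(1,2),(4,1),(0,2),(0,1),(7,2),(11,1),(0,1),(2,2),(1,2),(0,1),(0,2),(0,2),
    (0,2),(0,1),(4,1),(0,1),(0,2),(0,2),(1,1),(9,2),(0,1),(0,1),(0,2),(7,1),(0,1),(8,2),(4,1),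
    (0,1),(3,2),(4,1),(0,1),(1,2),(0,1),(0,1),(0,1),(13,1),(1,2),(1,2),(6,2),(0,2),(0,1),(0,2),
    (0,1),(4,1),(8,1),(1,2),(0,1),(1,1),(3,2),(3,2),(9,1),(0,1),(0,1),(1,2),(4,2),(0,2),(0,2),
    (3,1),(0,2),(0,2),(0,2),(1,1),(10,2),(0,1),(1,2),(2,2),(0,2),(1,2),(0,2),(1,1),(2,2),(0,1),
    (0,1),(0,2),(4,1),(1,2)],
   [(12,2),(0,1),(4,2),(0,2),(0,1),(0,2),(0,1),(2,1),(0,2),(0,2),(0,2),(1,2),(0,1),(1,1),(0,2),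
    (2,2),(10,2),(0,2),(1,2),(1,1),(0,2),(0,1),(0,1),(1,2),(0,1),(4,2),(0,1),(1,2),(0,2),(0,2),
    (8,2),(8,1),(0,1),(1,1),(9,1),(4,1),(1,2),(0,1),(1,2),(2,1),(0,1),(4,1),(0,1),(0,1),(14,1),
    (0,1),(1,2),(0,2),(1,1),(2,1),(2,1),(16,1),(0,1),(0,1),(1,2),(4,2),(0,2),(0,2),(0,1),(8,2),
    (0,1),(1,1),(0,2),(5,1),(0,1),(0,2),(2,1),(1,2),(0,2),(0,1),(0,2),(11,2),(0,2),(3,2),(0,1),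
    (0,2),(1,1),(2,2),(2,2),(0,1),(1,2),(4,2)],
   [(12,1),(0,2),(0,2),(3,1),(0,1),(2,2),(2,2),(0,2),(1,2),(3,1),(0,1),(0,2),(2,1),(10,2),(0,1),
    (0,2),(1,2),(2,2),(0,2),(1,1),(0,1),(6,2),(0,1),(0,1),(0,2),(8,1),(1,1),(0,1),(0,1),(3,1),
    (0,1),(0,1),(1,1),(9,2),(4,1),(0,1),(0,1),(1,2),(3,1),(2,2),(1,2),(1,1),(0,2),(12,1),(0,2),
    (0,1),(0,2),(1,2),(5,1),(0,1),(0,2),(0,2),(1,2),(13,2),(0,1),(0,1),(0,1),(0,1),(0,2),(3,1),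
    (0,1),(0,2),(0,2),(0,1),(9,1),(0,1),(1,1),(0,2),(4,2),(1,1),(0,1),(0,2),(1,2),(0,1),(0,2),
    (0,2),(0,1),(0,2),(10,2),(0,1),(1,1),(0,2),(0,1),(0,2),(0,2),(4,1),(2,1),(2,2),(0,2),(4,2),
    (0,2)],
   [(13,2),(0,2),(3,1),(1,1),(0,2),(0,2),(2,2),(0,2),(0,1),(0,1),(1,1),(0,2),(1,1),(1,1),(0,2),
    (0,2),(11,2),(0,2),(0,1),(0,1),(3,1),(0,2),(0,1),(0,1),(4,2),(0,2),(0,1),(1,2),(0,1),(8,1),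
    (0,1),(0,1),(0,1),(0,1),(4,2),(0,1),(2,2),(8,2),(4,2),(2,2),(0,1),(4,1),(0,1),(0,2),(2,1),
    (0,1),(0,1),(12,2),(0,2),(0,2),(3,2),(0,1),(0,2),(6,2),(0,2),(4,1),(8,2),(0,1),(0,2),(2,1),
    (3,1),(1,1),(0,1),(10,1),(0,2),(0,1),(0,1),(5,1),(0,1),(0,1),(0,1),(0,1),(2,1),(1,2),(12,2),
    (0,2),(0,2),(0,1),(1,2),(1,1),(2,1),(0,2),(0,1),(3,1),(1,2),(0,1),(3,2),(0,1),(0,2)],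
   [(18,2),(0,1),(0,1),(0,1),(3,2),(0,1),(1,2),(1,2),(0,2),(0,1),(1,1),(0,1),(0,2),(14,1),(0,2),
    (1,1),(0,1),(0,2),(0,1),(6,1),(0,2),(1,1),(0,2),(0,1),(8,1),(0,2),(1,1),(0,1),(5,2),(0,2),
    (1,2),(15,1),(0,2),(1,1),(2,1),(0,1),(0,2),(0,2),(1,2),(15,1),(0,1),(0,2),(2,2),(0,2),(0,1),
    (0,2),(2,2),(1,2),(7,1),(8,2),(1,2),(0,1),(0,2),(0,1),(3,2),(1,1),(0,1),(0,2),(8,2),(0,1),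
    (0,1),(0,2),(7,2),(1,2),(0,2),(2,2),(0,1),(1,2),(0,1),(10,2),(4,1),(4,1),(0,2),(3,2),(7,1),
    (1,2)]]

/-- Rows of a matrix. -/
def matP23 : List (List (ℕ × ℕ)) :=
  [[(12,2),(1,1),(5,2),(1,2),(3,2),(0,2),(0,1),(3,1),(0,2),(0,1),(0,1),(1,2),(10,1),(2,1),(0,1),
    (0,2),(0,1),(1,2),(1,1),(0,1),(5,1),(1,2),(0,2),(0,2),(8,2),(0,1),(0,2),(0,2),(0,2),(3,2),
    (0,1),(0,2),(1,2),(16,2),(1,1),(0,1),(2,2),(0,1),(0,2),(0,1),(1,2),(0,2),(0,2),(13,2),(0,1),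
    (1,2),(2,2),(1,1),(3,1),(2,2),(0,2),(4,2),(8,1),(0,2),(0,1),(6,1),(0,2),(0,1),(0,1),(0,2),
    (9,1),(0,2),(0,2),(6,1),(0,1),(0,1),(0,1),(1,2),(0,2),(1,2),(0,2),(0,2),(11,2),(0,2),(0,1),
    (0,2),(1,2),(0,2),(3,1),(0,2),(0,1),(2,1),(0,2),(1,2),(4,2),(0,2)],
   [(12,2),(0,2),(0,1),(3,1),(0,2),(2,2),(2,1),(0,2),(0,2),(0,1),(1,2),(0,1),(0,2),(0,2),(0,1),
    (0,2),(0,1),(11,2),(1,1),(0,2),(0,1),(0,1),(1,2),(0,2),(0,2),(0,2),(0,2),(4,1),(0,2),(0,2),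
    (13,2),(0,1),(0,1),(3,2),(0,1),(0,2),(0,1),(15,1),(0,1),(0,1),(0,2),(0,2),(4,1),(3,1),(1,2),
    (0,1),(12,1),(1,1),(0,2),(1,1),(1,1),(0,2),(4,2),(0,2),(6,2),(8,2),(3,2),(0,2),(3,1),(0,1),
    (1,1),(0,2),(11,2),(6,2),(1,2),(1,2),(2,2),(0,1),(2,1),(12,2),(0,2),(0,2),(0,1),(0,1),(0,2),
    (2,2),(0,1),(3,2),(0,2),(0,1),(0,2),(0,2),(4,2),(0,1)],
   [(14,2),(3,1),(0,2),(0,2),(4,1),(0,2),(0,2),(0,2),(1,2),(0,2),(1,1),(0,2),(0,2),(1,1),(10,1),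
    (0,2),(0,1),(0,1),(0,2),(0,2),(1,2),(0,2),(0,1),(0,1),(0,2),(4,1),(0,1),(0,1),(0,1),(0,2),
    (0,2),(9,1),(1,1),(0,1),(4,1),(1,1),(1,2),(8,1),(4,1),(2,2),(0,2),(3,1),(0,1),(1,2),(2,1),
    (0,1),(0,2),(13,2),(0,2),(5,2),(2,1),(1,1),(7,2),(8,2),(0,2),(0,2),(0,2),(5,1),(0,2),(0,2),
    (0,1),(10,1),(0,1),(1,1),(5,1),(0,2),(0,1),(0,1),(0,2),(0,1),(0,1),(2,1),(0,2),(0,1),(10,1),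
    (0,2),(0,2),(3,2),(0,2),(1,2),(0,1),(0,1),(0,1),(2,1),(0,2),(0,2),(0,2),(0,1),(3,1),(0,1),
    (0,1)],
   [(13,1),(0,2),(3,2),(2,1),(0,1),(3,1),(0,1),(0,2),(1,2),(0,1),(1,2),(1,1),(1,1),(10,2),(0,1),
    (0,2),(1,1),(1,1),(0,2),(1,1),(0,2),(0,1),(4,1),(0,2),(0,1),(2,1),(9,2),(0,2),(0,1),(0,1),
    (3,1),(0,2),(0,2),(1,2),(0,2),(8,2),(4,1),(0,1),(0,2),(5,2),(0,1),(6,2),(12,2),(4,1),(1,1),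
    (0,2),(2,2),(1,2),(0,1),(6,2),(12,1),(0,1),(5,1),(0,2),(0,2),(8,1),(2,1),(0,2),(0,2),(4,2),
    (1,1),(0,1),(0,2),(0,2),(0,2),(1,2),(2,1),(10,2),(0,1),(0,1),(0,2),(1,1),(0,2),(0,1),(1,1),
    (0,2),(0,1),(0,1),(3,2),(2,1),(4,2)],
   [(13,1),(5,1),(0,1),(4,2),(0,1),(0,1),(0,1),(2,1),(0,2),(1,2),(2,2),(10,2),(1,2),(1,2),(2,2),
    (0,1),(2,2),(4,2),(1,2),(0,1),(0,2),(0,1),(8,2),(10,1),(0,2),(0,1),(14,2),(6,1),(0,1),(0,1),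
    (0,2),(1,1),(0,2),(0,1),(0,1),(12,1),(0,2),(1,2),(1,2),(1,2),(0,2),(3,2),(0,2),(0,2),(15,2),
    (0,1),(0,2),(0,1),(1,2),(3,2),(0,2),(0,2),(0,1),(0,1),(8,2),(0,2),(0,2),(0,2),(6,2),(1,2),
    (3,2),(0,1),(1,2),(0,1),(0,2),(10,1),(0,2),(1,2),(0,2),(0,1),(0,1),(0,2),(1,1),(1,1),(3,1),
    (1,1),(0,1),(0,1),(3,2),(0,1)],
   [(13,2),(5,2),(0,2),(0,2),(0,2),(3,2),(0,1),(0,2),(1,1),(1,2),(3,1),(0,2),(11,2),(1,1),(0,1),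
    (0,2),(0,1),(0,2),(0,1),(0,1),(0,1),(5,1),(0,2),(0,2),(0,1),(0,1),(9,2),(1,1),(1,1),(3,1),
    (0,2),(1,2),(10,1),(5,2),(1,2),(0,2),(0,2),(3,2),(0,1),(0,2),(1,1),(1,2),(0,1),(12,2),(0,2),
    (0,2),(2,1),(0,1),(0,2),(3,2),(0,2),(0,1),(0,1),(0,2),(0,1),(4,2),(9,2),(1,2),(0,2),(0,1),
    (3,2),(0,1),(0,2),(1,2),(9,2),(0,1),(0,2),(0,1),(5,1),(0,1),(3,2),(2,2),(0,1),(1,2),(10,1),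
    (0,1),(0,2),(1,2),(0,2),(1,1),(4,1),(2,2),(1,2),(0,1),(0,2),(3,2),(0,1),(0,2)],
   [(12,2),(0,1),(0,1),(3,1),(1,1),(1,1),(2,1),(4,2),(0,1),(1,1),(0,1),(0,1),(13,1),(1,2),(1,1),
    (0,1),(0,1),(0,1),(0,2),(1,2),(4,2),(2,2),(0,1),(0,1),(9,1),(0,2),(5,1),(3,1),(0,2),(13,1),
    (8,2),(1,1),(1,1),(0,1),(0,1),(13,2),(0,2),(0,1),(0,1),(1,1),(0,1),(0,1),(0,1),(3,2),(0,2),
    (0,2),(6,2),(8,2),(0,1),(0,1),(0,2),(0,1),(0,1),(3,1),(0,1),(0,1),(0,1),(0,2),(11,1),(0,2),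
    (5,1),(1,2),(0,1),(1,2),(2,2),(0,1),(0,1),(0,1),(10,2),(0,2),(0,1),(0,2),(2,2),(2,2),(1,2),
    (0,1),(4,1),(0,1),(0,2),(3,1),(0,1),(0,1)],
   [(12,1),(0,2),(0,2),(3,1),(0,1),(2,2),(2,1),(2,2),(1,2),(1,2),(3,2),(11,2),(0,1),(1,2),(0,1),
    (0,2),(0,1),(1,2),(0,2),(0,2),(5,1),(0,2),(0,1),(11,1),(1,2),(0,1),(0,1),(3,2),(2,1),(0,2),
    (15,1),(0,2),(0,2),(0,2),(4,1),(3,1),(0,2),(0,1),(0,1),(12,2),(0,1),(4,2),(4,1),(1,1),(0,1),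
    (6,2),(8,1),(1,1),(0,2),(0,2),(4,2),(0,1),(2,1),(8,1),(0,2),(0,2),(7,2),(0,1),(0,1),(0,1),
    (0,1),(1,1),(2,1),(0,1),(0,2),(13,2),(0,2),(1,1),(0,2),(2,2),(0,2),(0,2),(2,1),(0,2),(0,2),
    (0,1),(4,2),(0,1)]]

/-- Rows of a matrix. -/
def matP24 : List (List (ℕ × ℕ)) :=
  [[(12,1),(5,2),(0,2),(1,1),(0,2),(2,2),(0,2),(4,2),(3,1),(0,1),(0,2),(10,2),(2,2),(0,2),(2,1),
    (3,2),(4,1),(1,1),(0,2),(0,2),(10,1),(0,2),(0,2),(0,1),(3,2),(0,2),(0,2),(0,2),(0,1),(0,1),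
    (13,1),(0,1),(0,1),(0,1),(0,1),(0,2),(2,1),(1,2),(2,2),(0,2),(14,1),(0,1),(0,2),(2,2),(0,1),
    (4,1),(0,2),(2,2),(0,1),(4,2),(8,1),(3,2),(4,1),(0,1),(0,1),(1,2),(10,2),(0,1),(0,1),(5,1),
    (2,2),(0,1),(0,2),(0,2),(0,1),(0,2),(1,2),(0,1),(10,1),(2,1),(2,1),(2,2),(1,2),(0,1),(2,2),
    (0,1),(0,1),(0,1),(0,2),(3,1),(1,1)],
   [(13,1),(4,1),(1,1),(5,1),(0,2),(0,2),(1,2),(1,2),(0,1),(1,1),(0,1),(11,2),(3,1),(0,1),(0,1),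
    (0,2),(0,2),(0,1),(1,2),(4,1),(0,2),(2,1),(9,1),(0,2),(1,1),(4,2),(0,2),(0,2),(0,2),(0,1),
    (0,2),(13,1),(0,2),(0,2),(0,2),(1,1),(2,1),(0,1),(0,2),(3,2),(0,2),(0,2),(12,2),(0,2),(0,2),
    (0,1),(2,1),(4,2),(0,2),(0,1),(1,2),(0,2),(14,2),(0,2),(0,1),(0,1),(0,1),(3,2),(2,2),(0,2),
    (8,1),(0,1),(0,2),(0,1),(0,2),(0,2),(4,2),(0,1),(0,2),(0,2),(0,2),(0,2),(1,1),(0,2),(0,2),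
    (0,2),(0,1),(11,1),(0,2),(0,2),(0,1),(4,2),(5,1),(0,2),(2,2),(4,1)],
   [(12,2),(1,2),(4,1),(2,2),(2,2),(1,2),(2,2),(0,2),(0,1),(2,1),(12,1),(1,1),(0,1),(1,1),(0,2),
    (0,1),(1,2),(0,1),(8,1),(1,2),(9,2),(0,2),(7,1),(0,1),(0,2),(0,1),(8,2),(5,1),(0,2),(0,1),
    (0,2),(3,1),(0,1),(3,2),(0,1),(0,2),(0,2),(12,2),(0,1),(0,1),(0,1),(1,1),(0,2),(0,1),(3,2),
    (0,1),(0,1),(1,1),(5,2),(9,1),(1,1),(1,2),(3,2),(0,1),(0,2),(0,1),(9,2),(0,2),(1,2),(0,1),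
    (7,2),(0,1),(0,1),(0,2),(1,2),(1,2),(14,1),(2,2),(0,2),(0,2),(1,2),(0,1),(0,2),(3,1),(0,1),
    (0,2),(0,1),(0,1)],
   [(12,2),(0,1),(0,2),(3,1),(0,2),(1,2),(0,1),(2,2),(0,2),(0,1),(0,2),(2,2),(0,1),(0,2),(0,1),
    (1,1),(0,1),(10,2),(2,2),(0,1),(1,1),(1,1),(2,1),(4,2),(0,1),(0,1),(0,1),(0,1),(0,1),(8,1),
    (0,2),(0,1),(1,2),(6,2),(0,2),(0,1),(14,1),(0,1),(0,2),(1,1),(4,2),(0,1),(1,1),(0,1),(0,2),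
    (0,1),(13,2),(0,1),(0,1),(1,1),(0,1),(0,2),(0,1),(2,1),(0,1),(1,2),(0,2),(0,2),(13,1),(0,1),
    (0,2),(1,1),(0,2),(3,2),(0,1),(0,2),(0,2),(9,2),(2,1),(1,2),(4,2),(0,1),(2,2),(0,2),(0,1),
    (0,1),(1,1),(0,1),(12,2),(0,2),(1,1),(0,2),(0,1),(0,1),(1,1),(0,1),(0,1),(0,2),(2,2),(0,2),
    (0,1),(0,2),(0,1),(3,1),(0,2),(0,2)],
   [(13,2),(0,2),(4,2),(0,1),(0,1),(0,1),(2,1),(0,2),(0,1),(0,1),(1,1),(0,2),(0,2),(1,2),(1,2),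
    (0,1),(11,2),(4,1),(0,1),(1,2),(0,1),(5,1),(0,1),(0,2),(2,2),(8,2),(0,2),(0,2),(0,1),(0,1),
    (5,1),(2,1),(8,1),(4,1),(2,1),(0,1),(3,1),(0,1),(0,2),(3,1),(0,1),(14,2),(0,1),(2,1),(0,1),
    (0,1),(0,1),(5,2),(6,1),(8,2),(1,1),(0,1),(0,1),(0,2),(3,1),(0,2),(0,2),(1,1),(8,1),(3,1),
    (0,2),(5,1),(2,2),(1,2),(0,2),(0,2),(0,1),(0,1),(11,2),(0,1),(1,2),(1,1),(0,1),(2,2),(0,2),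
    (0,1),(0,1),(2,2),(0,1),(0,2),(0,1),(0,1),(3,1),(1,2)],
   [(12,1),(6,1),(0,1),(1,1),(3,1),(1,2),(1,1),(0,1),(0,1),(0,1),(0,1),(0,2),(0,2),(13,1),(0,2),
    (0,2),(0,1),(0,2),(3,1),(0,2),(6,2),(0,2),(1,1),(16,1),(1,1),(1,1),(0,1),(8,1),(4,2),(2,2),
    (6,2),(3,2),(0,1),(13,2),(0,2),(0,1),(0,1),(1,2),(0,1),(0,2),(3,1),(0,2),(0,2),(1,1),(15,1),
    (7,2),(0,1),(12,2),(0,2),(1,1),(0,1),(5,2),(0,2),(1,1),(0,1),(0,2),(0,1),(0,1),(1,1),(0,1),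
    (11,1),(0,2),(1,2),(0,2),(0,1),(3,1),(0,1),(0,2),(2,2),(0,2),(0,2),(0,1),(6,1)],
   [(12,2),(0,2),(0,2),(3,1),(2,2),(0,2),(2,2),(0,2),(0,1),(0,2),(1,2),(1,1),(2,1),(0,1),(0,1),
    (10,2),(1,2),(0,1),(0,2),(0,2),(0,2),(1,2),(7,1),(1,2),(1,1),(0,2),(8,2),(0,2),(1,2),(0,2),
    (3,2),(0,1),(0,2),(1,2),(9,2),(4,2),(0,2),(0,1),(0,1),(0,1),(3,2),(1,1),(0,1),(2,2),(1,2),
    (12,2),(0,2),(0,1),(0,2),(3,2),(0,1),(2,1),(0,1),(0,1),(0,1),(16,2),(0,1),(0,1),(1,1),(3,1),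
    (0,2),(1,2),(0,1),(9,1),(0,2),(0,2),(0,1),(0,1),(4,2),(1,1),(1,1),(0,2),(0,2),(0,1),(0,2),
    (0,2),(0,1),(0,1),(11,1),(0,2),(0,1),(0,1),(0,2),(3,2),(0,1),(0,2),(0,1),(3,1),(0,2),(0,1),
    (4,2),(0,1)],
   [(12,2),(1,1),(7,1),(2,2),(0,2),(0,2),(0,2),(1,2),(1,2),(0,1),(0,1),(0,1),(0,2),(11,2),(0,2),
    (0,1),(0,1),(0,1),(1,1),(0,2),(0,1),(0,1),(0,1),(0,1),(5,2),(0,1),(1,2),(9,2),(0,2),(0,1),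
    (0,2),(0,2),(3,1),(0,2),(0,2),(0,1),(0,2),(16,2),(0,2),(0,1),(3,2),(0,2),(0,2),(3,1),(0,2),
    (14,2),(0,2),(0,1),(2,1),(0,1),(0,2),(5,2),(0,2),(14,2),(0,2),(7,1),(0,1),(0,1),(0,2),(11,2),
    (0,2),(7,1),(0,2),(3,1),(1,1),(1,2),(0,2),(10,2),(0,2),(0,1),(1,1),(2,2),(7,2),(0,2),(0,2),
    (0,2),(0,2),(3,1)]]

/-- Rows of a matrix. -/
def matP25 : List (List (ℕ × ℕ)) :=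
  [[(12,2),(0,1),(0,1),(3,1),(6,2),(0,1),(1,1),(2,1),(1,2),(0,1),(0,2),(1,2),(11,1),(0,1),(0,1),
    (0,1),(0,1),(0,2),(0,2),(2,2),(0,1),(4,2),(3,1),(9,1),(0,1),(0,1),(1,2),(3,1),(0,1),(0,2),
    (0,1),(0,1),(0,1),(8,2),(4,2),(1,2),(0,1),(1,1),(3,1),(0,2),(0,2),(1,1),(0,2),(1,1),(12,2),
    (0,1),(0,1),(4,2),(0,1),(2,1),(0,1),(0,2),(16,2),(3,2),(4,1),(0,1),(1,2),(10,2),(0,2),(0,2),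
    (6,1),(3,1),(0,1),(0,1),(0,1),(0,2),(0,2),(0,2),(11,2),(3,1),(0,2),(0,2),(0,2),(1,1),(1,1),
    (0,2),(2,1),(0,2),(0,2),(0,1),(4,2),(0,2),(0,1)],
   [(12,2),(0,2),(4,2),(0,1),(5,2),(0,2),(0,2),(2,2),(0,2),(1,1),(1,1),(0,1),(0,2),(10,2),(0,1),
    (0,1),(0,1),(0,1),(0,2),(0,2),(0,1),(1,1),(0,1),(8,1),(0,2),(0,1),(16,1),(0,1),(0,1),(0,2),
    (0,2),(0,1),(8,1),(6,2),(0,2),(0,2),(3,1),(1,2),(2,2),(0,1),(1,2),(13,2),(0,2),(0,2),(2,1),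
    (4,1),(0,1),(0,1),(0,1),(0,2),(0,1),(4,1),(8,1),(2,2),(0,1),(0,2),(3,2),(0,2),(0,1),(1,2),
    (11,2),(0,1),(0,2),(4,1),(0,1),(1,1),(2,2),(0,1),(1,1),(0,1),(0,2),(11,2),(1,1),(0,2),(1,2),
    (0,1),(1,1),(1,2),(0,2),(2,1),(2,2),(0,1),(4,1),(0,2)],
   [(12,2),(1,1),(3,2),(0,1),(1,1),(0,1),(2,1),(0,1),(0,1),(0,1),(1,1),(1,1),(0,2),(0,2),(0,1),
    (0,1),(0,1),(10,1),(0,2),(0,2),(1,1),(0,2),(0,2),(0,2),(0,1),(1,1),(0,1),(4,2),(0,1),(1,2),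
    (1,2),(9,1),(2,1),(3,2),(1,2),(2,2),(8,2),(5,2),(3,1),(2,1),(1,2),(0,1),(2,1),(0,2),(13,1),
    (1,1),(2,1),(0,2),(0,1),(0,1),(2,2),(2,1),(1,2),(13,2),(2,2),(1,2),(3,2),(2,2),(0,1),(8,2),
    (0,1),(0,2),(0,1),(6,2),(1,1),(0,2),(0,2),(0,2),(0,1),(0,2),(0,1),(0,1),(0,1),(0,1),(10,1),
    (0,1),(1,1),(0,1),(1,2),(2,2),(0,2),(0,1),(4,2),(0,2),(0,2),(0,2),(3,1),(1,1)],
   [(12,1),(0,2),(0,1),(3,1),(0,1),(0,1),(0,2),(0,1),(3,1),(0,1),(0,1),(3,1),(0,2),(2,1),(0,1),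
    (11,1),(2,2),(0,2),(2,1),(0,1),(0,1),(0,2),(4,1),(0,1),(0,2),(0,2),(1,2),(8,1),(1,2),(0,2),
    (0,1),(3,1),(4,2),(8,2),(4,1),(0,2),(0,2),(0,1),(0,1),(4,2),(1,1),(1,1),(1,1),(0,1),(12,2),
    (0,2),(0,2),(0,1),(1,2),(5,2),(1,2),(0,2),(1,2),(4,2),(13,1),(4,1),(1,1),(0,2),(9,1),(1,1),
    (1,1),(4,2),(0,1),(1,1),(0,2),(1,1),(2,2),(0,2),(0,2),(10,2),(2,2),(0,2),(0,1),(3,1),(0,1),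
    (0,1),(3,2),(0,2),(1,2),(0,1),(4,1)],
   [(13,1),(0,2),(3,1),(1,1),(0,2),(3,1),(0,2),(0,2),(0,2),(2,1),(2,2),(1,2),(0,2),(10,1),(1,1),
    (0,2),(0,1),(0,2),(0,2),(0,1),(1,1),(0,2),(0,2),(5,1),(0,1),(0,2),(0,2),(10,2),(0,1),(0,2),
    (0,1),(3,2),(0,2),(1,1),(10,2),(4,1),(0,2),(0,1),(1,1),(0,2),(3,2),(0,1),(0,2),(3,2),(0,1),
    (14,1),(0,1),(2,2),(0,2),(0,1),(2,2),(0,2),(0,2),(0,2),(0,2),(0,2),(4,2),(8,1),(0,2),(0,1),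
    (0,1),(0,1),(0,1),(4,2),(0,1),(0,2),(9,1),(1,1),(0,1),(1,1),(4,2),(0,2),(0,2),(0,1),(0,2),
    (0,1),(1,1),(0,2),(1,2),(11,2),(0,1),(7,1),(0,1),(4,1),(0,1),(0,1),(0,2),(0,2),(3,1),(0,2)],
   [(12,1),(5,1),(1,2),(1,1),(3,2),(3,2),(0,2),(2,1),(1,2),(0,1),(11,1),(0,1),(0,1),(0,1),(0,2),
    (0,1),(0,2),(1,2),(0,1),(5,2),(1,2),(0,1),(0,1),(0,1),(8,1),(1,2),(0,2),(0,1),(3,1),(0,2),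
    (0,2),(0,1),(0,1),(14,1),(0,1),(0,1),(2,2),(2,1),(0,2),(0,2),(0,2),(1,1),(1,1),(0,1),(12,2),
    (0,2),(1,2),(2,2),(1,1),(2,2),(0,1),(0,2),(0,1),(0,2),(0,1),(13,1),(1,2),(0,1),(0,1),(0,2),
    (3,1),(0,2),(0,1),(10,2),(1,1),(0,2),(0,2),(5,1),(1,2),(0,2),(0,1),(0,2),(0,2),(0,1),(0,1),
    (0,1),(0,2),(11,2),(0,2),(1,2),(0,2),(0,2),(1,1),(1,1),(0,2),(1,1),(3,1),(0,1),(0,2),(4,2)],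
   [(12,1),(0,1),(5,1),(0,2),(0,1),(3,1),(0,1),(0,1),(0,2),(1,1),(0,2),(0,1),(0,1),(0,2),(13,1),
    (0,2),(0,1),(0,2),(2,2),(0,1),(1,1),(0,2),(0,1),(4,1),(0,1),(0,2),(1,1),(0,1),(11,1),(0,1),
    (3,2),(0,1),(0,1),(0,1),(0,1),(0,1),(8,1),(6,2),(0,2),(0,2),(0,2),(4,1),(5,2),(12,1),(2,1),
    (1,2),(0,2),(0,1),(0,1),(2,2),(1,1),(0,2),(0,2),(0,1),(4,1),(9,2),(1,1),(5,1),(1,1),(0,2),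
    (9,2),(2,1),(1,2),(4,2),(0,2),(0,1),(0,2),(1,2),(1,1),(0,2),(0,1),(0,1),(11,1),(0,1),(1,2),
    (0,2),(0,1),(1,2),(3,2),(0,2),(2,1),(1,1),(1,1),(3,1),(0,2),(0,1)],
   [(12,1),(0,1),(0,2),(3,1),(1,2),(0,2),(0,2),(5,2),(1,1),(0,1),(0,1),(1,1),(0,2),(0,1),(0,2),
    (11,2),(0,1),(2,2),(0,2),(0,2),(0,1),(1,1),(5,2),(1,1),(1,1),(0,1),(9,2),(2,1),(4,1),(0,2),
    (0,2),(1,2),(8,2),(4,1),(0,1),(0,2),(0,2),(0,2),(3,1),(0,1),(0,1),(2,1),(0,2),(0,1),(0,2),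
    (14,2),(0,2),(1,2),(0,1),(0,1),(0,2),(2,2),(3,2),(0,2),(4,1),(10,1),(0,2),(6,1),(0,2),(10,1),
    (0,1),(0,2),(0,2),(1,1),(4,2),(0,1),(1,1),(0,1),(1,2),(2,1),(0,1),(0,2),(10,2),(0,1),(0,2),
    (0,2),(0,1),(1,1),(2,2),(0,2),(0,1),(0,1),(2,1),(0,1),(0,2),(0,2),(0,1),(3,1),(1,1)]]

/-- Rows of a matrix. -/
def matP26 : List (List (ℕ × ℕ)) :=
  [[(12,1),(0,1),(0,2),(5,1),(0,1),(0,2),(3,1),(1,2),(1,1),(1,2),(0,1),(2,1),(13,1),(1,2),(1,1),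
    (0,1),(1,2),(0,1),(0,2),(4,1),(4,1),(8,2),(0,2),(6,2),(0,1),(0,2),(2,2),(8,1),(4,1),(0,1),
    (0,1),(6,1),(1,1),(1,1),(0,1),(0,1),(0,1),(13,2),(0,2),(0,2),(1,1),(0,1),(4,1),(2,1),(0,2),
    (5,2),(8,2),(2,1),(0,2),(0,1),(3,2),(1,2),(1,1),(9,1),(2,1),(0,2),(4,2),(0,1),(2,1),(0,2),
    (0,1),(2,1),(0,1),(11,2),(0,2),(0,1),(3,2),(0,1),(1,2),(1,2),(0,1),(2,2),(0,2),(2,2),(4,2)],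
   [(12,2),(1,1),(3,1),(2,2),(0,1),(4,2),(2,1),(0,1),(4,1),(0,2),(12,2),(0,1),(0,2),(0,1),(1,2),
    (0,1),(0,2),(0,1),(5,2),(1,1),(1,2),(9,1),(0,2),(0,2),(0,1),(5,1),(0,1),(0,2),(0,2),(0,2),
    (8,2),(4,1),(0,2),(1,1),(0,2),(3,2),(0,1),(0,1),(2,2),(1,1),(0,1),(13,1),(1,1),(1,1),(0,1),
    (1,2),(2,2),(1,2),(0,1),(0,2),(0,1),(4,2),(8,2),(0,1),(0,2),(0,2),(1,1),(3,2),(1,1),(0,1),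
    (0,1),(8,1),(0,1),(0,1),(0,2),(0,2),(0,2),(4,2),(1,1),(1,1),(0,2),(1,1),(0,1),(0,2),(0,1),
    (0,2),(11,2),(0,1),(0,2),(0,1),(2,2),(1,2),(0,1),(6,2),(0,1),(0,1),(4,1),(0,1)],
   [(12,2),(5,2),(0,1),(0,1),(4,2),(0,1),(0,2),(0,1),(1,2),(0,1),(0,1),(2,1),(1,1),(10,1),(2,2),
    (0,2),(1,2),(0,1),(1,1),(6,2),(1,1),(1,2),(10,2),(1,2),(0,1),(3,2),(0,1),(1,2),(0,2),(0,2),
    (8,1),(5,2),(0,1),(0,1),(0,2),(0,1),(2,1),(1,1),(0,2),(2,1),(0,2),(15,2),(0,2),(1,2),(1,2),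
    (0,1),(2,2),(0,1),(1,2),(0,1),(0,2),(4,1),(8,2),(0,1),(1,1),(0,1),(4,2),(0,1),(1,2),(0,2),
    (8,1),(2,2),(0,1),(0,1),(7,1),(1,2),(0,2),(2,2),(0,1),(0,2),(14,1),(0,1),(0,2),(0,2),(1,1),
    (1,1),(3,1),(1,2),(0,1),(0,2),(4,1),(0,2)],
   [(12,1),(0,2),(0,2),(4,2),(0,2),(0,1),(0,1),(4,1),(0,2),(1,2),(0,2),(0,2),(0,2),(0,2),(0,1),
    (0,2),(12,2),(0,2),(0,1),(0,1),(0,2),(0,2),(0,2),(0,2),(2,1),(4,1),(0,2),(3,1),(8,1),(2,1),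
    (4,1),(0,1),(0,1),(1,1),(0,1),(14,1),(1,2),(0,1),(0,2),(2,2),(2,2),(1,2),(0,1),(0,2),(0,2),
    (12,2),(0,1),(1,2),(3,1),(3,2),(0,1),(0,1),(0,1),(0,1),(0,2),(4,2),(8,2),(0,1),(0,1),(0,1),
    (1,2),(3,1),(1,2),(0,2),(11,2),(0,2),(0,1),(6,1),(0,1),(2,2),(0,2),(0,1),(0,2),(0,1),(12,1),
    (0,2),(0,1),(0,2),(1,2),(0,1),(0,2),(1,1),(5,2),(0,2),(0,1),(0,2),(0,1),(3,1),(0,1),(0,2)],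
   [(12,1),(0,2),(0,2),(3,1),(1,2),(0,1),(0,2),(4,1),(0,2),(1,1),(1,1),(0,1),(1,2),(0,1),(0,2),
    (10,1),(1,1),(0,2),(0,1),(2,2),(2,1),(0,1),(5,2),(2,1),(0,2),(8,1),(2,1),(6,1),(1,1),(9,1),
    (4,2),(0,1),(1,1),(0,1),(0,1),(3,2),(3,1),(0,1),(0,1),(14,1),(0,2),(0,1),(1,2),(0,2),(0,2),
    (0,2),(2,2),(1,1),(0,2),(0,2),(0,2),(4,1),(9,1),(0,2),(0,2),(1,1),(3,2),(0,1),(1,2),(0,2),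
    (8,1),(0,2),(0,2),(1,2),(0,1),(4,2),(1,2),(0,1),(0,2),(0,2),(1,1),(1,1),(0,2),(12,2),(1,1),
    (0,1),(0,1),(0,1),(0,1),(2,2),(0,1),(3,1),(0,2),(0,1),(1,2),(3,2),(1,2)],
   [(12,2),(0,1),(0,1),(4,2),(1,2),(3,1),(0,1),(0,1),(0,2),(1,1),(0,1),(3,2),(13,1),(0,2),(0,1),
    (0,2),(0,2),(1,2),(1,1),(0,1),(0,2),(5,2),(0,2),(1,1),(0,2),(8,2),(0,1),(0,2),(0,2),(0,2),
    (3,2),(1,1),(0,1),(1,2),(8,1),(4,1),(0,1),(0,1),(1,2),(0,1),(4,1),(3,2),(0,1),(0,2),(12,2),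
    (0,1),(0,2),(0,2),(1,1),(2,2),(3,2),(0,2),(1,2),(0,2),(4,2),(8,2),(0,1),(0,1),(0,1),(5,1),
    (0,2),(0,1),(10,2),(1,1),(1,1),(0,2),(4,2),(0,1),(0,2),(1,1),(0,1),(0,1),(1,2),(15,2),(4,1),
    (1,1),(2,1),(2,2),(2,2)],
   [(12,2),(1,1),(4,1),(1,2),(0,2),(2,2),(2,2),(2,1),(2,1),(1,1),(0,1),(11,1),(0,2),(0,2),(0,2),
    (0,1),(0,2),(1,1),(1,2),(5,2),(1,1),(0,1),(0,1),(0,2),(8,2),(0,2),(0,2),(0,1),(0,2),(4,2),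
    (0,2),(2,2),(8,1),(4,2),(0,2),(0,2),(0,2),(1,2),(2,1),(0,1),(0,2),(0,1),(2,1),(0,1),(0,1),
    (12,2),(0,1),(1,1),(2,1),(1,1),(5,2),(0,2),(0,1),(4,1),(8,2),(0,1),(0,1),(0,2),(1,2),(3,2),
    (0,1),(1,1),(0,2),(9,1),(0,1),(1,1),(0,1),(4,2),(0,1),(0,2),(0,2),(1,1),(0,1),(0,2),(0,2),
    (1,2),(0,2),(11,2),(1,2),(1,2),(0,2),(5,1),(3,1),(0,2),(1,2),(3,2),(0,2),(0,2)],
   [(13,2),(0,1),(5,2),(0,1),(0,2),(2,1),(6,2),(3,2),(11,2),(0,2),(1,1),(1,1),(0,2),(0,1),(1,2),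
    (0,1),(0,1),(7,2),(0,2),(11,2),(0,1),(4,1),(0,2),(0,1),(0,2),(0,2),(0,1),(8,2),(5,1),(2,2),
    (0,2),(2,2),(0,1),(0,2),(0,1),(1,1),(0,2),(0,1),(14,1),(1,1),(1,1),(0,2),(1,2),(2,1),(1,1),
    (0,1),(1,1),(13,2),(0,2),(0,2),(1,1),(0,2),(4,2),(1,2),(12,1),(0,1),(0,2),(4,2),(0,1),(0,1),
    (2,1),(0,2),(0,2),(1,2),(0,1),(0,2),(10,2),(1,2),(1,2),(1,2),(2,1),(0,2),(0,1),(0,2),(2,2),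
    (1,1),(1,2),(3,1),(0,1),(0,2)]]

/-- Rows of a matrix. -/
def matP27 : List (List (ℕ × ℕ)) :=
  [[(12,1),(0,1),(0,2),(3,1),(3,2),(3,2),(0,1),(0,1),(1,2),(0,1),(2,2),(1,2),(11,1),(0,1),(0,1),
    (0,1),(0,2),(0,2),(0,2),(0,1),(1,2),(0,2),(7,2),(0,1),(0,2),(0,1),(9,2),(0,1),(0,1),(0,2),
    (3,2),(0,1),(0,1),(0,1),(10,1),(4,2),(0,1),(0,2),(5,2),(1,2),(2,2),(0,1),(0,2),(13,2),(0,2),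
    (0,1),(0,1),(1,1),(0,2),(1,1),(3,2),(0,1),(0,1),(15,1),(1,2),(0,2),(1,2),(5,1),(0,1),(9,2),
    (0,2),(1,1),(0,1),(0,2),(4,1),(0,2),(1,2),(1,1),(2,2),(0,1),(0,1),(0,1),(10,2),(0,2),(0,2),
    (1,1),(0,2),(1,2),(1,1),(1,2),(0,1),(3,2),(0,2),(5,2),(0,1),(0,1)],
   [(13,2),(4,1),(1,2),(0,2),(0,2),(2,1),(0,1),(0,2),(2,2),(0,2),(0,1),(1,1),(0,1),(0,2),(0,2),
    (10,2),(0,1),(0,2),(1,1),(2,2),(0,2),(1,2),(0,2),(4,2),(0,1),(1,2),(10,1),(1,2),(1,1),(6,1),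
    (1,2),(13,1),(0,2),(2,1),(0,2),(3,1),(0,2),(0,2),(1,2),(0,2),(0,1),(0,2),(12,1),(0,1),(0,1),
    (0,2),(1,2),(0,2),(0,1),(3,1),(0,2),(0,2),(2,1),(14,2),(0,2),(0,1),(0,2),(5,2),(0,1),(11,2),
    (1,1),(1,2),(4,2),(0,1),(1,1),(0,2),(0,2),(1,2),(0,2),(1,1),(0,2),(10,1),(0,2),(0,1),(0,2),
    (1,1),(3,1),(0,2),(0,2),(3,2),(1,2),(5,2),(0,1)],
   [(12,2),(0,2),(0,2),(3,1),(0,1),(1,1),(0,1),(3,1),(1,2),(3,2),(0,1),(0,1),(2,2),(10,2),(0,2),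
    (0,1),(1,2),(0,2),(0,1),(0,2),(1,1),(0,2),(0,2),(4,1),(1,1),(0,1),(0,2),(0,1),(8,1),(1,2),
    (0,1),(7,2),(1,1),(13,1),(0,2),(1,2),(6,2),(0,1),(2,2),(0,2),(13,1),(0,1),(0,1),(0,2),(1,2),
    (1,2),(0,2),(2,2),(1,2),(0,2),(0,1),(5,1),(8,1),(2,1),(0,2),(5,1),(0,1),(1,1),(8,1),(0,2),
    (1,1),(1,1),(7,1),(0,1),(2,2),(3,1),(13,1),(0,2),(0,1),(0,1),(3,1),(0,2),(0,1),(2,1),(0,2),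
    (2,2),(3,2),(1,2)],
   [(12,2),(0,2),(5,2),(2,1),(3,2),(1,1),(1,2),(0,1),(0,1),(0,2),(0,2),(0,1),(1,2),(12,2),(0,1),
    (0,2),(1,2),(0,1),(0,2),(0,2),(0,1),(5,1),(0,1),(0,2),(2,1),(10,1),(0,2),(0,1),(3,1),(0,1),
    (0,2),(1,1),(9,1),(5,2),(1,2),(1,1),(2,1),(0,1),(0,2),(0,1),(1,1),(0,1),(1,2),(12,1),(0,1),
    (0,1),(0,2),(3,1),(0,1),(2,2),(3,2),(0,2),(13,2),(0,2),(0,1),(0,1),(0,2),(0,1),(3,2),(1,1),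
    (1,2),(8,2),(1,2),(1,1),(5,2),(2,2),(1,1),(3,2),(12,1),(0,2),(0,1),(0,1),(0,2),(0,1),(0,2),
    (2,2),(0,1),(1,1),(2,2),(1,1),(5,1),(0,2),(0,1)],
   [(12,1),(1,1),(3,1),(0,2),(0,1),(0,2),(6,1),(1,1),(0,2),(0,1),(1,1),(0,2),(1,2),(10,1),(2,1),
    (0,1),(0,2),(2,1),(0,2),(0,2),(5,2),(1,1),(2,2),(9,1),(1,1),(0,2),(5,1),(0,2),(0,2),(9,2),
    (4,2),(0,1),(0,1),(0,2),(0,1),(0,2),(2,1),(0,1),(0,1),(2,2),(0,1),(0,1),(0,1),(17,2),(1,1),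
    (0,2),(3,1),(0,1),(0,2),(0,1),(0,1),(4,1),(8,2),(0,1),(0,2),(0,1),(1,1),(3,1),(0,1),(1,2),
    (0,2),(8,1),(0,1),(0,1),(2,2),(6,2),(0,2),(2,2),(1,2),(2,2),(11,2),(4,2),(0,1),(1,2),(0,1),
    (0,1),(0,2),(2,1),(3,1),(3,1),(0,2),(0,1)],
   [(12,1),(0,2),(4,1),(0,2),(0,2),(1,2),(2,1),(0,1),(0,1),(0,2),(1,2),(3,1),(0,1),(0,2),(0,1),
    (10,2),(0,1),(0,1),(0,2),(1,2),(0,2),(0,2),(0,1),(0,2),(6,1),(0,2),(0,2),(0,1),(0,2),(9,1),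
    (0,2),(0,2),(0,1),(4,1),(0,2),(2,2),(15,1),(0,1),(0,1),(0,1),(0,2),(7,2),(0,1),(0,2),(0,2),
    (12,2),(0,2),(1,1),(2,2),(0,1),(3,1),(0,2),(0,2),(0,1),(0,2),(0,1),(4,1),(10,1),(0,2),(1,2),
    (3,2),(0,1),(0,2),(0,1),(0,2),(8,1),(0,2),(8,1),(0,1),(1,2),(0,2),(0,1),(0,2),(0,1),(1,1),
    (0,2),(11,2),(1,1),(0,1),(0,2),(0,2),(0,1),(0,1),(1,1),(1,2),(3,2),(2,1),(0,1),(3,1),(1,1)],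
   [(13,1),(4,2),(1,1),(0,1),(0,1),(2,2),(1,2),(0,1),(1,2),(0,1),(0,2),(0,1),(0,1),(1,2),(0,1),
    (10,1),(0,2),(1,1),(0,2),(0,2),(1,1),(0,2),(0,1),(0,2),(5,2),(0,2),(1,1),(1,1),(8,1),(0,2),
    (0,2),(1,2),(3,1),(2,2),(1,1),(13,2),(1,2),(1,1),(0,2),(3,1),(5,1),(0,2),(14,1),(8,1),(0,2),
    (0,2),(0,1),(1,1),(4,2),(9,2),(0,2),(0,2),(1,2),(3,1),(0,1),(0,1),(10,1),(1,2),(1,1),(0,2),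
    (4,1),(0,1),(1,2),(0,2),(2,2),(0,2),(0,1),(0,1),(11,2),(0,2),(1,2),(0,1),(0,1),(0,1),(0,1),
    (1,1),(0,2),(0,1),(3,2),(2,2),(0,2),(3,1),(0,2),(0,1)],
   [(12,1),(0,1),(4,2),(0,1),(0,2),(0,1),(3,1),(1,1),(0,2),(1,2),(0,2),(1,2),(0,2),(1,1),(12,1),
    (1,2),(3,2),(0,2),(1,1),(0,2),(4,2),(0,1),(0,2),(12,1),(1,1),(0,1),(6,1),(0,1),(0,2),(8,2),
    (5,2),(0,2),(0,1),(0,2),(4,2),(1,2),(1,1),(1,2),(0,2),(12,1),(0,2),(1,1),(1,2),(0,2),(0,2),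
    (0,2),(2,1),(0,2),(0,1),(0,2),(0,1),(14,2),(0,1),(0,1),(0,1),(0,1),(0,2),(5,2),(10,2),(0,1),
    (0,1),(0,1),(0,1),(5,1),(0,1),(2,1),(2,1),(1,2),(0,2),(0,2),(12,2),(2,1),(0,2),(0,2),(1,2),
    (0,2),(0,1),(0,2),(2,1),(0,2),(0,2),(0,1),(0,1)]]

/-- Rows of a matrix. -/
def matP28 : List (List (ℕ × ℕ)) :=
  [[(14,1),(3,2),(0,1),(0,1),(0,2),(4,1),(0,1),(0,2),(1,1),(0,2),(1,1),(0,1),(0,2),(1,2),(10,2),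
    (1,1),(1,2),(1,1),(0,2),(0,1),(0,2),(0,2),(5,1),(0,1),(0,1),(0,2),(0,1),(0,1),(9,1),(0,1),
    (0,1),(0,2),(3,2),(0,1),(2,2),(0,1),(14,2),(1,1),(0,1),(0,2),(4,1),(0,1),(2,2),(0,1),(0,2),
    (12,2),(0,2),(0,2),(0,1),(2,1),(0,1),(0,2),(2,2),(0,1),(0,2),(0,2),(0,2),(0,1),(4,2),(8,1),
    (1,2),(7,2),(0,2),(0,1),(0,2),(8,1),(0,2),(0,2),(0,2),(0,1),(0,2),(4,1),(0,2),(0,1),(0,2),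
    (1,1),(0,2),(0,2),(0,2),(0,2),(0,2),(11,2),(2,2),(0,1),(0,2),(1,1),(1,2),(0,2),(0,1),(3,2),
    (0,1),(0,1),(0,2),(0,2),(4,2)],
   [(13,2),(4,1),(0,1),(0,1),(0,2),(0,1),(3,1),(0,2),(2,1),(0,2),(0,1),(0,1),(0,2),(13,2),(0,2),
    (0,2),(0,2),(0,2),(1,2),(0,1),(0,2),(0,2),(1,1),(4,2),(0,2),(0,2),(0,2),(1,2),(8,2),(0,1),
    (1,2),(5,2),(0,2),(0,1),(0,1),(0,2),(13,2),(0,1),(0,2),(0,2),(0,1),(4,2),(0,1),(0,2),(1,2),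
    (0,2),(1,2),(17,1),(0,2),(0,1),(0,1),(2,1),(0,1),(1,1),(0,2),(5,2),(8,2),(0,1),(11,2),(8,2),
    (1,2),(1,1),(0,1),(4,1),(1,1),(0,1),(1,2),(0,2),(1,1),(0,1),(0,2),(0,1),(10,2),(3,1),(1,1),
    (2,1),(0,1),(0,1),(0,1),(3,2),(0,1),(0,2),(4,2)],
   [(14,2),(3,1),(1,2),(1,2),(2,2),(0,1),(0,2),(0,1),(1,1),(1,2),(0,1),(0,1),(0,1),(1,1),(10,1),
    (0,1),(0,1),(0,1),(0,2),(0,1),(0,1),(0,2),(2,2),(0,2),(4,2),(1,2),(0,2),(0,1),(0,1),(9,1),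
    (2,1),(5,2),(1,2),(0,1),(13,2),(0,1),(0,2),(1,2),(3,2),(0,1),(0,2),(0,1),(1,1),(0,1),(0,2),
    (0,1),(12,1),(2,2),(1,2),(0,1),(0,2),(4,1),(1,2),(0,2),(14,1),(0,1),(0,2),(0,1),(0,2),(0,1),
    (3,1),(0,2),(1,1),(0,1),(9,1),(0,1),(1,1),(6,2),(0,1),(0,2),(0,2),(0,1),(1,2),(0,2),(0,1),
    (1,2),(10,2),(0,2),(1,1),(1,1),(0,2),(0,1),(1,1),(0,2),(0,1),(0,2),(4,1),(5,2),(0,2)],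
   [(14,2),(3,2),(0,2),(0,1),(1,1),(2,2),(0,1),(0,1),(0,1),(2,2),(1,1),(0,2),(0,1),(1,2),(10,1),
    (0,1),(2,2),(2,1),(0,1),(0,2),(0,1),(0,2),(6,1),(1,2),(0,2),(8,2),(0,1),(0,1),(0,1),(0,1),
    (3,1),(0,1),(0,1),(0,2),(0,2),(14,1),(0,2),(0,1),(0,1),(1,2),(3,2),(1,1),(1,2),(0,1),(0,2),
    (0,1),(12,1),(0,1),(0,2),(2,2),(1,1),(0,2),(2,2),(0,2),(0,2),(0,2),(0,1),(0,1),(14,2),(0,2),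
    (2,1),(3,1),(0,2),(1,2),(0,2),(9,2),(0,1),(0,1),(0,1),(5,2),(0,1),(0,2),(0,1),(0,1),(0,2),
    (0,2),(0,2),(0,2),(1,2),(12,2),(0,1),(0,2),(0,1),(1,1),(0,1),(2,1),(4,2),(0,1),(0,1),(0,1),
    (0,2),(3,2),(0,2)],
   [(12,2),(1,1),(3,1),(0,2),(2,1),(3,2),(0,1),(3,2),(3,1),(0,1),(0,1),(10,2),(2,1),(0,2),(3,1),
    (0,1),(0,2),(0,2),(4,2),(0,1),(0,2),(0,1),(0,2),(9,2),(1,2),(0,2),(4,1),(1,2),(0,2),(0,2),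
    (0,2),(8,1),(4,1),(1,1),(1,2),(0,2),(2,1),(0,1),(0,1),(0,2),(1,1),(0,1),(14,2),(0,1),(0,1),
    (2,2),(0,1),(0,2),(0,2),(2,2),(0,1),(1,1),(0,1),(0,1),(4,2),(8,2),(3,1),(0,1),(5,1),(0,2),
    (10,1),(2,1),(0,2),(4,1),(2,1),(1,1),(1,1),(0,2),(0,2),(0,2),(0,2),(11,1),(1,1),(0,1),(0,2),
    (3,2),(0,2),(1,1),(3,1),(2,2),(3,2),(0,2)],
   [(13,2),(0,2),(4,2),(0,2),(4,1),(2,2),(1,2),(0,2),(0,1),(0,2),(0,2),(0,1),(1,2),(10,1),(0,2),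
    (1,2),(1,1),(3,1),(0,2),(0,2),(4,1),(0,2),(0,1),(2,2),(8,1),(3,1),(3,1),(2,2),(0,2),(9,1),
    (4,1),(1,1),(1,1),(0,2),(2,1),(1,2),(2,2),(0,2),(0,1),(0,1),(14,2),(0,2),(1,1),(2,2),(2,1),
    (1,2),(2,1),(4,1),(8,2),(1,1),(0,2),(5,2),(0,2),(0,2),(0,2),(0,2),(11,2),(1,1),(5,2),(0,2),
    (0,1),(2,2),(1,1),(2,2),(10,1),(0,1),(0,2),(0,2),(0,1),(2,1),(1,1),(0,2),(0,1),(0,1),(2,1),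
    (0,2),(1,1),(4,1),(0,2),(0,1)],
   [(12,2),(0,2),(5,2),(0,1),(0,1),(0,1),(2,1),(0,2),(1,1),(1,1),(4,2),(0,2),(0,1),(11,2),(0,2),
    (0,2),(0,2),(0,2),(0,2),(0,1),(0,1),(0,1),(0,1),(0,2),(4,1),(0,2),(2,2),(0,2),(9,1),(0,2),
    (0,2),(0,1),(4,1),(0,2),(0,2),(0,1),(14,2),(0,1),(1,1),(0,2),(0,2),(2,2),(0,2),(1,1),(4,1),
    (12,1),(0,1),(1,2),(2,2),(1,1),(2,2),(0,2),(0,1),(2,1),(4,2),(8,1),(0,1),(0,1),(0,2),(0,1),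
    (0,2),(3,1),(1,2),(1,1),(8,2),(0,2),(1,2),(1,2),(4,2),(1,2),(0,2),(0,1),(2,2),(1,1),(0,1),
    (0,1),(10,1),(0,1),(0,2),(1,1),(0,2),(0,2),(0,1),(3,1),(4,2),(0,2),(0,1),(0,2)],
   [(18,1),(0,2),(1,1),(0,2),(2,1),(1,2),(2,2),(0,2),(0,1),(0,2),(1,2),(0,2),(0,1),(12,2),(0,1),
    (1,2),(0,2),(0,2),(0,2),(2,1),(4,1),(0,2),(0,2),(2,2),(8,1),(0,2),(0,1),(6,2),(1,1),(0,2),
    (0,2),(8,1),(4,2),(1,1),(5,2),(1,1),(0,1),(1,2),(0,1),(0,2),(0,1),(12,2),(0,1),(1,2),(1,2),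
    (0,2),(0,2),(0,1),(4,2),(7,1),(9,2),(1,2),(0,1),(0,2),(4,1),(1,1),(11,2),(0,2),(1,1),(4,2),
    (1,2),(1,1),(0,2),(0,1),(1,2),(1,2),(0,1),(11,2),(2,1),(0,2),(1,1),(3,2),(3,1),(1,1),(0,2),
    (0,2),(3,1),(0,2),(0,2)]]

/-- Rows of a matrix. -/
def matP29 : List (List (ℕ × ℕ)) :=
  [[(12,1),(1,1),(5,2),(0,2),(0,2),(2,1),(2,1),(1,2),(0,1),(0,2),(0,2),(0,1),(0,2),(0,2),(0,2),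
    (11,2),(2,2),(0,2),(0,1),(0,1),(0,1),(2,1),(4,1),(0,2),(0,2),(0,2),(0,2),(0,1),(18,1),(1,1),
    (0,1),(13,1),(0,1),(1,1),(1,1),(2,2),(0,2),(0,1),(0,2),(3,2),(14,2),(0,2),(0,2),(1,1),(0,1),
    (5,1),(0,1),(1,2),(5,2),(8,2),(0,1),(0,1),(1,1),(4,2),(0,2),(1,1),(0,1),(9,1),(0,1),(0,2),
    (1,1),(4,2),(0,1),(0,1),(1,1),(0,1),(0,1),(2,2),(1,1),(11,2),(0,1),(1,1),(1,1),(0,1),(1,1),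
    (1,1),(0,1),(2,1),(1,2),(0,2),(0,2),(3,2),(0,2)],
   [(19,1),(0,2),(4,2),(0,1),(0,2),(3,2),(2,2),(2,1),(10,2),(0,2),(2,1),(2,2),(0,1),(0,2),(0,1),
    (0,1),(5,2),(1,1),(0,2),(0,1),(8,1),(0,2),(0,1),(1,2),(5,2),(2,1),(13,1),(0,1),(0,2),(1,1),
    (3,1),(0,2),(0,2),(2,2),(1,2),(0,1),(12,1),(0,1),(0,1),(0,2),(1,1),(0,2),(1,1),(4,2),(0,2),
    (0,1),(0,2),(4,2),(8,1),(0,1),(0,1),(1,2),(5,2),(0,2),(0,1),(9,2),(1,1),(0,1),(12,2),(1,1),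
    (0,1),(1,1),(10,1),(4,2),(0,2),(0,2),(3,1),(0,2),(3,2),(1,1),(0,2),(4,2),(0,2)],
   [(12,2),(0,2),(0,2),(3,1),(0,2),(2,2),(3,1),(0,2),(0,2),(1,1),(0,1),(0,2),(0,2),(0,2),(14,2),
    (0,2),(0,2),(0,2),(2,1),(0,1),(0,1),(0,1),(5,1),(2,2),(10,1),(0,1),(0,2),(0,1),(0,1),(3,1),
    (1,2),(1,2),(9,2),(5,2),(0,1),(0,1),(0,2),(0,2),(4,1),(0,1),(2,2),(1,1),(12,2),(0,1),(0,2),
    (2,2),(1,2),(3,1),(0,2),(0,1),(1,1),(0,1),(4,2),(8,1),(0,2),(0,1),(0,2),(0,1),(4,2),(1,2),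
    (0,1),(9,1),(1,2),(0,1),(0,1),(0,1),(4,2),(0,1),(0,1),(1,1),(0,2),(0,2),(0,2),(1,2),(12,2),
    (0,2),(0,1),(0,1),(1,1),(0,2),(0,1),(2,1),(0,2),(0,2),(3,2),(0,1),(0,2),(4,1),(0,2)],
   [(12,2),(1,1),(3,1),(0,2),(1,1),(0,2),(2,2),(1,2),(0,1),(1,2),(0,2),(0,1),(0,1),(0,2),(0,1),
    (1,1),(10,2),(0,2),(4,2),(0,2),(0,1),(0,2),(0,2),(5,1),(0,1),(0,2),(0,1),(0,2),(9,2),(0,2),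
    (0,1),(0,2),(5,2),(0,1),(0,2),(0,2),(0,1),(8,1),(4,1),(0,1),(0,2),(1,2),(0,2),(2,1),(0,1),
    (0,2),(0,2),(1,2),(0,2),(0,1),(15,1),(2,2),(0,1),(1,2),(3,2),(0,1),(0,2),(0,1),(0,1),(4,2),
    (8,1),(0,2),(0,2),(2,2),(3,2),(0,2),(1,1),(0,2),(8,1),(1,1),(1,1),(0,2),(5,2),(0,2),(0,2),
    (0,2),(0,2),(0,1),(1,1),(0,2),(1,2),(10,2),(0,2),(0,1),(0,1),(0,2),(0,1),(3,1),(0,1),(0,1),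
    (3,1),(2,2),(0,2),(3,1),(1,2)],
   [(12,1),(0,2),(0,2),(3,2),(1,2),(0,1),(3,2),(0,2),(3,1),(2,2),(0,2),(0,1),(1,2),(10,1),(1,1),
    (0,1),(0,1),(0,2),(1,2),(0,2),(0,1),(0,1),(0,2),(6,1),(0,2),(10,1),(0,1),(0,2),(0,1),(0,2),
    (3,1),(0,2),(0,1),(0,2),(10,2),(5,2),(0,1),(0,1),(0,2),(3,1),(0,2),(0,1),(2,1),(2,2),(19,2),
    (4,2),(0,2),(0,1),(0,1),(0,1),(4,1),(8,1),(0,1),(0,1),(0,2),(0,1),(0,1),(3,2),(0,1),(0,1),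
    (1,2),(9,1),(0,1),(0,2),(0,1),(5,2),(0,1),(0,1),(0,1),(1,2),(1,2),(0,2),(0,1),(0,1),(11,2),
    (1,1),(1,2),(1,1),(2,1),(0,1),(1,2),(3,1),(1,2),(0,1),(4,1),(0,1)],
   [(13,2),(0,1),(3,2),(1,1),(4,1),(0,1),(0,2),(0,2),(2,1),(1,2),(0,2),(0,2),(0,1),(0,2),(10,1),
    (4,1),(3,2),(6,1),(0,1),(0,2),(2,1),(8,1),(7,1),(0,2),(1,1),(0,2),(0,2),(8,1),(4,1),(0,2),
    (0,2),(1,2),(3,1),(0,1),(5,2),(13,2),(1,1),(0,2),(1,2),(0,2),(0,2),(4,1),(0,1),(1,1),(5,1),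
    (8,2),(0,1),(0,1),(0,1),(0,1),(0,1),(3,2),(0,1),(1,1),(11,2),(7,1),(0,2),(0,1),(0,1),(0,2),
    (2,1),(0,1),(1,2),(0,1),(11,2),(1,1),(2,1),(2,1),(0,1),(4,2),(0,2),(1,1),(0,2),(3,2),(0,1),
    (0,1)],
   [(12,1),(1,2),(4,1),(1,2),(0,1),(2,2),(1,1),(0,2),(1,2),(0,2),(1,2),(0,1),(1,2),(0,2),(10,2),
    (0,1),(0,1),(0,2),(0,1),(0,2),(2,2),(1,1),(5,2),(0,1),(2,2),(0,2),(8,1),(0,2),(0,1),(0,1),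
    (0,2),(7,2),(14,2),(1,1),(0,1),(0,2),(0,1),(2,2),(2,1),(1,1),(0,2),(0,1),(0,1),(12,1),(0,2),
    (0,1),(0,1),(1,2),(0,2),(0,2),(0,2),(2,2),(0,2),(1,1),(0,1),(0,2),(4,1),(8,2),(0,1),(1,2),
    (0,2),(0,2),(3,2),(3,2),(11,1),(0,1),(0,1),(4,2),(1,1),(0,2),(2,1),(0,2),(2,1),(0,2),(10,1),
    (0,1),(0,2),(1,1),(1,2),(2,1),(0,2),(0,1),(0,2),(2,2),(0,1),(0,2),(1,1),(4,2),(0,1)],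
   [(12,1),(0,1),(0,1),(5,1),(1,2),(3,2),(0,1),(3,2),(0,2),(0,2),(0,2),(0,1),(1,2),(12,2),(0,1),
    (0,2),(0,1),(0,1),(0,1),(0,2),(0,2),(1,1),(4,2),(0,2),(1,1),(0,1),(0,1),(8,1),(2,2),(4,1),
    (2,2),(0,2),(9,1),(4,1),(0,1),(0,2),(0,2),(0,1),(0,2),(3,2),(3,1),(0,1),(0,2),(0,1),(13,2),
    (0,1),(2,2),(0,1),(0,2),(0,2),(3,1),(0,1),(0,2),(0,2),(14,1),(1,1),(0,2),(0,2),(4,1),(0,2),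
    (0,1),(0,2),(11,1),(0,2),(1,2),(4,1),(2,1),(0,1),(1,2),(0,1),(15,1),(0,1),(0,2),(1,2),(0,1),
    (0,2),(1,1),(0,2),(0,1),(0,2),(2,2),(0,2),(1,2),(4,2),(0,2),(0,1)]]

/-- Rows of a matrix. -/
def matP30 : List (List (ℕ × ℕ)) :=
  [[(12,2),(0,2),(4,1),(0,1),(2,1),(2,2),(0,1),(1,1),(2,2),(0,1),(0,1),(0,1),(0,1),(0,1),(11,2),
    (3,1),(0,2),(0,2),(1,2),(0,2),(0,1),(5,1),(2,2),(0,1),(10,1),(0,2),(1,2),(4,1),(0,1),(0,2),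
    (0,1),(0,2),(8,2),(4,2),(0,1),(1,2),(0,1),(3,2),(0,2),(0,2),(5,1),(12,1),(0,2),(0,2),(3,1),
    (0,1),(0,1),(2,2),(1,1),(0,2),(0,1),(14,1),(0,1),(1,2),(0,1),(0,2),(3,1),(0,1),(0,2),(0,1),
    (10,2),(1,2),(0,2),(0,1),(4,1),(2,1),(0,2),(0,2),(1,1),(14,2),(0,2),(0,2),(0,1),(0,2),(0,2),
    (3,1),(0,1),(4,2),(0,1),(0,2),(0,1),(0,1),(3,1),(0,2),(0,2)],
   [(19,2),(0,1),(6,1),(0,1),(2,1),(1,2),(0,1),(0,2),(0,1),(0,2),(10,2),(0,1),(0,1),(0,2),(0,1),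
    (2,1),(0,1),(0,1),(0,1),(0,1),(6,1),(11,2),(1,2),(1,1),(3,2),(1,1),(0,2),(0,2),(0,2),(8,1),
    (7,2),(0,2),(0,2),(3,2),(1,1),(4,1),(12,1),(0,2),(0,1),(0,1),(2,1),(0,2),(3,2),(1,2),(0,2),
    (0,1),(0,1),(4,1),(8,2),(0,1),(0,1),(0,1),(0,1),(0,2),(3,2),(2,1),(0,1),(8,2),(0,1),(0,2),
    (0,1),(6,1),(0,1),(1,2),(1,2),(1,2),(1,2),(0,1),(0,1),(10,2),(1,2),(0,2),(0,2),(0,2),(0,2),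
    (0,1),(1,2),(0,1),(0,1),(3,2),(0,1),(0,2),(5,1),(0,2),(0,1)],
   [(13,1),(0,2),(3,1),(0,2),(1,1),(0,1),(2,2),(0,1),(0,1),(2,1),(0,1),(0,2),(0,1),(0,2),(1,1),
    (0,2),(12,1),(0,1),(0,1),(0,1),(2,2),(0,1),(6,1),(1,2),(0,1),(0,2),(0,2),(8,2),(1,2),(1,1),
    (3,2),(0,1),(1,2),(0,1),(0,2),(8,2),(4,2),(0,2),(2,2),(3,2),(0,1),(0,2),(0,1),(1,1),(2,1),
    (12,1),(0,1),(4,2),(1,1),(2,2),(1,2),(0,1),(1,1),(4,1),(9,2),(0,2),(0,2),(0,2),(0,2),(3,1),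
    (0,1),(0,1),(0,2),(0,2),(8,2),(1,1),(0,1),(1,1),(4,1),(1,2),(0,2),(2,2),(1,1),(0,2),(0,2),
    (0,1),(10,2),(0,2),(0,1),(0,2),(1,1),(1,1),(1,1),(0,2),(1,2),(2,2),(2,1),(0,1),(5,1)],
   [(12,1),(0,1),(0,2),(3,2),(0,2),(0,2),(5,1),(0,1),(0,2),(1,1),(0,2),(3,1),(1,2),(12,1),(0,1),
    (0,1),(1,1),(0,2),(0,2),(0,1),(0,1),(0,1),(4,1),(1,1),(0,2),(0,2),(0,2),(8,1),(0,2),(0,2),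
    (0,1),(0,1),(4,1),(0,2),(0,2),(0,2),(9,1),(5,2),(0,2),(0,2),(1,1),(3,2),(0,1),(0,1),(1,1),
    (0,2),(0,1),(0,2),(12,2),(0,2),(1,1),(1,1),(0,2),(0,2),(0,2),(2,1),(1,2),(0,1),(0,2),(5,1),
    (9,1),(1,2),(0,2),(0,2),(3,2),(2,2),(0,2),(9,2),(0,1),(0,2),(0,2),(0,1),(4,1),(0,1),(0,2),
    (0,2),(1,1),(0,2),(3,1),(12,1),(0,2),(1,2),(0,2),(0,2),(0,1),(1,2),(0,2),(0,1),(0,2),(3,2),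
    (0,2),(0,2),(4,2),(0,1),(0,1)],
   [(13,1),(0,2),(3,2),(1,2),(0,2),(3,1),(2,2),(1,1),(1,2),(0,1),(0,2),(0,1),(0,2),(0,1),(10,2),
    (0,1),(0,1),(0,1),(0,1),(0,1),(0,1),(0,2),(0,2),(0,2),(0,2),(5,2),(0,1),(1,1),(0,1),(10,1),
    (0,2),(0,2),(0,2),(3,2),(0,1),(0,2),(0,2),(0,1),(0,2),(13,1),(0,2),(0,1),(0,2),(0,1),(4,2),
    (0,1),(0,1),(1,2),(2,1),(14,1),(0,1),(1,1),(0,1),(0,2),(0,1),(2,1),(1,2),(0,1),(6,2),(9,2),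
    (0,2),(0,2),(0,1),(0,2),(4,2),(1,1),(0,1),(8,2),(1,2),(1,1),(0,2),(5,2),(0,1),(2,2),(1,2),
    (0,2),(0,2),(1,2),(12,2),(1,2),(0,1),(0,1),(2,1),(1,2),(0,1),(2,2),(0,1),(1,2),(0,1),(3,1),
    (1,1)],
   [(13,1),(4,1),(0,1),(0,2),(4,1),(1,1),(0,2),(1,2),(1,1),(2,2),(1,1),(10,1),(0,1),(0,1),(0,2),
    (3,1),(0,1),(0,1),(0,2),(0,2),(4,2),(0,1),(0,1),(0,1),(0,2),(10,1),(0,1),(1,2),(4,1),(1,1),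
    (0,1),(0,1),(8,2),(4,1),(0,1),(0,1),(0,2),(0,1),(0,1),(2,1),(0,1),(5,2),(0,2),(12,1),(0,1),
    (1,2),(1,1),(0,2),(0,1),(0,1),(3,1),(0,1),(0,2),(1,2),(13,1),(0,2),(0,2),(0,2),(0,1),(4,1),
    (0,2),(1,1),(0,2),(10,1),(0,1),(0,2),(0,1),(4,2),(1,1),(0,2),(0,1),(0,1),(0,1),(0,1),(3,2),
    (10,2),(0,1),(1,1),(1,1),(0,1),(2,2),(0,1),(0,2),(3,1),(0,2),(0,2),(0,1),(4,2),(0,1),(0,1)],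
   [(12,2),(0,1),(0,2),(5,2),(0,1),(0,2),(2,1),(0,1),(0,1),(0,2),(2,1),(1,1),(0,1),(0,1),(0,2),
    (0,2),(10,1),(3,2),(1,1),(0,1),(0,2),(0,1),(0,1),(6,1),(1,1),(1,1),(8,1),(0,2),(1,2),(4,2),
    (1,1),(0,1),(1,2),(13,2),(2,2),(0,2),(0,1),(2,2),(0,1),(0,1),(2,2),(0,2),(0,1),(0,2),(12,2),
    (0,2),(0,2),(2,2),(2,1),(3,1),(1,1),(0,1),(0,1),(4,2),(10,1),(0,1),(1,2),(3,1),(1,1),(0,1),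
    (0,2),(8,1),(0,2),(0,1),(0,2),(0,1),(5,1),(0,1),(0,1),(1,2),(0,1),(0,1),(1,1),(1,1),(0,2),
    (10,1),(0,1),(1,2),(0,2),(1,2),(2,1),(1,2),(0,1),(2,1),(0,2),(0,2),(0,2),(4,2),(0,2),(0,1)],
   [(12,1),(0,2),(5,2),(1,2),(4,1),(0,2),(0,2),(1,2),(0,2),(2,2),(0,1),(0,2),(0,2),(10,2),(1,1),
    (2,2),(0,2),(0,2),(0,2),(0,2),(0,2),(0,2),(6,2),(1,1),(9,2),(2,1),(4,1),(0,2),(0,2),(2,1),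
    (8,1),(4,1),(0,1),(3,2),(2,2),(0,1),(3,1),(0,1),(0,1),(0,1),(12,1),(5,1),(0,2),(0,2),(2,1),
    (1,2),(2,2),(4,1),(8,2),(1,1),(0,1),(1,1),(5,2),(10,1),(0,1),(0,2),(0,2),(1,1),(4,1),(0,2),
    (2,1),(0,1),(0,2),(1,2),(2,2),(10,2),(0,2),(0,2),(1,1),(0,1),(0,1),(2,2),(5,2),(1,1),(0,2),
    (0,2),(5,1)]]

/-- The matrix. -/
def matP : List (List (ℕ × ℕ)) :=
  matP0 ++ matP1 ++ matP2 ++ matP3 ++ matP4 ++ matP5 ++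
  matP6 ++ matP7 ++ matP8 ++ matP9 ++ matP10 ++ matP11 ++
  matP12 ++ matP13 ++ matP14 ++ matP15 ++ matP16 ++ matP17 ++
  matP18 ++ matP19 ++ matP20 ++ matP21 ++ matP22 ++ matP23 ++
  matP24 ++ matP25 ++ matP26 ++ matP27 ++ matP28 ++ matP29 ++
  matP30

end CfsgLib.ThE8
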