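import Mathlib.Data.List.Basic

/-!
# Change of coordinates to a Chevalley basis, by sparse rows (generated)
-/

set_option autoImplicit false
set_option maxRecDepth 100000

namespace CfsgLib.ThE8

/-- Rows of a matrix. -/
def matPInv0 : List (List (ℕ × ℕ)) :=
  [[(0,2),(1,2),(0,1),(0,1),(1,2),(1,2),(0,2),(0,1),(0,2),(0,2),(0,2),(0,1),(0,2),(0,1),(0,2),
    (0,1),(0,1),(0,1),(4,1),(2,2),(0,2),(1,2),(0,2),(1,2),(0,2),(1,1),(0,2),(1,2),(0,1),(0,2),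
    (0,1),(0,1),(2,2),(1,1),(0,2),(0,2),(0,1),(0,1),(2,1),(0,1),(0,2),(0,2),(0,2),(0,1),(0,2),
    (0,1),(0,2),(0,2),(0,2),(2,2),(0,2),(0,2),(0,1),(1,2),(1,2),(0,2),(2,1),(1,2),(0,1),(0,2),
    (0,1),(0,1),(1,2),(0,2),(1,1),(0,1),(0,2),(0,2),(0,1),(1,2),(3,2),(4,2),(0,1),(0,1),(0,1),
    (0,1),(2,2),(3,2),(0,2)],
   [(0,1),(3,2),(1,2),(0,2),(0,1),(0,1),(1,2),(0,2),(0,1),(0,2),(0,2),(0,1),(1,2),(0,2),(0,2),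
    (0,1),(0,1),(0,2),(2,2),(0,1),(0,1),(0,1),(2,1),(0,2),(0,1),(1,2),(0,1),(2,2),(0,1),(1,1),
    (0,2),(0,2),(0,2),(1,1),(4,2),(1,1),(1,2),(1,2),(0,2),(0,2),(0,1),(0,2),(0,1),(2,2),(0,2),
    (0,1),(0,2),(0,1),(5,2),(1,1),(1,2),(0,2),(0,1),(2,1),(0,1),(1,1),(0,1),(0,2),(0,1),(0,2),
    (0,1),(0,2),(1,1),(0,1),(0,2),(1,2),(0,1),(0,1),(0,2),(0,1),(0,1),(0,1),(1,1),(3,2),(1,2),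
    (0,1),(1,1)],
   [(2,1),(0,1),(0,2),(1,2),(1,1),(0,2),(0,1),(0,1),(0,1),(1,1),(1,2),(0,2),(1,2),(0,1),(0,1),
    (0,1),(0,2),(2,2),(1,1),(0,2),(5,2),(1,2),(0,2),(0,2),(2,1),(1,2),(0,2),(0,1),(0,2),(1,1),
    (0,2),(1,2),(1,2),(0,2),(0,1),(0,2),(0,1),(1,2),(0,1),(3,1),(0,1),(0,2),(1,1),(1,2),(0,1),
    (0,1),(4,2),(0,2),(1,1),(1,1),(0,2),(0,1),(1,1),(0,2),(0,2),(2,1),(0,1),(0,1),(0,2),(0,1),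
    (1,2),(0,2),(0,2),(0,1),(0,1),(0,1),(2,2),(0,2),(0,2),(0,1),(2,1),(0,1),(0,2),(1,2),(0,2),
    (0,2),(0,1)],
   [(0,2),(0,2),(1,2),(1,1),(1,2),(1,2),(0,1),(1,1),(0,1),(2,2),(1,1),(0,2),(0,2),(0,2),(0,1),
    (0,1),(0,1),(1,1),(0,1),(1,1),(1,2),(1,2),(0,2),(1,2),(0,2),(1,2),(0,1),(0,1),(0,1),(0,2),
    (0,1),(2,2),(0,2),(0,1),(0,2),(0,2),(0,2),(0,2),(0,1),(3,1),(1,1),(0,2),(1,2),(0,1),(0,2),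
    (2,2),(0,2),(0,2),(1,2),(0,2),(5,2),(1,2),(0,2),(1,1),(1,2),(0,1),(1,1),(0,1),(0,2),(1,2),
    (0,1),(1,1),(0,2),(1,1),(0,2),(0,2),(0,2),(1,2),(0,2),(0,2),(0,2),(0,1),(0,1),(0,1),(0,1),
    (1,2),(0,2),(0,1),(0,2),(1,1),(0,2)],
   [(0,2),(4,2),(1,1),(0,2),(0,1),(0,2),(0,2),(0,2),(3,2),(2,2),(1,2),(1,2),(1,1),(1,2),(0,2),
    (0,2),(0,1),(0,2),(0,1),(1,1),(0,2),(0,2),(0,2),(0,1),(1,1),(0,2),(0,1),(0,2),(1,2),(0,1),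
    (0,2),(0,1),(0,2),(0,1),(1,2),(1,2),(0,2),(0,2),(0,2),(0,2),(0,2),(0,2),(0,2),(1,2),(0,1),
    (1,2),(2,1),(0,1),(0,2),(1,2),(1,2),(2,2),(0,1),(1,2),(0,2),(0,1),(0,2),(0,2),(0,1),(0,2),
    (0,1),(1,1),(0,2),(0,1),(0,2),(1,2),(0,2),(0,2),(0,2),(3,2),(0,2),(3,2),(0,1),(1,2),(0,1),
    (0,2),(0,1),(0,1),(0,1),(0,1),(0,2),(0,2),(0,2)],
   [(0,2),(0,1),(2,1),(0,2),(0,1),(0,2),(0,2),(2,1),(0,1),(1,1),(0,2),(0,1),(0,2),(0,1),(0,2),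
    (0,2),(0,1),(0,2),(0,1),(0,1),(0,2),(1,1),(0,2),(3,1),(0,2),(0,2),(0,1),(0,2),(0,2),(1,1),
    (0,2),(0,1),(2,2),(0,1),(0,2),(2,2),(0,2),(2,2),(3,1),(0,2),(0,1),(0,2),(0,2),(0,2),(0,1),
    (0,2),(0,1),(0,2),(1,1),(0,2),(0,1),(1,1),(0,1),(4,2),(0,2),(2,2),(1,1),(0,2),(0,2),(0,1),
    (1,1),(2,2),(0,1),(1,1),(0,2),(0,2),(0,2),(0,2),(0,1),(0,2),(1,2),(2,2),(2,2),(2,1),(1,2),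
    (0,2),(1,1),(1,1)],
   [(0,2),(0,2),(1,1),(0,1),(0,2),(2,2),(0,2),(0,2),(0,2),(0,1),(3,2),(0,2),(3,1),(0,2),(0,2),
    (0,2),(0,1),(1,2),(2,2),(0,1),(1,1),(1,2),(1,1),(0,2),(0,2),(0,2),(3,1),(0,1),(0,2),(0,1),
    (0,1),(0,2),(1,2),(2,2),(0,1),(0,2),(2,1),(0,1),(0,2),(0,1),(0,2),(0,2),(1,2),(1,1),(0,1),
    (1,2),(0,2),(3,1),(1,2),(2,2),(0,2),(1,2),(0,2),(0,2),(0,2),(0,2),(0,1),(0,2),(1,1),(0,1),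
    (0,2),(0,1),(2,1),(0,2),(0,2),(0,1),(0,2),(0,2),(0,1),(1,2),(1,2),(2,2),(1,1),(0,1),(0,1),
    (0,2),(0,1),(1,2)],
   [(0,2),(0,2),(0,1),(0,2),(0,1),(0,2),(1,1),(3,1),(0,2),(0,2),(0,1),(1,2),(0,1),(0,2),(2,2),
    (0,2),(0,1),(2,2),(0,2),(0,2),(2,1),(1,1),(1,1),(0,2),(1,1),(6,2),(3,1),(0,2),(0,1),(2,1),
    (0,2),(1,2),(1,2),(2,2),(2,2),(0,1),(0,2),(0,2),(0,1),(2,2),(0,2),(0,2),(0,1),(0,1),(3,2),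
    (0,2),(0,2),(0,2),(0,1),(0,2),(0,2),(0,2),(0,1),(0,1),(0,1),(0,2),(0,2),(1,1),(0,1),(3,1),
    (0,1),(1,2),(0,1),(0,1),(1,2),(0,1),(0,1),(0,1),(0,2),(0,2),(0,1),(0,2),(0,2),(0,1),(0,1),
    (0,2),(0,1)]]

/-- Rows of a matrix. -/
def matPInv1 : List (List (ℕ × ℕ)) :=
  [[(0,1),(1,2),(0,2),(2,1),(3,1),(0,2),(2,1),(0,2),(0,2),(0,2),(1,1),(1,1),(0,1),(0,2),(0,2),
    (0,2),(1,1),(0,1),(0,2),(1,1),(1,1),(0,1),(0,1),(0,1),(0,2),(0,1),(0,2),(0,2),(0,1),(1,2),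
    (1,2),(0,1),(3,1),(0,2),(0,2),(0,2),(0,1),(1,1),(2,2),(0,1),(0,1),(0,2),(1,2),(1,2),(0,1),
    (0,1),(2,2),(1,2),(0,1),(0,2),(0,1),(1,2),(0,1),(0,2),(0,2),(1,1),(1,2),(0,2),(0,2),(0,2),
    (0,1),(0,2),(1,2),(0,2),(1,2),(0,1),(1,2),(0,2),(0,2),(0,1),(0,2),(0,2),(1,2),(0,1),(1,2),
    (0,2),(0,2),(0,1),(0,1),(1,2),(0,1),(0,2),(1,1),(0,1)],
   [(0,2),(2,2),(1,2),(0,1),(0,1),(0,2),(0,2),(2,1),(1,1),(0,2),(0,1),(0,1),(0,1),(0,2),(0,1),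
    (2,1),(1,2),(0,1),(0,2),(1,2),(1,2),(2,2),(3,2),(1,1),(1,1),(0,2),(0,1),(0,1),(0,1),(0,1),
    (0,1),(0,1),(0,2),(0,1),(3,1),(2,2),(0,2),(0,1),(0,1),(0,2),(0,1),(1,1),(2,2),(0,1),(0,2),
    (0,1),(1,2),(1,2),(1,1),(0,2),(1,2),(0,2),(0,2),(0,1),(1,1),(0,1),(0,1),(0,2),(1,2),(0,2),
    (0,2),(0,1),(0,2),(0,1),(0,2),(0,1),(0,2),(0,1),(2,2),(0,2),(0,1),(4,2),(0,2),(1,2),(0,1),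
    (1,2),(1,1),(1,1)],
   [(0,2),(0,2),(0,1),(4,2),(0,2),(0,2),(0,1),(0,1),(1,2),(3,1),(0,1),(0,1),(0,2),(0,2),(1,1),
    (0,2),(1,2),(0,2),(0,1),(0,1),(2,2),(0,2),(1,1),(0,1),(0,1),(2,2),(2,1),(0,2),(0,1),(0,2),
    (1,2),(1,1),(0,1),(1,1),(0,1),(0,2),(2,1),(0,1),(0,1),(0,2),(1,2),(0,2),(2,2),(0,2),(0,1),
    (0,2),(0,1),(0,1),(0,1),(1,2),(2,1),(0,2),(0,2),(0,2),(0,2),(0,2),(0,2),(0,1),(0,1),(0,1),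
    (0,1),(0,2),(0,2),(0,2),(0,2),(0,2),(1,1),(0,1),(0,1),(0,1),(0,2),(0,2),(0,2),(0,1),(0,1),
    (1,1),(2,1),(0,1),(0,2),(0,2),(2,1),(2,2),(0,2),(0,1)],
   [(0,2),(0,2),(0,1),(0,1),(0,2),(0,2),(0,1),(0,2),(0,2),(0,1),(1,2),(0,2),(1,1),(1,1),(0,2),
    (0,1),(0,2),(0,1),(0,2),(1,2),(1,1),(0,2),(0,1),(0,2),(1,2),(0,2),(1,1),(1,1),(0,1),(0,2),
    (0,2),(1,2),(0,2),(0,2),(0,1),(0,1),(2,2),(0,2),(1,1),(0,2),(0,2),(1,1),(0,1),(1,1),(0,2),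
    (0,2),(0,1),(1,2),(1,1),(0,2),(0,1),(0,1),(1,2),(1,2),(0,2),(0,1),(0,2),(0,2),(3,1),(2,1),
    (1,1),(1,2),(0,2),(0,1),(0,1),(0,1),(0,2),(0,2),(1,1),(0,2),(1,2),(0,1),(0,1),(1,1),(1,1),
    (1,1),(2,2),(1,2),(0,1),(1,1),(0,2),(0,1),(2,2),(0,2)],
   [(120,1),(0,1),(0,2),(0,1),(1,1),(1,1),(0,1),(0,1),(0,1),(5,2),(1,1),(0,1),(1,2),(0,1),(0,2),
    (0,1),(0,1),(0,1),(0,2),(0,2),(0,1),(0,1),(0,2),(0,2),(0,1),(0,2),(0,2),(0,2),(0,2),(1,2),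
    (0,2),(1,2),(0,2),(0,1),(2,2),(0,2),(2,2),(0,1),(0,1),(1,2),(0,2),(1,1),(0,1),(1,1),(0,1),
    (0,1),(1,2),(0,2),(2,1),(0,2),(1,2),(2,1),(0,1),(0,2),(2,2),(0,1),(0,2),(3,2),(0,2),(1,2),
    (0,1),(0,1),(0,1),(1,1),(0,1),(0,2),(1,1),(0,2),(0,2),(0,2),(0,2),(6,2),(1,1),(1,1),(1,1),
    (0,2),(0,2),(0,2),(0,2),(0,1),(0,2),(0,2),(0,2),(0,2),(0,2),(0,2),(0,2)],
   [(120,1),(0,1),(0,1),(3,2),(0,2),(1,1),(0,2),(0,1),(0,2),(1,2),(0,2),(0,1),(0,2),(0,2),(0,1),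
    (0,1),(0,2),(1,1),(0,1),(0,1),(0,1),(2,1),(1,1),(1,1),(0,1),(0,2),(0,1),(0,1),(0,2),(2,2),
    (0,1),(0,1),(0,1),(1,1),(1,1),(0,2),(0,1),(0,1),(1,1),(1,2),(0,1),(0,1),(0,1),(2,1),(0,2),
    (1,1),(0,1),(0,2),(0,1),(0,2),(0,2),(0,2),(0,2),(1,2),(1,1),(2,2),(1,1),(0,2),(1,2),(0,1),
    (1,1),(1,1),(0,2),(0,2),(0,2),(2,1),(0,2),(0,2),(0,2),(1,1),(0,1),(1,1),(1,1),(1,1),(0,1),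
    (0,1),(0,1),(1,1),(0,1),(0,1),(0,1),(1,2),(0,2),(0,1),(0,1),(0,1),(0,1),(1,2),(1,2),(0,1)],
   [(120,1),(0,2),(0,2),(0,1),(1,1),(0,1),(0,1),(2,2),(0,2),(0,1),(0,2),(0,2),(0,2),(0,1),(0,2),
    (2,2),(0,2),(0,1),(0,1),(0,2),(0,1),(0,2),(0,1),(0,1),(0,1),(0,1),(0,2),(0,1),(0,2),(0,1),
    (1,1),(3,1),(0,2),(0,2),(0,1),(1,1),(0,1),(0,1),(0,1),(1,2),(0,1),(1,2),(3,1),(0,1),(0,2),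
    (0,1),(1,1),(0,2),(0,1),(1,2),(1,1),(0,1),(0,2),(0,1),(0,2),(2,2),(0,2),(1,1),(0,2),(0,1),
    (1,2),(1,2),(0,1),(0,2),(0,2),(3,2),(0,1),(1,1),(0,2),(0,1),(0,1),(0,1),(0,2),(0,2),(0,2),
    (0,2),(2,1),(0,1),(0,1),(0,1),(0,2),(1,2),(0,1),(1,2),(0,2),(1,1),(1,1),(0,2),(0,2),(1,1),
    (0,2),(0,1),(0,1)],
   [(1,2),(0,1),(1,2),(0,2),(0,1),(1,2),(1,2),(0,2),(0,1),(0,1),(0,1),(0,2),(0,1),(0,1),(1,1),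
    (0,1),(0,2),(2,2),(0,2),(0,2),(0,2),(0,2),(0,2),(0,2),(0,2),(0,2),(1,2),(0,1),(0,2),(1,1),
    (0,1),(0,1),(0,1),(1,1),(2,1),(0,2),(0,2),(0,1),(0,2),(0,2),(0,1),(0,1),(1,1),(0,2),(1,1),
    (0,2),(0,1),(0,2),(1,1),(1,2),(1,1),(0,1),(1,1),(3,2),(0,1),(0,1),(0,1),(0,2),(2,1),(0,1),
    (0,2),(5,1),(2,2),(0,1),(0,2),(1,2),(0,2),(1,1),(1,2),(0,1),(0,1),(0,2),(1,2),(1,1),(0,1),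
    (0,2),(2,2),(2,1),(0,2),(0,2),(0,2)]]

/-- Rows of a matrix. -/
def matPInv2 : List (List (ℕ × ℕ)) :=
  [[(1,1),(0,1),(0,1),(1,2),(0,1),(2,1),(0,1),(1,2),(0,1),(0,1),(0,1),(0,2),(0,1),(0,1),(0,2),
    (4,1),(0,1),(5,1),(1,1),(2,2),(1,2),(0,1),(1,2),(0,1),(1,1),(1,2),(0,1),(0,2),(0,1),(0,1),
    (1,2),(1,1),(1,1),(0,2),(0,1),(0,1),(0,2),(0,2),(1,1),(1,1),(0,2),(0,2),(0,1),(0,1),(0,1),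
    (0,2),(1,2),(0,1),(1,2),(0,1),(0,2),(2,2),(0,2),(2,2),(0,2),(0,1),(0,1),(0,1),(0,2),(1,1),
    (2,2),(0,2),(1,1),(0,2),(0,1),(1,1),(1,2),(3,2),(0,2),(0,2),(0,2),(0,1),(0,2),(0,1),(0,2),
    (1,1),(0,1),(0,2)],
   [(0,2),(0,2),(0,2),(0,1),(0,1),(0,2),(1,1),(0,2),(1,1),(0,2),(0,2),(1,1),(0,1),(0,2),(2,1),
    (0,2),(0,1),(0,2),(0,2),(0,1),(1,2),(0,2),(0,1),(0,2),(1,1),(0,2),(3,2),(0,1),(0,1),(0,2),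
    (0,2),(0,1),(0,2),(1,2),(0,2),(1,1),(0,2),(1,2),(1,2),(2,2),(0,2),(0,2),(2,1),(1,1),(1,1),
    (0,2),(1,1),(0,1),(0,2),(1,1),(0,1),(0,2),(1,1),(1,1),(0,1),(0,1),(0,2),(1,2),(0,2),(0,1),
    (0,1),(1,1),(0,2),(5,1),(0,2),(0,2),(0,1),(3,2),(0,2),(1,2),(1,2),(0,2),(0,2),(0,2),(0,1),
    (0,1),(0,1),(2,1),(0,2),(1,1),(0,1)],
   [(121,1),(2,1),(0,1),(0,1),(0,1),(0,2),(0,2),(0,2),(0,1),(0,1),(3,2),(3,1),(1,2),(0,1),(0,2),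
    (0,1),(0,1),(0,1),(0,1),(0,1),(0,1),(1,1),(0,2),(2,2),(0,2),(0,2),(0,2),(0,2),(0,2),(1,1),
    (0,1),(0,2),(2,2),(0,2),(0,1),(1,2),(0,1),(0,2),(1,1),(0,1),(3,1),(0,2),(2,1),(0,2),(0,2),
    (0,2),(0,1),(0,1),(1,1),(0,1),(0,2),(0,2),(0,2),(2,1),(1,2),(0,1),(0,2),(0,1),(1,2),(0,2),
    (0,1),(0,2),(0,1),(0,2),(0,1),(1,1),(0,1),(2,1),(1,2),(0,2),(0,1),(0,2),(0,1),(2,1),(0,1),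
    (1,1),(0,1),(0,1),(0,1),(1,1),(0,2),(0,1),(0,2),(1,2),(1,2),(1,2),(2,1)],
   [(120,1),(0,1),(1,2),(0,1),(0,2),(0,1),(1,1),(2,1),(1,1),(1,1),(0,1),(0,1),(0,1),(1,2),(0,2),
    (1,2),(2,2),(0,2),(0,2),(0,2),(1,2),(1,2),(1,2),(0,1),(0,2),(1,2),(0,2),(1,1),(1,2),(1,1),
    (0,1),(0,2),(0,2),(1,1),(0,1),(0,1),(0,2),(1,1),(2,1),(0,1),(0,1),(0,1),(1,1),(0,1),(0,1),
    (1,2),(0,2),(0,2),(0,2),(0,2),(1,2),(0,1),(0,2),(0,2),(0,2),(0,1),(0,2),(0,1),(0,1),(0,1),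
    (0,1),(0,1),(1,1),(1,2),(0,2),(0,1),(1,1),(7,2),(0,1),(0,2),(0,1),(0,1),(1,2),(1,2),(0,2),
    (0,1),(0,1),(0,2),(0,1),(0,1),(0,1),(0,2),(1,1),(0,2),(1,2),(0,1),(0,1),(0,2),(0,1),(0,1)],
   [(120,2),(0,1),(0,2),(4,2),(0,1),(0,2),(3,1),(0,2),(1,1),(0,2),(0,2),(1,2),(1,2),(0,1),(1,2),
    (0,1),(0,1),(0,2),(0,2),(2,1),(0,2),(0,2),(0,1),(0,2),(0,2),(0,1),(0,2),(0,2),(0,2),(1,1),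
    (0,2),(0,2),(0,1),(0,2),(1,1),(0,2),(1,2),(0,1),(0,1),(0,1),(0,2),(1,2),(0,2),(5,2),(0,1),
    (1,2),(0,1),(0,2),(0,1),(0,2),(1,1),(0,2),(0,1),(0,1),(0,1),(0,1),(0,1),(1,1),(1,2),(0,2),
    (0,2),(0,1),(1,1),(0,1),(0,2),(0,2),(1,1),(0,2),(0,1),(0,1),(1,2),(3,1),(0,2),(0,2),(0,2),
    (0,2),(2,1),(0,2),(0,1),(1,2),(3,1),(1,1),(0,1),(1,1),(1,1),(0,1),(0,2)],
   [(120,2),(2,2),(0,1),(1,1),(3,2),(0,2),(0,2),(0,2),(0,1),(0,2),(0,1),(1,2),(0,1),(0,1),(1,1),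
    (0,2),(1,2),(3,2),(0,1),(0,2),(0,2),(1,2),(0,2),(2,2),(2,2),(2,2),(0,2),(2,2),(0,1),(1,1),
    (0,2),(0,2),(0,1),(0,2),(0,1),(0,1),(0,2),(0,2),(0,2),(1,2),(1,1),(0,1),(0,1),(0,1),(3,1),
    (0,2),(0,1),(0,2),(0,1),(0,2),(0,1),(0,2),(0,1),(0,1),(1,1),(0,1),(0,2),(0,2),(1,2),(0,1),
    (2,1),(0,1),(1,2),(1,1),(1,1),(4,1),(0,2),(0,1),(1,2),(0,2),(0,1),(0,1),(2,1),(0,1),(1,2),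
    (0,1),(0,2),(0,1),(0,2),(0,2),(1,1),(0,2),(0,1),(0,1)],
   [(120,2),(1,1),(0,1),(0,1),(1,2),(0,1),(2,1),(0,2),(0,2),(0,2),(0,1),(0,1),(0,2),(1,1),(0,1),
    (0,1),(0,1),(0,1),(0,1),(1,2),(0,2),(0,1),(0,1),(1,2),(0,1),(0,1),(0,1),(0,1),(1,2),(0,1),
    (1,1),(0,1),(0,1),(0,1),(0,2),(1,2),(1,1),(0,2),(0,2),(4,2),(3,1),(0,1),(0,1),(0,2),(1,1),
    (0,2),(0,1),(0,2),(1,2),(0,1),(1,2),(0,1),(0,2),(0,2),(0,1),(0,1),(0,1),(1,1),(0,2),(0,2),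
    (1,1),(0,2),(1,2),(0,2),(0,1),(1,2),(0,1),(0,2),(0,1),(1,1),(1,1),(0,2),(0,1),(0,2),(0,1),
    (0,1),(0,2),(0,1),(2,1),(1,2),(1,2),(0,2),(2,2),(1,1),(0,1),(0,1),(0,1),(0,1),(0,1),(1,1),
    (0,2),(0,2),(0,1)],
   [(1,2),(1,1),(1,1),(0,1),(0,1),(0,1),(3,1),(0,1),(0,1),(0,1),(0,2),(1,2),(1,1),(0,1),(0,2),
    (0,2),(0,2),(0,2),(0,2),(0,1),(0,2),(0,1),(1,2),(0,2),(1,1),(0,1),(0,1),(1,2),(0,2),(0,2),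
    (1,2),(2,2),(0,1),(0,2),(1,2),(0,2),(0,2),(1,1),(0,2),(0,1),(0,2),(0,2),(0,1),(0,1),(0,1),
    (0,2),(2,1),(0,2),(1,2),(0,1),(0,1),(1,2),(1,2),(3,2),(0,2),(0,2),(1,1),(4,2),(1,1),(1,2),
    (0,1),(0,2),(0,2),(0,2),(0,2),(0,1),(0,1),(0,1),(0,1),(0,2),(0,2),(0,1),(0,2),(0,2),(0,1),
    (0,2),(2,2),(0,1),(0,2),(0,1),(1,1),(0,1),(1,2),(1,1)]]

/-- Rows of a matrix. -/
def matPInv3 : List (List (ℕ × ℕ)) :=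
  [[(0,2),(3,1),(0,1),(0,1),(3,2),(0,1),(0,2),(0,2),(0,1),(0,1),(0,1),(2,2),(2,2),(0,2),(1,2),
    (3,2),(0,2),(0,1),(1,2),(1,1),(1,1),(1,2),(0,1),(0,1),(0,1),(1,2),(0,2),(1,1),(3,1),(0,2),
    (1,2),(0,1),(1,1),(0,1),(0,1),(1,1),(0,1),(0,2),(1,2),(0,1),(0,2),(0,2),(0,1),(0,1),(0,2),
    (0,2),(0,1),(2,1),(0,2),(0,1),(0,2),(0,1),(1,2),(0,1),(0,1),(0,1),(1,2),(4,1),(0,1),(0,2),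
    (0,1),(0,2),(0,1),(1,2),(0,1),(0,1),(5,2),(0,2),(2,1),(1,2),(0,1),(0,2),(0,2),(0,2),(1,2)],
   [(120,1),(0,2),(4,2),(1,2),(0,2),(0,1),(0,2),(0,1),(0,2),(0,2),(0,1),(0,2),(0,2),(2,1),(0,1),
    (1,1),(1,1),(1,2),(1,2),(0,2),(0,1),(0,2),(0,2),(1,2),(0,1),(0,1),(0,2),(0,2),(0,2),(1,1),
    (0,2),(1,1),(4,2),(2,2),(0,2),(1,1),(0,1),(0,1),(0,2),(0,1),(0,2),(0,2),(1,2),(1,2),(0,2),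
    (1,2),(0,2),(0,1),(0,2),(2,1),(0,2),(0,1),(0,2),(1,1),(0,1),(3,2),(0,1),(0,2),(0,2),(4,2),
    (0,2),(0,1),(0,2),(1,2),(0,2),(0,1),(2,1),(1,2),(0,1),(1,2),(0,2),(2,2),(0,1),(0,1),(1,1),
    (1,1),(0,1),(2,1),(0,1),(0,2),(1,2)],
   [(120,1),(0,1),(0,2),(0,1),(2,1),(1,1),(0,1),(0,2),(0,1),(1,1),(0,2),(2,2),(0,1),(2,1),(1,1),
    (0,1),(0,2),(0,1),(0,1),(0,1),(0,2),(1,1),(0,1),(1,2),(1,1),(0,1),(0,2),(0,1),(0,1),(0,1),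
    (0,1),(1,2),(0,1),(0,2),(0,1),(2,2),(0,2),(0,2),(2,2),(1,1),(0,2),(3,1),(0,1),(0,1),(0,2),
    (0,2),(0,2),(0,2),(1,1),(0,1),(0,1),(1,1),(0,2),(0,2),(0,2),(0,1),(1,2),(0,1),(0,2),(0,2),
    (2,1),(0,2),(0,1),(1,2),(1,2),(2,2),(0,1),(0,1),(0,1),(1,2),(0,1),(0,2),(0,2),(0,2),(0,2),
    (0,2),(2,2),(0,2),(0,1),(0,2),(0,2),(0,1),(0,2),(2,2),(0,2),(1,2),(1,2),(0,1),(0,1),(0,1)],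
   [(120,2),(0,1),(0,2),(1,2),(0,1),(0,2),(0,1),(0,2),(1,2),(0,2),(0,2),(1,1),(0,1),(0,2),(3,1),
    (0,2),(1,1),(1,2),(1,2),(0,1),(0,1),(1,1),(1,2),(0,2),(1,1),(1,2),(1,1),(0,2),(0,2),(0,1),
    (2,1),(0,1),(0,1),(1,1),(0,2),(0,1),(0,1),(0,1),(0,2),(0,2),(2,1),(2,2),(0,2),(0,2),(0,1),
    (0,2),(0,1),(3,1),(2,2),(0,2),(0,1),(0,2),(0,2),(3,1),(0,2),(0,2),(0,1),(1,1),(1,2),(2,1),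
    (2,1),(1,1),(0,2),(0,2),(0,2),(1,1),(0,1),(0,1),(0,2),(0,1),(0,2),(0,1),(0,1),(4,2),(0,2),
    (0,2),(0,2),(0,1),(0,1),(0,2),(0,2),(0,1),(0,1),(1,2)],
   [(120,2),(2,2),(1,2),(0,1),(0,1),(0,2),(0,2),(0,2),(1,1),(1,1),(0,1),(0,2),(1,1),(0,2),(1,1),
    (0,2),(0,2),(0,1),(1,2),(0,2),(0,2),(0,2),(0,2),(0,1),(0,1),(0,1),(0,2),(1,1),(0,1),(0,1),
    (0,2),(0,1),(4,2),(0,2),(0,2),(0,2),(0,1),(0,1),(0,1),(0,1),(0,2),(0,2),(0,1),(0,2),(1,2),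
    (0,1),(0,2),(5,1),(0,2),(0,2),(1,1),(1,1),(0,1),(0,1),(0,2),(0,1),(1,1),(1,2),(0,2),(0,1),
    (0,2),(0,2),(0,2),(1,1),(0,1),(0,1),(0,2),(0,2),(1,2),(1,2),(0,2),(0,2),(1,1),(0,1),(0,2),
    (0,2),(0,1),(0,1),(0,2),(0,2),(1,1),(0,2),(2,2),(2,2),(0,2),(0,2),(0,2),(0,2),(0,2),(0,1),
    (0,2),(0,1),(0,2),(0,1),(0,2),(0,1)],
   [(0,2),(0,2),(0,2),(0,2),(1,2),(0,1),(0,1),(0,1),(0,2),(0,2),(0,1),(0,2),(0,2),(2,1),(0,2),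
    (1,2),(0,2),(2,2),(0,1),(1,2),(1,2),(0,2),(0,2),(1,2),(0,2),(0,1),(0,1),(0,2),(0,1),(0,2),
    (0,2),(0,1),(0,1),(3,1),(1,1),(0,2),(1,1),(0,1),(0,2),(0,1),(0,2),(0,1),(0,2),(0,2),(0,1),
    (2,2),(2,2),(0,2),(0,1),(1,2),(2,2),(0,1),(0,2),(0,2),(0,2),(0,2),(0,2),(0,2),(1,2),(0,2),
    (0,1),(1,2),(0,1),(0,2),(0,1),(2,1),(1,2),(0,1),(1,1),(0,1),(2,1),(1,2),(0,1),(0,2),(4,2),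
    (1,2),(0,1),(0,1),(0,2),(0,2),(1,1),(0,2),(0,1),(0,2)],
   [(120,2),(0,1),(0,2),(0,1),(0,2),(0,2),(1,2),(1,1),(1,1),(0,2),(0,1),(0,2),(0,2),(0,2),(0,2),
    (0,1),(0,1),(0,1),(0,1),(0,1),(0,1),(1,2),(0,2),(0,2),(3,2),(2,1),(0,1),(2,2),(0,2),(0,2),
    (0,2),(2,1),(1,2),(0,2),(0,2),(0,1),(0,1),(0,1),(0,2),(1,1),(0,2),(1,2),(0,2),(0,1),(0,1),
    (0,1),(0,2),(2,1),(0,1),(0,2),(0,1),(0,2),(1,1),(2,1),(0,2),(3,1),(0,1),(0,2),(3,2),(0,1),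
    (1,2),(0,1),(0,1),(0,1),(0,2),(0,2),(2,1),(3,2),(0,2),(0,2),(0,1),(0,2),(1,2),(0,2),(1,2),
    (0,2),(0,2),(0,2),(0,1),(0,2),(4,1),(1,2),(0,2),(0,2)],
   [(122,2),(4,1),(0,1),(1,2),(0,1),(1,1),(1,2),(1,1),(2,2),(3,2),(0,1),(1,1),(0,2),(0,2),(0,1),
    (0,2),(0,2),(1,2),(0,2),(0,2),(1,1),(0,2),(1,1),(0,2),(0,2),(0,1),(0,2),(1,2),(0,1),(0,2),
    (0,2),(0,1),(0,1),(0,2),(0,1),(0,2),(3,1),(0,2),(0,1),(2,1),(0,2),(0,1),(0,1),(0,2),(1,1),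
    (0,2),(0,2),(1,1),(0,2),(0,2),(0,2),(2,1),(0,1),(0,1),(4,2),(0,1),(1,1),(0,2),(0,2),(1,1),
    (0,1),(2,2),(0,1),(0,1),(0,2),(0,2),(0,1),(1,2),(0,1),(0,2),(2,1),(1,2),(0,1),(0,1),(1,2),
    (0,2),(0,1),(0,2),(1,1),(1,1),(0,2),(0,2),(0,1),(0,2)]]

/-- Rows of a matrix. -/
def matPInv4 : List (List (ℕ × ℕ)) :=
  [[(120,1),(0,2),(0,1),(1,1),(0,2),(0,1),(0,2),(0,1),(0,2),(0,1),(0,1),(0,1),(0,2),(0,1),(1,1),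
    (1,1),(0,1),(0,1),(0,1),(0,1),(0,1),(0,1),(3,1),(1,1),(1,1),(0,1),(1,2),(1,1),(0,2),(0,2),
    (1,1),(1,1),(0,1),(0,2),(0,2),(0,2),(0,2),(0,1),(1,2),(0,1),(0,1),(2,1),(3,1),(0,2),(0,1),
    (0,2),(0,1),(0,2),(1,2),(0,2),(0,1),(4,1),(0,1),(0,2),(0,1),(0,1),(1,1),(2,2),(1,1),(0,2),
    (3,2),(0,1),(0,2),(1,1),(1,1),(0,2),(0,2),(0,2),(1,1),(0,2),(0,2),(0,1),(1,2),(1,1),(1,1),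
    (0,1),(1,1),(0,2),(0,2),(3,1),(0,1),(0,1),(0,2),(0,1),(0,2),(0,2),(1,2)],
   [(122,2),(1,1),(2,1),(0,1),(0,1),(0,2),(3,1),(2,2),(0,2),(1,1),(0,1),(0,2),(1,2),(0,2),(1,2),
    (1,2),(0,1),(3,2),(2,2),(0,1),(1,2),(0,2),(0,1),(0,1),(0,2),(1,1),(0,2),(0,1),(0,2),(0,2),
    (0,1),(0,1),(1,1),(0,1),(1,1),(3,1),(3,1),(2,1),(0,1),(1,1),(1,2),(1,2),(1,1),(0,2),(0,2),
    (0,2),(0,1),(0,2),(0,1),(1,1),(0,1),(0,2),(1,2),(0,2),(1,2),(2,1),(0,2),(1,1),(0,1),(1,1),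
    (0,2),(1,2),(0,2),(1,2),(0,2),(0,2),(0,2),(0,2),(0,2),(2,1),(0,1),(1,2),(1,1),(0,1),(1,1),
    (0,1),(1,1),(0,2)],
   [(122,1),(1,2),(0,1),(0,2),(2,1),(0,2),(0,1),(1,1),(0,1),(0,1),(0,2),(0,1),(0,2),(0,1),(0,1),
    (0,2),(1,1),(1,2),(0,1),(0,2),(0,1),(1,2),(1,1),(0,2),(0,1),(0,2),(0,2),(1,2),(2,2),(0,2),
    (1,2),(2,2),(1,2),(0,1),(0,1),(2,2),(4,1),(1,2),(0,2),(1,1),(0,1),(1,1),(0,1),(1,1),(0,1),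
    (0,2),(0,1),(2,1),(1,2),(2,2),(0,2),(0,1),(1,1),(0,1),(0,1),(1,1),(1,1),(0,2),(1,1),(2,1),
    (0,2),(0,2),(1,2),(0,1),(1,1),(1,2),(0,1),(0,2),(0,1),(4,2),(0,2),(1,2),(1,1),(0,2),(0,1),
    (0,1),(2,2),(0,1)],
   [(120,1),(0,1),(0,2),(0,2),(0,1),(0,2),(0,2),(0,1),(0,2),(0,1),(0,2),(0,1),(2,1),(1,1),(0,2),
    (0,1),(1,1),(0,1),(0,2),(0,1),(0,2),(0,1),(1,2),(0,1),(2,1),(1,1),(2,1),(2,1),(0,1),(0,1),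
    (1,2),(1,2),(1,1),(0,1),(0,1),(0,1),(0,2),(1,1),(0,2),(0,2),(0,1),(1,2),(3,1),(1,2),(0,1),
    (0,1),(0,2),(1,1),(0,2),(2,1),(0,2),(0,1),(1,1),(0,1),(0,2),(7,1),(0,2),(0,2),(1,2),(1,1),
    (1,1),(0,1),(0,2),(1,2),(1,2),(1,1),(3,2),(1,1),(0,1),(1,2),(1,2),(0,2),(0,2),(1,1),(0,2),
    (0,1),(0,1),(0,2),(0,1),(0,1),(2,1)],
   [(121,2),(2,2),(2,1),(0,2),(0,2),(0,1),(0,1),(2,2),(0,1),(0,2),(0,1),(0,2),(1,2),(0,1),(0,2),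
    (0,2),(0,1),(0,1),(0,1),(0,2),(1,2),(1,1),(0,2),(0,2),(1,2),(0,2),(0,2),(1,2),(0,2),(0,2),
    (0,1),(1,1),(0,2),(0,1),(0,1),(0,2),(0,1),(1,2),(0,2),(0,1),(1,1),(0,1),(0,2),(1,2),(0,1),
    (0,2),(0,1),(1,1),(1,1),(0,2),(0,1),(0,2),(0,1),(2,2),(1,1),(0,2),(0,2),(0,2),(0,1),(1,1),
    (0,2),(1,2),(0,1),(0,2),(0,2),(0,1),(0,1),(1,1),(0,1),(1,1),(1,1),(0,1),(1,1),(0,1),(1,1),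
    (3,1),(0,1),(0,2),(0,2),(0,2),(0,1),(0,1),(1,1),(0,1),(1,1),(0,2),(0,2),(0,1),(1,1),(0,2),
    (1,2),(0,2),(0,1)],
   [(120,1),(2,1),(1,2),(1,1),(0,1),(0,2),(1,1),(0,1),(0,1),(1,1),(1,2),(0,1),(0,2),(2,1),(0,1),
    (0,2),(1,1),(0,2),(4,1),(0,2),(0,1),(0,1),(0,1),(1,2),(5,2),(0,1),(3,2),(0,2),(0,1),(0,2),
    (2,1),(0,2),(0,2),(1,1),(0,1),(0,1),(0,1),(0,1),(0,1),(1,2),(0,1),(0,2),(0,2),(0,1),(1,2),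
    (3,1),(2,1),(0,1),(1,2),(0,1),(0,1),(0,1),(0,2),(0,1),(0,1),(2,2),(3,1),(0,1),(0,2),(1,2),
    (1,1),(0,1),(1,1),(0,1),(0,1),(2,2),(0,2),(2,2),(0,1),(0,1),(0,1),(1,2),(1,1),(0,1),(0,1),
    (2,1),(0,2),(0,1)],
   [(0,1),(0,2),(0,2),(0,2),(0,1),(1,1),(2,1),(0,1),(1,2),(2,1),(0,1),(1,1),(0,2),(0,1),(0,1),
    (0,2),(0,2),(5,2),(1,2),(1,1),(0,2),(0,2),(1,1),(0,2),(0,1),(0,2),(0,2),(1,1),(1,1),(1,2),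
    (1,1),(0,2),(0,2),(0,2),(0,2),(0,2),(1,1),(0,1),(1,2),(0,1),(0,2),(0,2),(1,1),(0,1),(0,2),
    (0,2),(0,1),(0,2),(0,2),(0,2),(1,2),(0,2),(0,1),(0,2),(0,1),(0,1),(0,2),(0,2),(1,1),(0,1),
    (1,1),(0,2),(0,1),(1,2),(0,2),(0,2),(1,2),(0,2),(0,1),(0,1),(0,1),(0,2),(1,1),(0,2),(1,1),
    (0,2),(0,1),(1,1),(0,2),(0,1),(1,2),(0,1),(1,2),(0,2),(0,2),(0,1),(0,2)],
   [(0,2),(0,2),(2,1),(0,2),(1,1),(0,1),(0,1),(1,1),(1,1),(3,1),(0,1),(2,2),(1,1),(0,2),(0,1),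
    (0,2),(1,2),(0,1),(0,2),(3,2),(1,2),(0,2),(1,2),(0,2),(1,1),(0,2),(0,1),(1,2),(0,1),(0,2),
    (0,2),(0,1),(0,1),(0,1),(1,1),(0,1),(0,2),(3,2),(0,1),(0,1),(0,1),(0,2),(2,2),(0,2),(1,1),
    (1,1),(0,1),(0,2),(0,1),(0,1),(1,2),(0,2),(0,1),(0,1),(3,2),(0,1),(1,2),(2,1),(0,1),(1,1),
    (0,2),(0,2),(0,2),(0,2),(0,1),(3,2),(0,2),(0,2),(0,1),(0,2),(0,1),(0,2),(1,2),(0,1),(1,2),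
    (1,2),(0,2),(1,2)]]

/-- Rows of a matrix. -/
def matPInv5 : List (List (ℕ × ℕ)) :=
  [[(1,2),(0,2),(0,2),(0,1),(0,1),(2,1),(1,2),(0,1),(0,1),(1,1),(0,1),(1,1),(4,1),(0,2),(0,1),
    (0,1),(0,2),(1,1),(0,1),(1,1),(2,2),(3,2),(0,1),(0,2),(0,2),(0,2),(0,1),(0,1),(0,2),(1,1),
    (0,1),(1,1),(1,2),(0,2),(0,1),(1,2),(0,2),(0,2),(2,1),(1,1),(1,1),(0,2),(1,1),(0,1),(1,2),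
    (0,1),(0,2),(0,2),(0,1),(0,1),(0,1),(4,2),(0,1),(0,1),(0,2),(0,1),(1,1),(0,1),(3,2),(0,2),
    (0,2),(0,2),(2,2),(1,2),(1,2),(0,1),(0,1),(0,2),(0,1),(1,2),(0,1),(0,1),(0,2),(1,1),(0,2),
    (0,1),(1,2),(0,2)],
   [(0,2),(0,2),(0,2),(0,2),(0,2),(3,2),(0,1),(0,2),(0,1),(0,1),(0,1),(1,1),(0,1),(1,2),(0,1),
    (0,2),(0,2),(1,2),(0,2),(0,1),(0,2),(1,2),(2,1),(0,2),(1,2),(1,1),(1,1),(0,2),(0,1),(0,2),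
    (0,2),(0,1),(1,1),(0,1),(1,2),(0,2),(0,1),(3,1),(1,2),(0,1),(0,2),(0,2),(0,2),(0,1),(1,1),
    (1,2),(2,1),(1,2),(1,1),(0,2),(2,1),(1,1),(1,1),(0,2),(0,2),(1,2),(0,2),(0,2),(0,1),(2,2),
    (2,2),(0,2),(1,1),(1,2),(0,1),(0,1),(0,1),(0,1),(0,1),(1,2),(0,2),(1,1),(2,2),(2,2),(0,1),
    (1,1),(0,2),(0,1)],
   [(0,1),(1,2),(0,1),(0,1),(0,1),(0,1),(0,1),(1,2),(0,1),(1,1),(0,2),(0,1),(0,1),(0,1),(5,1),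
    (0,1),(1,1),(0,2),(0,2),(2,1),(0,2),(2,2),(0,2),(0,1),(0,2),(0,1),(0,2),(2,2),(0,1),(0,2),
    (0,1),(0,2),(3,1),(0,2),(1,1),(0,2),(0,1),(0,2),(0,2),(0,1),(0,1),(0,1),(2,1),(0,2),(0,1),
    (0,1),(2,1),(1,1),(0,2),(1,2),(0,1),(0,2),(0,1),(0,1),(1,1),(0,1),(0,1),(1,2),(0,1),(0,2),
    (0,2),(3,2),(2,1),(0,1),(1,1),(0,1),(0,1),(0,2),(0,2),(0,2),(2,1),(0,2),(0,1),(0,1),(0,2),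
    (2,2),(0,1),(0,1),(0,2),(2,2),(0,2)],
   [(1,1),(2,1),(1,1),(0,1),(0,2),(1,2),(0,1),(0,2),(0,2),(0,2),(1,1),(0,1),(0,1),(0,1),(0,1),
    (1,1),(3,1),(1,2),(1,1),(1,2),(1,1),(0,2),(1,2),(0,1),(0,1),(0,1),(0,2),(0,1),(0,2),(1,2),
    (0,2),(1,1),(1,1),(0,2),(0,1),(0,2),(1,1),(0,1),(2,2),(0,1),(0,1),(0,1),(0,1),(1,2),(0,1),
    (0,1),(0,2),(4,2),(0,2),(2,2),(1,2),(0,1),(0,1),(1,1),(0,2),(1,2),(1,2),(0,2),(0,2),(0,2),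
    (0,2),(2,1),(0,2),(2,2),(0,1),(0,1),(0,2),(0,1),(0,2),(2,2),(0,1),(0,1),(0,2),(0,2),(0,1),
    (0,1),(2,1),(1,1)],
   [(0,1),(2,1),(1,2),(0,2),(0,2),(4,2),(0,2),(0,1),(0,2),(1,1),(0,1),(0,1),(0,1),(0,1),(0,2),
    (1,2),(1,1),(0,2),(0,2),(0,2),(0,2),(0,1),(0,1),(1,1),(1,1),(0,2),(2,2),(1,2),(1,2),(2,2),
    (0,1),(4,1),(0,1),(1,2),(0,2),(0,1),(0,1),(0,1),(1,2),(0,2),(0,1),(0,1),(0,2),(2,2),(0,2),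
    (1,1),(0,1),(1,1),(1,1),(0,2),(1,2),(1,1),(0,2),(1,1),(0,2),(1,1),(1,1),(1,1),(0,2),(1,1),
    (0,1),(0,1),(0,1),(0,2),(0,2),(0,2),(1,1),(2,2),(1,1),(0,1),(1,2),(0,2),(2,2),(1,2),(0,1)],
   [(0,1),(0,2),(0,1),(1,1),(3,1),(0,2),(0,1),(1,1),(2,1),(0,1),(0,1),(0,1),(0,2),(1,2),(0,1),
    (0,2),(4,2),(1,2),(0,1),(0,2),(0,1),(1,2),(0,1),(0,1),(0,2),(0,1),(1,1),(1,2),(1,2),(1,1),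
    (0,2),(4,1),(0,1),(0,1),(0,2),(0,2),(1,2),(0,2),(0,2),(0,1),(1,2),(0,2),(0,1),(1,1),(1,1),
    (1,2),(1,1),(1,1),(0,2),(2,2),(0,2),(0,2),(3,1),(5,2),(0,2),(0,2),(0,2),(1,2),(1,2),(0,1),
    (0,2),(0,2),(0,1),(1,2),(0,2),(2,2),(0,1),(1,1),(1,2),(0,1),(1,2),(1,1)],
   [(0,1),(2,1),(5,2),(0,2),(1,2),(0,1),(0,1),(0,1),(0,2),(0,1),(1,2),(1,2),(0,2),(0,1),(1,2),
    (1,1),(0,1),(0,2),(1,1),(2,1),(0,1),(1,2),(0,1),(0,1),(2,2),(1,2),(2,2),(3,2),(0,2),(0,1),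
    (1,2),(1,2),(0,2),(0,2),(0,2),(0,1),(0,2),(0,1),(0,2),(0,1),(0,1),(0,2),(0,2),(1,2),(2,1),
    (1,2),(0,1),(0,2),(0,1),(0,1),(0,2),(3,2),(0,2),(0,2),(1,1),(1,1),(1,1),(0,1),(0,1),(0,2),
    (0,1),(0,1),(4,2),(0,1),(0,1),(2,2),(0,1),(0,1),(0,1),(0,2),(2,1),(4,2)],
   [(0,2),(0,2),(1,1),(0,2),(1,2),(1,1),(2,2),(1,2),(0,2),(0,1),(0,1),(1,2),(1,2),(1,2),(0,2),
    (0,1),(1,2),(0,2),(0,2),(0,2),(0,1),(1,1),(5,1),(0,1),(0,1),(0,1),(0,2),(0,2),(0,1),(2,2),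
    (0,1),(3,1),(0,2),(0,2),(0,1),(0,1),(0,2),(0,1),(0,1),(1,1),(0,1),(0,2),(0,1),(1,2),(0,2),
    (0,1),(1,2),(0,1),(0,1),(0,2),(0,2),(0,2),(1,2),(0,2),(0,1),(2,1),(1,1),(0,2),(0,1),(0,1),
    (0,2),(2,1),(1,1),(2,2),(0,1),(0,2),(0,2),(0,1),(0,2),(0,1),(1,2),(0,2),(0,2),(0,2),(0,2),
    (0,1),(0,2),(0,2),(0,2),(0,2),(0,1),(0,2),(0,1),(0,1)]]

/-- Rows of a matrix. -/
def matPInv6 : List (List (ℕ × ℕ)) :=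
  [[(121,2),(1,2),(2,1),(0,2),(4,2),(0,2),(0,1),(0,1),(0,1),(0,1),(0,2),(1,1),(0,2),(0,2),(0,2),
    (0,1),(2,2),(0,2),(1,1),(0,2),(0,2),(1,2),(1,1),(1,1),(0,1),(0,1),(4,1),(0,1),(0,1),(0,1),
    (0,2),(0,2),(1,2),(2,2),(0,1),(0,2),(1,2),(1,1),(1,2),(1,2),(0,2),(0,2),(0,1),(0,1),(0,2),
    (0,1),(0,2),(0,2),(3,2),(0,2),(0,1),(1,1),(0,2),(0,1),(3,1),(1,1),(0,1),(3,1),(0,1),(0,2),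
    (0,1),(0,2),(1,1),(2,1),(1,2),(0,1),(1,1),(0,1),(0,2),(0,2),(0,2),(0,2),(1,1),(1,2),(0,1),
    (2,2),(0,2),(1,1),(0,1),(0,1),(0,1)],
   [(120,2),(0,1),(0,1),(0,2),(1,1),(1,1),(0,2),(1,1),(1,1),(2,2),(0,2),(0,2),(0,1),(0,1),(1,1),
    (4,1),(0,2),(0,2),(0,2),(3,1),(0,2),(0,2),(0,2),(2,2),(0,1),(1,2),(1,1),(0,2),(0,1),(0,2),
    (0,1),(1,1),(0,2),(0,2),(2,2),(0,2),(1,1),(1,1),(0,2),(1,1),(0,1),(1,1),(1,2),(1,2),(0,2),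
    (0,1),(0,1),(1,2),(0,2),(0,2),(0,2),(0,1),(0,1),(0,2),(0,2),(0,1),(0,1),(0,1),(0,2),(0,2),
    (0,2),(0,2),(0,2),(1,1),(1,1),(0,2),(0,2),(0,2),(3,1),(0,2),(0,1),(0,1),(0,1),(1,1),(0,1),
    (1,2),(0,1),(4,2),(0,1),(0,2),(2,2),(0,1),(0,2),(2,2)],
   [(121,1),(3,1),(0,2),(1,1),(0,1),(4,2),(2,2),(1,1),(0,2),(1,2),(0,1),(0,1),(1,2),(0,1),(0,2),
    (0,1),(1,2),(1,2),(0,2),(0,2),(0,1),(2,2),(1,2),(0,1),(1,1),(2,2),(0,2),(1,2),(1,1),(2,1),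
    (1,1),(0,2),(0,1),(0,2),(0,1),(0,1),(1,1),(1,2),(1,1),(0,2),(0,2),(0,2),(1,1),(0,1),(0,2),
    (0,2),(1,1),(1,1),(0,2),(0,2),(0,1),(1,2),(0,2),(0,2),(0,2),(0,1),(0,1),(0,2),(0,2),(2,1),
    (0,2),(2,1),(1,2),(0,2),(0,1),(0,1),(0,2),(0,2),(1,1),(1,2),(1,1),(0,2),(0,1),(0,1),(0,2),
    (4,1),(0,1),(1,1)],
   [(120,1),(0,1),(1,1),(1,2),(2,2),(1,1),(0,1),(0,1),(3,1),(0,2),(0,2),(0,2),(0,2),(0,1),(2,2),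
    (2,2),(2,1),(1,1),(0,1),(0,2),(0,2),(0,1),(0,2),(0,2),(0,1),(0,2),(0,2),(0,1),(0,2),(0,1),
    (0,1),(0,2),(2,2),(0,2),(0,1),(0,2),(0,2),(1,1),(0,1),(0,1),(0,1),(0,1),(0,1),(0,1),(1,2),
    (0,1),(0,2),(1,1),(1,1),(0,1),(1,1),(0,1),(2,1),(0,2),(0,1),(0,2),(0,1),(1,2),(1,1),(0,2),
    (0,1),(2,2),(1,1),(1,1),(0,1),(1,1),(0,1),(2,1),(1,1),(1,1),(0,2),(0,1),(0,1),(0,1),(0,2),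
    (1,1),(1,2),(1,2),(0,1),(0,2),(4,2),(1,1),(1,2),(0,1)],
   [(120,1),(0,1),(0,1),(0,1),(0,2),(0,1),(0,1),(0,1),(0,2),(0,1),(0,1),(2,2),(0,1),(3,2),(0,1),
    (2,1),(0,2),(1,2),(0,1),(0,1),(0,1),(0,1),(1,2),(0,1),(0,1),(0,2),(0,2),(0,2),(0,1),(0,1),
    (0,1),(2,1),(0,1),(0,2),(0,2),(0,2),(0,2),(0,2),(0,1),(0,1),(2,2),(2,1),(0,2),(1,1),(0,1),
    (0,2),(0,2),(0,1),(1,1),(2,2),(3,2),(0,2),(0,1),(0,2),(0,1),(0,2),(0,2),(1,2),(0,2),(0,1),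
    (1,2),(0,2),(0,2),(2,2),(1,2),(0,2),(1,1),(0,1),(1,1),(0,1),(2,2),(0,1),(0,2),(0,1),(1,1),
    (0,1),(0,2),(1,1),(3,1),(1,1),(0,2),(0,1),(0,2),(0,2),(0,1),(2,1),(0,2)],
   [(120,1),(0,1),(0,2),(0,1),(0,1),(0,2),(0,1),(0,2),(0,1),(0,1),(0,2),(0,2),(2,2),(1,1),(1,2),
    (0,2),(0,1),(0,2),(0,1),(0,1),(2,2),(0,2),(0,2),(0,2),(0,1),(0,2),(0,1),(0,2),(0,1),(0,1),
    (0,2),(1,2),(0,1),(0,1),(0,1),(0,2),(0,2),(0,2),(0,2),(2,2),(0,1),(0,1),(0,1),(0,2),(0,2),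
    (1,1),(1,1),(1,2),(1,1),(2,1),(1,2),(0,1),(0,1),(2,2),(0,1),(2,2),(0,1),(0,1),(0,1),(0,2),
    (0,2),(0,1),(0,2),(0,2),(1,1),(1,1),(0,2),(1,1),(0,1),(1,2),(0,2),(0,1),(4,1),(0,1),(2,1),
    (0,1),(1,1),(1,1),(1,2),(0,2),(0,1),(0,1),(0,2),(2,2),(0,1),(2,1),(0,1),(1,2),(0,2),(0,1)],
   [(120,2),(0,1),(1,1),(3,1),(1,2),(0,2),(3,1),(0,2),(0,1),(0,1),(0,2),(4,2),(1,2),(0,1),(0,2),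
    (1,1),(0,2),(0,2),(1,1),(0,2),(0,2),(3,2),(0,2),(2,2),(1,2),(0,1),(0,1),(0,2),(0,1),(0,2),
    (0,1),(1,2),(0,1),(2,1),(0,2),(1,2),(3,1),(1,2),(0,1),(1,1),(0,1),(1,1),(0,1),(0,1),(0,1),
    (1,2),(0,1),(1,2),(1,1),(1,2),(0,1),(0,1),(1,1),(0,1),(0,1),(0,1),(0,1),(0,2),(0,2),(0,2),
    (0,2),(0,1),(1,2),(1,2),(2,2),(0,1),(0,2),(0,1),(0,2),(2,1),(0,2),(1,1),(0,1),(0,1),(3,1),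
    (0,1),(1,2),(0,1),(0,2),(0,2),(0,2)],
   [(120,2),(0,1),(0,1),(1,2),(0,1),(3,2),(2,1),(0,2),(2,1),(1,2),(0,1),(2,1),(0,1),(0,1),(0,1),
    (0,2),(0,2),(0,2),(0,1),(0,2),(0,2),(0,1),(0,1),(0,1),(3,1),(0,1),(0,1),(0,2),(1,1),(1,1),
    (1,1),(0,2),(1,1),(0,1),(1,1),(0,1),(0,2),(0,2),(1,1),(2,1),(0,2),(0,1),(1,1),(0,1),(0,1),
    (3,2),(0,2),(0,1),(0,2),(0,1),(0,1),(0,2),(0,2),(1,2),(1,1),(0,1),(0,1),(0,2),(1,2),(0,2),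
    (0,2),(2,1),(0,2),(3,1),(0,2),(2,1),(0,1),(0,2),(2,1),(0,2),(2,2),(0,2),(0,2),(1,2),(0,1),
    (1,1),(1,2),(0,1),(4,2),(0,1),(0,2)]]

/-- Rows of a matrix. -/
def matPInv7 : List (List (ℕ × ℕ)) :=
  [[(120,2),(0,2),(0,2),(1,2),(0,1),(0,1),(0,2),(0,2),(0,2),(0,1),(0,2),(0,2),(0,1),(2,1),(0,2),
    (2,2),(0,2),(0,2),(0,1),(1,2),(0,1),(0,2),(0,1),(0,2),(0,1),(0,1),(0,1),(0,2),(2,1),(0,1),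
    (0,1),(0,1),(0,1),(0,1),(0,2),(1,2),(1,2),(0,1),(0,1),(0,1),(1,2),(0,2),(0,1),(2,1),(1,2),
    (2,2),(0,2),(0,1),(0,2),(1,2),(0,2),(2,2),(0,2),(0,1),(0,1),(0,2),(6,2),(0,1),(0,2),(0,2),
    (0,1),(0,1),(0,2),(2,2),(1,2),(1,1),(1,1),(0,2),(0,2),(0,1),(0,1),(0,1),(0,1),(1,1),(0,2),
    (0,1),(0,2),(0,2),(0,2),(0,1),(4,1),(0,2),(0,2),(0,1),(0,2),(0,2),(0,1),(0,1),(0,1),(1,1)],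
   [(122,2),(0,2),(1,1),(0,1),(1,2),(0,1),(0,2),(0,1),(0,2),(0,1),(1,1),(0,2),(0,2),(0,2),(0,1),
    (0,2),(1,1),(0,2),(0,1),(1,2),(1,1),(0,2),(1,1),(1,2),(1,2),(1,2),(0,1),(0,1),(0,2),(0,1),
    (0,2),(0,1),(0,1),(0,2),(2,1),(0,1),(1,2),(0,2),(1,1),(0,2),(0,2),(1,2),(0,1),(0,1),(0,2),
    (0,2),(1,2),(0,1),(0,2),(0,2),(0,1),(1,1),(0,2),(1,1),(0,1),(2,1),(0,2),(0,1),(2,2),(1,1),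
    (0,1),(0,2),(2,2),(1,2),(0,1),(0,1),(0,1),(0,2),(4,1),(3,2),(0,2),(0,2),(0,1),(1,1),(0,1),
    (0,1),(0,2),(1,2),(0,1),(0,2),(0,2),(0,2),(3,1),(0,1),(0,2),(0,2),(0,2)],
   [(121,2),(0,2),(0,1),(0,1),(0,2),(0,2),(0,1),(0,1),(0,1),(0,2),(0,1),(1,1),(2,2),(2,2),(1,1),
    (1,2),(0,1),(1,2),(1,2),(0,1),(0,1),(0,1),(1,2),(0,1),(1,1),(1,1),(0,1),(0,2),(1,2),(0,1),
    (1,2),(0,1),(2,2),(0,2),(0,1),(0,2),(0,2),(1,1),(1,1),(1,1),(0,2),(1,2),(0,1),(0,2),(1,1),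
    (2,2),(1,2),(1,2),(1,2),(0,2),(0,1),(1,2),(1,2),(1,2),(0,1),(1,1),(0,2),(0,2),(2,2),(1,2),
    (0,2),(0,2),(0,1),(0,2),(3,2),(0,2),(0,2),(0,1),(1,1),(0,2),(1,1),(2,2),(1,2),(0,1),(0,2),
    (0,1),(3,2),(1,2),(0,1),(1,2),(0,1)],
   [(125,1),(1,1),(0,1),(0,2),(0,1),(0,1),(0,2),(1,2),(1,2),(1,2),(0,1),(0,1),(0,1),(0,2),(0,2),
    (0,2),(0,1),(0,1),(0,1),(0,1),(0,2),(2,2),(0,2),(1,1),(0,1),(0,1),(1,2),(0,1),(1,2),(1,2),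
    (2,1),(0,2),(0,1),(1,1),(0,1),(0,2),(0,1),(0,2),(0,1),(0,1),(0,1),(0,1),(0,2),(0,1),(0,2),
    (1,2),(0,1),(0,2),(0,1),(0,1),(0,2),(0,2),(0,1),(0,2),(0,1),(1,1),(2,1),(1,2),(0,2),(0,1),
    (0,1),(0,1),(0,2),(0,1),(0,1),(0,1),(0,1),(2,1),(0,1),(0,1),(0,1),(0,2),(0,1),(1,1),(1,2),
    (0,2),(0,2),(0,2),(0,2),(1,1),(0,2),(1,1),(0,1),(0,1),(1,1),(1,1),(0,2),(0,1),(0,2),(0,2),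
    (0,2),(0,2),(0,2),(1,1),(0,2),(0,2)],
   [(0,2),(0,1),(0,2),(0,1),(0,1),(0,1),(0,1),(0,2),(0,2),(0,2),(2,2),(0,2),(0,1),(2,2),(0,2),
    (0,2),(0,1),(1,1),(0,2),(0,1),(1,2),(0,1),(3,1),(0,1),(0,2),(0,2),(0,2),(0,1),(0,2),(0,1),
    (3,1),(0,2),(0,1),(0,1),(1,2),(0,2),(0,1),(0,2),(0,2),(0,2),(0,2),(0,2),(1,2),(0,2),(0,2),
    (4,2),(0,2),(0,2),(0,2),(0,2),(0,1),(1,1),(0,2),(0,1),(1,2),(0,1),(0,2),(1,2),(5,1),(0,1),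
    (0,1),(0,2),(0,2),(0,1),(4,2),(0,1),(0,1),(1,2),(0,1),(1,2),(2,2),(0,1),(0,2),(2,1),(0,2),
    (0,2),(3,1),(0,1),(0,2),(0,2),(0,2)],
   [(0,2),(2,1),(0,1),(0,1),(0,1),(0,2),(2,1),(0,2),(2,1),(1,1),(0,2),(0,2),(0,2),(0,2),(0,1),
    (0,1),(0,1),(1,1),(0,1),(0,1),(0,1),(0,2),(1,1),(0,1),(1,1),(0,2),(2,2),(0,2),(0,1),(0,2),
    (1,1),(3,1),(0,1),(1,1),(0,2),(0,1),(0,1),(0,2),(0,2),(1,2),(0,2),(0,1),(5,1),(2,2),(0,1),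
    (0,2),(4,2),(0,1),(0,2),(0,1),(10,2),(1,1),(0,2),(2,2),(2,1),(0,1),(2,2),(0,2),(2,1),(1,2),
    (0,1),(0,1),(0,2),(0,1),(0,2),(2,1),(0,1),(0,2),(0,1)],
   [(0,2),(1,2),(0,1),(0,2),(0,1),(0,2),(0,2),(0,2),(0,1),(0,1),(1,1),(0,1),(0,1),(0,1),(1,1),
    (3,1),(1,2),(0,1),(0,2),(1,1),(0,1),(1,2),(0,2),(1,1),(0,1),(0,1),(1,2),(0,1),(2,1),(0,2),
    (0,1),(0,2),(0,2),(0,2),(0,1),(0,2),(2,1),(0,1),(0,2),(0,2),(0,1),(0,1),(2,1),(0,2),(0,1),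
    (1,2),(0,1),(1,2),(1,2),(0,1),(0,1),(0,1),(0,2),(0,2),(1,1),(0,1),(0,1),(1,1),(0,2),(0,2),
    (1,2),(0,1),(0,2),(2,1),(2,1),(1,2),(1,1),(1,1),(0,2),(0,2),(0,1),(0,1),(0,1),(0,2),(0,2),
    (1,1),(0,2),(0,2),(3,1),(1,1),(1,2),(0,1),(0,1),(0,1)],
   [(0,1),(0,1),(0,1),(0,1),(1,2),(1,2),(0,2),(1,2),(0,2),(0,2),(0,1),(2,2),(4,2),(0,1),(0,2),
    (0,1),(1,1),(0,2),(0,2),(1,2),(0,2),(0,2),(0,2),(1,1),(0,1),(0,2),(0,2),(1,2),(0,2),(0,1),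
    (0,2),(2,1),(0,1),(0,2),(0,1),(0,2),(0,1),(0,1),(0,1),(0,2),(0,1),(2,2),(0,1),(0,1),(1,1),
    (0,1),(1,2),(0,1),(0,2),(0,1),(0,1),(0,1),(0,2),(0,2),(0,1),(0,2),(0,2),(0,2),(0,1),(0,1),
    (2,2),(0,1),(3,2),(0,2),(0,2),(0,1),(0,1),(1,1),(0,1),(0,1),(0,2),(0,2),(0,2),(1,1),(0,2),
    (2,1),(1,1),(0,2),(0,1),(0,1),(0,1),(1,2),(2,1),(1,1),(0,2),(0,1),(0,2)]]

/-- Rows of a matrix. -/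
def matPInv8 : List (List (ℕ × ℕ)) :=
  [[(120,1),(0,2),(0,1),(0,2),(0,2),(0,1),(2,2),(1,2),(0,2),(0,1),(2,2),(0,2),(1,2),(0,2),(0,1),
    (1,2),(1,1),(2,2),(1,1),(1,2),(1,1),(0,2),(0,2),(0,2),(0,2),(0,2),(2,1),(1,2),(0,1),(1,2),
    (0,2),(4,2),(0,2),(1,2),(1,1),(0,1),(0,1),(1,1),(5,1),(5,1),(1,1),(0,1),(0,2),(0,2),(2,1),
    (1,2),(0,2),(1,1),(0,2),(0,1),(0,1),(0,2),(1,2),(0,1),(0,2),(0,1),(0,1),(0,1),(0,2),(1,1),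
    (1,1),(1,1),(0,2),(2,1),(0,2),(0,1),(0,2),(0,2),(1,2),(0,1),(2,2),(0,1),(0,2),(1,2),(0,2),
    (0,1),(0,2),(1,2)],
   [(120,2),(1,1),(0,1),(0,1),(1,2),(1,2),(1,2),(0,1),(0,1),(0,1),(0,2),(1,1),(0,1),(0,1),(0,1),
    (0,2),(0,2),(1,1),(0,2),(0,1),(1,1),(1,2),(2,2),(0,1),(0,1),(0,1),(0,1),(1,1),(0,1),(1,2),
    (0,2),(1,2),(1,1),(0,1),(0,1),(1,1),(0,2),(0,2),(1,2),(0,1),(0,2),(0,1),(0,1),(1,1),(0,2),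
    (0,2),(3,2),(0,1),(1,2),(0,1),(1,2),(0,1),(0,2),(1,2),(0,2),(0,2),(2,2),(3,1),(2,2),(0,1),
    (0,2),(0,2),(0,1),(0,2),(0,2),(0,2),(0,2),(2,2),(2,2),(0,2),(0,2),(0,2),(0,2),(0,2),(0,2),
    (5,2),(0,2),(0,2),(1,2),(1,1),(2,1),(0,2),(0,1),(0,2)],
   [(121,1),(1,1),(0,1),(0,1),(0,1),(0,2),(0,2),(1,2),(0,1),(0,1),(1,2),(0,1),(1,2),(0,1),(1,1),
    (0,1),(0,1),(1,1),(0,1),(0,2),(0,2),(0,2),(0,1),(1,2),(0,1),(0,1),(0,2),(2,1),(0,2),(0,1),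
    (0,2),(1,1),(0,2),(4,2),(0,1),(0,1),(0,1),(0,2),(0,1),(0,1),(4,2),(0,2),(1,2),(0,1),(0,1),
    (0,1),(1,2),(0,1),(0,1),(0,2),(1,2),(0,2),(0,1),(0,2),(2,1),(0,1),(0,1),(0,1),(0,2),(0,2),
    (0,2),(0,1),(0,2),(0,1),(1,1),(0,1),(0,1),(3,2),(0,2),(0,2),(0,2),(4,2),(0,1),(2,2),(1,1),
    (0,1),(0,1),(0,1),(0,2),(0,2),(1,1),(1,2),(0,1),(0,1),(0,2),(0,2),(0,1),(1,2),(0,1),(0,1)],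
   [(121,1),(1,1),(1,2),(0,2),(0,2),(0,1),(0,2),(0,1),(0,2),(0,2),(0,2),(0,2),(0,1),(0,1),(1,1),
    (0,1),(2,1),(0,1),(3,2),(1,2),(0,1),(3,1),(1,1),(1,1),(1,2),(0,2),(1,2),(1,2),(0,2),(2,1),
    (0,1),(0,2),(0,1),(0,2),(0,1),(0,1),(0,1),(2,2),(1,2),(0,1),(0,2),(0,1),(1,2),(1,1),(0,2),
    (1,1),(0,1),(0,1),(3,1),(0,1),(0,1),(0,1),(1,1),(1,2),(0,2),(1,1),(1,2),(1,1),(0,1),(0,2),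
    (0,2),(4,1),(0,2),(1,1),(0,2),(0,1),(0,1),(0,2),(0,2),(3,1),(0,2),(0,2),(0,1),(0,2),(0,2),
    (0,1),(1,2),(1,1),(0,2),(0,2),(0,1),(0,2),(0,2),(0,1)],
   [(120,2),(0,2),(0,1),(0,2),(0,1),(2,2),(0,2),(0,2),(0,2),(0,2),(0,2),(0,2),(1,1),(0,2),(0,1),
    (0,1),(0,1),(0,2),(0,2),(0,1),(0,2),(0,1),(0,1),(0,2),(0,1),(0,2),(0,1),(2,1),(1,2),(3,1),
    (3,1),(0,2),(0,1),(0,2),(0,1),(2,1),(2,1),(0,2),(0,1),(0,1),(2,2),(0,2),(0,2),(0,2),(0,2),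
    (0,2),(0,2),(1,2),(1,1),(0,1),(1,1),(1,2),(0,1),(2,1),(0,2),(1,1),(1,2),(0,2),(3,2),(0,2),
    (0,2),(2,1),(1,2),(1,1),(0,1),(0,1),(1,2),(0,1),(1,2),(0,1),(1,2),(0,1),(0,2),(1,1),(1,2),
    (3,2),(3,1),(0,2),(1,1),(2,1),(0,2)],
   [(121,2),(0,1),(0,2),(0,1),(0,2),(0,1),(0,1),(3,2),(2,1),(0,2),(1,2),(0,2),(0,2),(1,1),(0,2),
    (0,2),(0,1),(0,2),(2,1),(0,2),(1,1),(0,2),(1,2),(0,1),(0,2),(0,2),(1,2),(3,1),(0,2),(0,2),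
    (0,2),(0,1),(0,1),(3,1),(0,1),(0,2),(0,2),(0,1),(0,2),(2,1),(2,1),(3,2),(0,1),(2,2),(1,2),
    (0,1),(0,1),(0,2),(5,1),(1,2),(0,1),(0,1),(0,2),(1,2),(0,2),(1,2),(0,1),(2,1),(1,2),(0,1),
    (0,2),(0,2),(0,2),(0,1),(0,2),(0,1),(4,1),(2,1),(0,2),(0,2),(5,1),(0,1),(1,1),(1,2),(0,2)],
   [(1,1),(0,1),(0,1),(0,2),(0,1),(0,1),(1,1),(2,2),(0,1),(0,1),(0,2),(0,2),(0,2),(0,2),(0,2),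
    (0,2),(2,1),(0,1),(0,2),(0,2),(0,1),(1,1),(0,1),(1,1),(0,2),(0,1),(0,2),(1,2),(0,2),(0,1),
    (0,1),(1,1),(3,2),(0,1),(1,2),(0,1),(0,1),(1,1),(0,2),(0,1),(0,2),(1,2),(0,1),(0,1),(1,2),
    (0,2),(0,1),(0,2),(0,1),(0,1),(0,1),(0,2),(0,2),(1,2),(4,1),(0,2),(0,1),(2,1),(1,1),(0,2),
    (1,2),(0,1),(0,2),(0,2),(0,1),(0,1),(2,2),(1,1),(0,2),(0,1),(0,1),(1,1),(0,1),(0,2),(1,1),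
    (1,1),(2,2),(0,1),(0,1),(1,2),(0,1),(0,2),(1,1),(0,1)],
   [(0,2),(0,2),(0,1),(0,1),(0,2),(1,1),(0,2),(0,2),(0,2),(1,1),(0,1),(1,2),(0,2),(0,2),(1,2),
    (0,1),(0,2),(1,2),(0,1),(0,2),(1,1),(3,1),(0,2),(0,2),(0,1),(1,1),(0,1),(0,2),(0,1),(0,1),
    (0,2),(1,1),(0,2),(0,2),(1,2),(0,2),(1,2),(0,2),(0,2),(0,2),(0,1),(0,1),(0,2),(0,2),(0,2),
    (0,2),(0,1),(2,1),(1,2),(1,1),(0,1),(3,1),(0,1),(1,1),(0,1),(0,1),(0,1),(0,2),(0,1),(0,2),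
    (0,2),(0,1),(1,1),(0,1),(1,2),(1,2),(0,1),(0,1),(1,2),(0,2),(1,2),(1,1),(0,1),(1,1),(1,2),
    (1,1),(2,2),(0,2),(0,1),(0,2),(1,2),(1,2),(0,2),(2,1)]]

/-- Rows of a matrix. -/
def matPInv9 : List (List (ℕ × ℕ)) :=
  [[(0,2),(0,1),(0,2),(1,2),(3,2),(3,2),(1,2),(0,2),(0,1),(0,1),(0,2),(0,1),(1,1),(0,2),(0,1),
    (0,1),(0,2),(0,1),(2,1),(0,2),(0,1),(0,2),(2,2),(0,2),(0,2),(0,1),(1,1),(0,2),(0,2),(0,2),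
    (0,1),(2,2),(0,2),(0,1),(4,2),(3,2),(0,2),(0,1),(0,2),(0,1),(1,1),(0,2),(0,1),(4,1),(0,2),
    (1,1),(0,2),(0,1),(0,1),(1,1),(0,2),(0,1),(1,1),(0,2),(0,1),(0,2),(0,2),(0,1),(0,1),(2,1),
    (0,2),(1,1),(1,2),(0,1),(1,2),(1,2),(0,2),(0,1),(1,1),(0,1),(0,1),(1,2),(0,2),(1,1),(1,1),
    (0,2),(0,1),(0,1)],
   [(1,2),(0,2),(0,2),(0,2),(0,1),(0,1),(1,1),(2,2),(0,1),(0,1),(0,2),(1,1),(1,1),(1,2),(0,2),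
    (0,1),(3,1),(0,2),(3,1),(0,2),(0,1),(0,2),(0,1),(1,2),(0,2),(0,1),(0,1),(0,1),(0,1),(0,1),
    (0,2),(0,2),(0,2),(0,1),(0,2),(0,1),(0,2),(0,2),(0,1),(0,2),(1,1),(0,1),(2,1),(0,1),(0,1),
    (0,2),(2,2),(0,1),(1,1),(0,1),(1,2),(0,1),(0,2),(0,2),(0,1),(0,2),(0,1),(0,1),(3,2),(0,2),
    (1,1),(0,1),(0,2),(1,2),(1,1),(2,2),(0,2),(0,2),(0,1),(0,2),(0,2),(0,1),(0,2),(1,2),(0,2),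
    (1,1),(0,1),(0,2),(0,2),(1,2),(0,2),(0,1),(2,2),(1,1)],
   [(1,1),(1,2),(1,2),(0,2),(2,1),(2,2),(0,2),(0,2),(0,2),(0,1),(0,1),(4,1),(1,2),(1,1),(0,2),
    (3,1),(1,2),(0,2),(0,2),(0,2),(0,1),(0,2),(0,1),(0,1),(0,2),(0,2),(0,1),(0,2),(0,1),(1,2),
    (0,1),(1,1),(0,2),(0,1),(0,1),(0,1),(3,1),(0,2),(2,1),(0,2),(0,2),(0,2),(0,2),(0,1),(3,1),
    (1,1),(1,1),(0,1),(0,2),(0,2),(0,2),(1,1),(1,2),(1,2),(0,2),(0,2),(1,1),(0,2),(3,1),(3,2),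
    (0,2),(1,1),(2,1),(0,2),(4,1),(1,1),(1,1),(1,1),(1,1)],
   [(1,1),(1,1),(2,2),(1,2),(0,2),(2,2),(0,2),(1,1),(0,1),(0,2),(1,2),(1,2),(0,1),(0,1),(1,1),
    (0,2),(1,2),(0,1),(0,1),(0,1),(2,2),(1,1),(0,1),(0,2),(1,2),(0,1),(2,2),(3,1),(0,2),(0,1),
    (0,2),(0,2),(1,1),(0,1),(2,2),(2,1),(0,2),(0,2),(1,2),(0,1),(0,2),(2,2),(1,1),(1,2),(1,1),
    (0,2),(2,2),(0,2),(0,2),(0,2),(0,1),(0,2),(0,2),(0,1),(0,2),(0,2),(0,1),(0,2),(0,2),(0,1),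
    (1,1),(0,1),(0,2),(3,1),(0,1),(0,2),(0,1),(1,1),(0,1),(0,2),(0,2),(0,2),(0,2),(1,1),(0,2),
    (2,1),(0,1),(0,2)],
   [(0,2),(0,2),(0,1),(1,2),(0,2),(0,2),(0,1),(0,2),(0,1),(1,2),(1,2),(2,2),(0,2),(0,2),(2,1),
    (0,2),(0,2),(0,2),(1,2),(0,2),(0,2),(0,2),(1,2),(0,2),(1,2),(1,2),(1,2),(0,2),(1,1),(2,2),
    (0,2),(2,2),(0,1),(0,2),(0,1),(0,2),(0,2),(1,1),(1,2),(2,1),(0,2),(0,1),(1,1),(3,1),(0,1),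
    (0,2),(0,2),(0,1),(0,1),(1,2),(0,2),(0,2),(1,2),(1,1),(0,2),(0,1),(2,1),(0,1),(0,1),(0,2),
    (1,2),(0,2),(0,1),(2,1),(0,2),(0,2),(0,2),(0,1),(0,2),(1,1),(1,2),(1,1),(0,2),(0,2),(0,2),
    (0,1),(2,2),(0,1),(1,1),(0,1),(0,1)],
   [(1,1),(1,1),(0,1),(0,2),(0,1),(1,2),(1,1),(0,1),(1,1),(0,1),(1,2),(0,1),(2,2),(1,2),(0,2),
    (0,2),(0,1),(0,1),(0,2),(0,1),(0,1),(0,1),(1,2),(0,1),(0,2),(0,1),(0,2),(0,2),(1,1),(0,2),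
    (0,1),(0,1),(0,1),(1,2),(1,1),(5,1),(1,2),(4,1),(0,2),(0,1),(0,1),(0,2),(1,2),(0,1),(1,2),
    (0,2),(0,1),(1,2),(1,2),(0,2),(1,1),(0,1),(0,1),(0,1),(1,2),(0,1),(2,1),(0,1),(0,1),(0,2),
    (2,2),(0,2),(1,1),(0,2),(0,2),(0,1),(0,1),(0,2),(3,2),(0,1),(1,1),(0,2),(0,1),(0,2),(0,1),
    (0,1),(1,2),(0,2),(0,1),(0,1),(0,1)],
   [(120,1),(0,2),(0,2),(0,2),(0,1),(0,1),(1,1),(0,1),(0,1),(0,2),(0,1),(0,1),(0,1),(1,1),(1,2),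
    (0,2),(0,1),(0,2),(1,2),(1,2),(0,1),(0,2),(4,1),(0,2),(1,2),(1,1),(1,1),(0,1),(0,1),(0,2),
    (1,2),(1,2),(0,1),(1,2),(0,2),(0,2),(0,1),(0,2),(0,2),(2,1),(1,1),(0,1),(0,2),(0,2),(1,1),
    (0,1),(0,1),(1,1),(0,2),(0,1),(0,1),(0,2),(0,1),(0,1),(2,2),(1,2),(2,1),(0,2),(0,1),(4,2),
    (0,2),(0,1),(1,1),(1,1),(3,2),(0,1),(0,1),(0,1),(2,1),(0,1),(0,2),(0,1),(1,1),(0,2),(1,2),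
    (2,1),(0,1),(1,1),(2,2),(0,1),(0,1),(0,2),(0,1),(0,1)],
   [(120,1),(3,1),(2,2),(1,2),(2,1),(0,1),(0,1),(0,1),(0,1),(0,1),(1,2),(0,2),(0,1),(0,2),(0,2),
    (1,1),(2,2),(0,1),(0,1),(0,2),(0,1),(0,1),(0,2),(1,1),(0,2),(0,1),(0,2),(0,2),(0,1),(0,2),
    (0,2),(2,1),(0,1),(0,1),(0,1),(4,2),(0,2),(0,1),(0,1),(2,1),(0,1),(0,2),(0,2),(0,2),(0,2),
    (0,2),(0,1),(0,2),(1,2),(2,1),(0,2),(0,1),(2,1),(0,1),(0,1),(1,1),(0,2),(0,1),(1,1),(2,2),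
    (0,1),(0,1),(0,1),(1,2),(0,1),(0,2),(3,1),(0,2),(2,2),(1,2),(0,1),(0,1),(0,1),(1,2),(0,2),
    (0,2),(0,2),(0,2),(1,2),(1,1),(0,2),(0,2),(0,1),(0,1),(0,2),(0,2),(0,2)]]

/-- Rows of a matrix. -/
def matPInv10 : List (List (ℕ × ℕ)) :=
  [[(120,2),(1,2),(1,2),(0,1),(1,2),(0,2),(1,1),(0,1),(0,2),(0,1),(0,2),(0,1),(0,2),(0,1),(0,1),
    (0,2),(0,2),(1,2),(0,1),(0,2),(1,1),(0,1),(1,2),(0,1),(0,1),(1,1),(0,1),(2,1),(1,1),(0,2),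
    (0,1),(0,1),(0,2),(1,1),(2,1),(0,2),(0,2),(0,1),(1,1),(1,1),(1,1),(2,1),(0,1),(0,2),(0,2),
    (0,2),(1,1),(0,2),(0,1),(0,1),(0,2),(1,2),(1,1),(0,1),(0,1),(2,2),(1,2),(2,2),(0,2),(0,2),
    (0,1),(0,1),(0,2),(1,1),(1,2),(2,2),(0,2),(0,2),(0,2),(1,1),(0,2),(0,1),(0,1),(3,2),(0,1),
    (0,1),(2,1),(0,1),(1,2),(2,2),(0,1),(1,2),(3,2),(0,1)],
   [(120,2),(0,1),(0,1),(0,1),(2,2),(0,2),(2,2),(1,2),(2,1),(0,1),(1,1),(0,2),(0,1),(0,1),(0,1),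
    (0,1),(1,1),(0,1),(0,1),(2,2),(0,2),(0,2),(0,1),(1,1),(0,1),(0,2),(0,1),(1,2),(2,1),(1,2),
    (1,1),(0,2),(0,2),(0,2),(1,1),(1,2),(0,2),(0,1),(0,2),(0,1),(1,1),(0,2),(2,1),(0,2),(0,1),
    (1,1),(0,2),(0,2),(0,2),(0,2),(1,2),(0,2),(0,1),(0,2),(0,1),(0,2),(0,2),(0,1),(1,2),(0,1),
    (0,1),(1,2),(2,2),(1,2),(0,1),(0,2),(0,1),(1,1),(0,2),(1,2),(0,2),(0,2),(1,1),(1,1),(0,1),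
    (1,1),(1,2),(0,1),(0,1),(1,1),(0,2),(0,2),(1,1),(0,2),(1,2),(1,1),(0,1)],
   [(121,2),(0,2),(0,1),(0,1),(0,2),(0,1),(0,1),(0,1),(0,2),(0,1),(0,1),(0,1),(0,2),(0,2),(0,2),
    (0,2),(0,2),(0,2),(5,1),(0,1),(0,1),(0,2),(1,1),(0,1),(0,1),(0,2),(0,2),(0,2),(0,2),(0,2),
    (0,2),(0,1),(0,1),(0,2),(0,2),(0,2),(0,2),(0,1),(0,2),(0,1),(1,1),(0,1),(0,2),(2,1),(0,2),
    (0,2),(2,1),(0,1),(1,2),(0,2),(0,1),(0,2),(0,2),(0,2),(1,1),(0,1),(0,2),(0,1),(0,2),(0,1),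
    (0,1),(0,1),(0,2),(0,1),(0,2),(0,2),(0,2),(0,1),(0,1),(2,2),(0,2),(1,1),(0,1),(0,1),(0,2),
    (0,1),(0,2),(0,1),(4,1),(0,2),(0,1),(0,2),(3,2),(0,2),(1,1),(0,2),(1,1),(1,1),(0,1),(0,1),
    (0,1),(0,1),(0,2),(0,2),(0,1),(0,2),(0,1),(1,2),(0,2)],
   [(2,2),(1,2),(0,2),(0,2),(0,2),(0,2),(0,1),(0,1),(0,2),(0,2),(2,1),(0,1),(0,2),(1,1),(0,1),
    (1,1),(0,2),(0,1),(2,2),(0,1),(0,1),(0,1),(1,2),(0,2),(1,1),(1,1),(0,1),(0,2),(0,2),(1,2),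
    (1,1),(0,1),(0,1),(0,1),(1,2),(0,2),(0,1),(1,2),(0,1),(0,1),(0,2),(1,2),(0,1),(0,1),(0,1),
    (0,2),(0,2),(0,1),(0,1),(2,2),(0,2),(0,1),(0,1),(2,1),(0,1),(0,1),(0,2),(0,2),(2,2),(1,1),
    (1,2),(0,1),(1,1),(1,2),(1,2),(1,2),(1,1),(0,1),(1,2),(0,2),(0,2),(1,2),(0,1),(0,1),(0,1),
    (0,2),(2,2),(0,1),(2,1),(1,1),(2,2)],
   [(0,2),(1,1),(0,2),(1,1),(2,2),(2,2),(0,1),(0,1),(0,1),(0,2),(2,2),(0,1),(0,1),(0,2),(0,1),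
    (0,1),(2,1),(0,1),(1,1),(0,1),(0,2),(1,2),(0,1),(0,1),(2,2),(1,2),(0,2),(0,2),(1,1),(1,1),
    (0,1),(0,2),(1,2),(0,2),(0,2),(0,2),(0,2),(1,2),(0,1),(0,2),(0,2),(1,1),(0,1),(0,1),(2,1),
    (1,2),(1,2),(0,1),(1,2),(1,1),(0,2),(0,2),(0,1),(0,2),(0,2),(0,2),(0,1),(3,1),(0,2),(0,1),
    (1,1),(1,1),(2,1),(0,2),(0,1),(0,2),(1,2),(0,2),(0,1),(4,1),(0,2),(2,1),(1,1),(0,2),(0,1),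
    (1,1),(0,1),(0,1)],
   [(1,2),(1,2),(0,2),(0,2),(0,1),(0,1),(0,1),(1,1),(1,1),(2,1),(2,2),(0,1),(0,1),(0,1),(1,1),
    (0,1),(0,2),(0,1),(0,2),(0,2),(3,2),(2,1),(0,1),(2,1),(1,1),(0,1),(0,2),(0,2),(3,2),(0,1),
    (0,2),(0,1),(0,1),(0,2),(0,2),(1,1),(2,1),(0,1),(0,1),(0,1),(0,1),(1,1),(0,2),(2,1),(1,1),
    (1,1),(0,2),(0,1),(0,1),(0,1),(1,2),(0,2),(3,2),(0,1),(0,1),(0,2),(1,2),(0,1),(0,1),(0,1),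
    (1,2),(1,2),(0,2),(0,1),(0,2),(0,1),(0,1),(1,2),(1,2),(0,2),(0,1),(0,2),(0,1),(0,1),(0,2),
    (1,1),(1,2),(3,1)],
   [(120,1),(0,1),(2,1),(1,2),(1,1),(0,2),(0,2),(1,2),(1,2),(0,1),(1,1),(1,1),(0,1),(3,1),(0,2),
    (1,2),(1,1),(1,2),(0,1),(0,1),(0,1),(1,2),(0,1),(1,2),(0,2),(0,2),(0,2),(1,2),(0,2),(0,1),
    (0,1),(0,2),(1,2),(0,1),(0,1),(0,1),(0,1),(2,2),(0,1),(0,2),(0,1),(0,1),(0,2),(0,2),(1,1),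
    (1,2),(0,1),(0,2),(0,2),(2,2),(0,1),(0,1),(0,1),(1,2),(2,1),(0,1),(0,2),(0,2),(0,1),(2,2),
    (0,2),(1,1),(0,2),(1,1),(0,1),(0,1),(2,2),(0,2),(0,1),(0,1),(0,1),(2,2),(0,2),(0,2),(1,1),
    (0,1),(3,1),(0,2),(0,2),(0,1),(1,1),(0,1),(0,1),(0,1),(0,1),(1,1),(0,2)],
   [(121,1),(1,1),(0,1),(0,2),(1,1),(0,1),(0,2),(0,1),(2,1),(3,1),(1,1),(0,2),(0,2),(0,1),(0,1),
    (0,2),(0,2),(0,1),(3,2),(0,2),(2,2),(0,1),(0,2),(4,2),(1,2),(0,2),(1,2),(1,1),(1,1),(0,2),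
    (1,2),(2,1),(0,2),(3,2),(1,1),(1,1),(1,2),(1,1),(0,2),(0,1),(0,1),(0,2),(1,2),(0,2),(3,1),
    (0,2),(2,2),(0,2),(2,1),(1,2),(4,2),(1,1),(0,1),(0,1),(3,2),(2,1),(1,2),(1,2),(0,2),(0,2),
    (0,1),(0,2),(1,2),(0,2),(0,1),(0,1),(0,2),(0,2),(0,1),(0,1),(0,2),(0,2)]]

/-- Rows of a matrix. -/
def matPInv11 : List (List (ℕ × ℕ)) :=
  [[(120,1),(0,2),(0,1),(2,2),(1,1),(0,1),(0,1),(0,2),(0,1),(0,1),(0,1),(0,2),(2,1),(0,2),(0,2),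
    (2,1),(0,2),(0,1),(0,1),(0,2),(3,1),(0,1),(0,1),(2,1),(1,2),(2,2),(0,2),(1,1),(2,2),(0,2),
    (0,2),(0,2),(1,2),(1,2),(1,1),(1,2),(1,2),(0,2),(0,2),(1,2),(2,1),(1,2),(0,1),(0,1),(0,1),
    (1,2),(0,2),(1,2),(1,2),(2,1),(0,1),(1,2),(0,2),(0,2),(0,1),(0,2),(0,1),(0,2),(0,2),(0,1),
    (0,2),(0,1),(1,1),(0,2),(0,2),(0,2),(0,2),(0,1),(0,1),(0,2),(2,2),(2,1),(0,1),(0,1),(2,1),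
    (1,1),(0,2),(0,1),(0,1),(0,1),(0,2),(0,1),(0,1),(0,1),(0,1),(0,2),(0,2)],
   [(120,1),(0,1),(1,1),(0,2),(0,2),(2,2),(0,2),(1,2),(0,1),(1,1),(0,1),(0,1),(0,2),(0,1),(0,2),
    (1,1),(0,1),(2,1),(0,1),(1,2),(0,2),(0,1),(0,2),(2,2),(0,1),(1,2),(0,1),(0,1),(1,1),(0,1),
    (0,1),(0,1),(0,1),(0,2),(0,2),(0,1),(0,2),(0,1),(0,1),(3,1),(0,2),(0,2),(1,1),(0,2),(0,2),
    (0,1),(0,1),(0,2),(1,1),(1,1),(1,2),(0,2),(1,1),(1,1),(0,2),(1,2),(5,2),(0,1),(1,2),(1,1),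
    (1,2),(0,1),(0,2),(0,2),(0,1),(0,1),(0,1),(1,2),(0,1),(0,2),(0,1),(0,2),(0,1),(1,1),(0,1),
    (1,2),(0,2),(1,2),(0,2),(0,2),(0,1),(0,2),(0,2),(1,2),(1,2),(0,1),(1,1),(0,1),(0,2),(0,2)],
   [(122,2),(0,2),(0,1),(0,1),(0,1),(0,2),(1,2),(0,1),(0,1),(0,2),(1,2),(0,1),(0,2),(1,1),(2,2),
    (0,1),(0,2),(3,1),(0,1),(0,2),(0,2),(0,2),(3,1),(0,2),(0,2),(0,1),(1,1),(0,1),(0,1),(0,1),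
    (0,1),(0,2),(0,2),(1,1),(1,1),(0,2),(1,2),(0,2),(0,2),(1,2),(0,2),(1,2),(0,2),(0,2),(1,1),
    (1,1),(1,2),(0,1),(0,2),(2,1),(0,2),(0,2),(1,2),(0,1),(0,1),(4,1),(1,1),(2,2),(0,2),(0,2),
    (0,2),(0,2),(0,2),(0,1),(1,1),(1,1),(0,2),(1,1),(0,2),(1,2),(0,2),(0,1),(2,2),(0,1),(0,2),
    (0,2),(0,1),(0,1),(0,2),(0,2),(0,2),(1,2),(0,2),(0,1),(0,2),(0,1),(0,1)],
   [(120,1),(0,2),(0,2),(0,2),(1,1),(0,1),(3,1),(0,1),(2,2),(0,1),(0,2),(0,2),(0,1),(0,1),(0,2),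
    (0,2),(0,2),(0,1),(0,2),(0,2),(0,2),(1,1),(0,1),(0,2),(0,1),(1,2),(4,1),(0,2),(1,2),(2,1),
    (1,1),(0,1),(1,2),(0,2),(0,2),(2,2),(1,1),(1,2),(0,2),(1,1),(0,1),(0,1),(0,2),(0,1),(0,1),
    (1,1),(1,1),(0,2),(0,2),(2,2),(0,1),(2,1),(0,1),(0,2),(0,1),(1,2),(0,2),(2,1),(0,1),(0,1),
    (0,1),(1,1),(0,1),(0,1),(0,2),(1,2),(0,1),(0,1),(2,1),(0,2),(0,1),(0,2),(1,1),(0,1),(0,2),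
    (1,1),(0,2),(0,2),(0,2),(0,2),(0,1),(0,1),(0,2),(0,2),(0,1),(3,2),(1,1)],
   [(0,2),(0,1),(2,1),(0,2),(0,2),(1,2),(1,2),(1,1),(0,1),(0,1),(2,2),(1,1),(0,2),(0,2),(0,1),
    (0,2),(1,2),(2,2),(0,2),(0,2),(2,1),(0,1),(0,2),(0,2),(0,1),(1,1),(0,1),(0,1),(1,1),(1,1),
    (0,1),(0,2),(0,1),(0,1),(0,2),(2,1),(1,2),(0,1),(1,1),(0,2),(1,2),(0,1),(1,1),(0,1),(0,2),
    (3,1),(2,1),(2,1),(0,1),(0,2),(1,1),(0,1),(0,2),(0,1),(0,1),(0,2),(3,1),(0,2),(0,1),(0,2),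
    (2,2),(1,1),(0,2),(1,1),(0,2),(1,2),(0,1),(0,1),(0,2),(0,1),(0,1),(4,1),(1,2),(1,1),(0,2)],
   [(1,2),(0,1),(1,1),(1,1),(0,2),(1,2),(0,1),(0,2),(2,2),(0,1),(2,2),(0,1),(0,2),(2,2),(0,2),
    (1,1),(3,1),(0,2),(1,1),(0,2),(0,1),(0,1),(1,1),(0,2),(2,2),(0,1),(0,2),(0,2),(1,2),(0,1),
    (2,1),(0,2),(4,2),(0,2),(0,2),(0,2),(0,2),(0,2),(3,2),(0,2),(0,1),(2,1),(1,1),(0,1),(2,1),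
    (0,1),(0,2),(0,2),(0,1),(0,2),(0,1),(1,2),(1,2),(0,1),(1,2),(0,2),(1,1),(0,1),(3,1),(0,2),
    (0,1),(0,1),(0,1),(1,2),(0,1),(1,2),(0,2),(0,2),(0,2),(0,2),(1,2),(0,2),(1,2),(0,2),(0,1)],
   [(0,1),(0,1),(1,1),(2,1),(0,2),(0,1),(0,1),(0,2),(2,2),(1,1),(0,2),(0,1),(0,1),(0,1),(0,2),
    (1,2),(0,2),(0,1),(0,2),(0,1),(0,1),(2,2),(2,1),(1,2),(0,1),(2,1),(0,1),(0,2),(1,2),(0,2),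
    (1,1),(2,2),(2,1),(0,1),(1,1),(1,2),(0,1),(0,2),(1,1),(0,1),(0,2),(1,2),(1,1),(0,2),(0,1),
    (0,2),(0,1),(3,2),(0,2),(0,2),(0,1),(0,1),(0,1),(0,1),(1,1),(1,1),(0,2),(0,2),(1,2),(0,1),
    (1,2),(1,1),(0,2),(1,1),(0,1),(0,1),(0,1),(1,2),(1,2),(0,2),(0,1),(0,1),(0,2),(0,1),(0,1),
    (0,1),(0,1),(0,2),(1,2),(0,1),(1,2)],
   [(0,1),(0,2),(0,2),(0,1),(1,2),(1,2),(0,1),(0,1),(0,1),(1,2),(1,2),(1,1),(1,1),(0,2),(0,2),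
    (0,2),(0,2),(7,2),(0,2),(1,1),(1,2),(0,2),(0,1),(1,2),(0,2),(0,1),(1,2),(0,2),(0,1),(0,1),
    (0,2),(1,2),(1,2),(0,1),(0,2),(0,2),(0,2),(0,2),(2,2),(2,1),(0,1),(0,2),(1,2),(5,2),(0,1),
    (0,1),(0,2),(1,1),(0,2),(0,1),(1,2),(0,1),(0,2),(1,2),(0,2),(1,1),(1,2),(0,1),(2,1),(0,1),
    (0,1),(0,2),(1,2),(0,1),(1,2),(0,2),(0,1),(0,2),(0,1),(1,1),(3,2),(1,1),(0,1),(0,1),(2,1)]]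

/-- Rows of a matrix. -/
def matPInv12 : List (List (ℕ × ℕ)) :=
  [[(0,1),(1,1),(0,2),(0,1),(1,1),(1,2),(0,2),(0,1),(0,2),(1,1),(0,2),(0,2),(1,1),(0,1),(1,2),
    (0,2),(0,1),(0,1),(0,1),(0,2),(0,2),(0,1),(1,1),(0,2),(0,1),(2,2),(1,2),(0,2),(0,1),(1,2),
    (0,2),(0,1),(0,2),(2,1),(0,1),(0,2),(0,1),(3,2),(0,2),(1,2),(1,1),(0,2),(0,1),(0,2),(1,1),
    (0,1),(1,2),(0,1),(0,2),(0,1),(1,1),(0,1),(1,2),(2,1),(4,2),(2,1),(0,1),(0,2),(0,1),(0,1),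
    (0,1),(0,2),(0,2),(0,1),(1,1),(0,2),(0,2),(0,2),(3,2),(0,1),(0,1),(1,2),(0,2),(1,1),(0,1),
    (0,2),(0,1),(0,2),(1,1),(2,1),(0,1)],
   [(0,1),(0,1),(1,2),(0,1),(0,2),(0,2),(0,1),(2,2),(1,2),(0,1),(0,1),(0,2),(0,1),(0,2),(0,1),
    (1,1),(0,1),(0,2),(0,2),(0,2),(1,2),(0,2),(1,1),(0,2),(0,2),(4,1),(0,2),(2,2),(1,1),(0,2),
    (0,1),(0,2),(0,2),(0,1),(0,2),(0,2),(0,1),(0,2),(0,1),(1,2),(1,1),(0,2),(0,2),(0,1),(6,2),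
    (0,1),(0,2),(2,1),(0,1),(0,2),(2,2),(1,2),(1,1),(2,1),(0,1),(0,2),(0,2),(0,2),(1,1),(1,1),
    (1,1),(0,2),(1,2),(0,2),(0,2),(2,1),(0,2),(4,2),(2,2),(0,1),(0,2),(0,2),(0,1),(0,2),(0,1)],
   [(2,2),(1,2),(0,2),(0,1),(0,1),(0,1),(0,1),(0,2),(2,2),(1,2),(0,2),(0,2),(0,2),(0,1),(0,2),
    (0,1),(3,1),(2,2),(2,2),(0,1),(0,2),(1,2),(0,1),(4,1),(1,2),(0,1),(0,2),(0,2),(0,2),(1,2),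
    (0,1),(0,1),(0,2),(1,2),(0,2),(0,1),(1,1),(0,2),(0,2),(0,2),(2,1),(3,2),(2,1),(0,1),(0,2),
    (0,2),(0,1),(0,1),(0,2),(0,1),(0,1),(3,1),(3,1),(0,2),(0,2),(0,2),(0,1),(1,1),(0,1),(0,2),
    (0,2),(0,2),(0,2),(0,2),(0,2),(1,2),(1,1),(0,1),(0,2),(0,1),(0,1),(1,2),(1,2),(0,2),(0,2),
    (0,1),(0,1),(0,1)],
   [(0,1),(0,1),(0,2),(0,2),(0,1),(0,2),(1,2),(0,1),(0,2),(1,1),(0,1),(0,1),(0,1),(1,2),(0,1),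
    (0,1),(3,2),(0,2),(0,2),(0,1),(1,2),(3,2),(0,1),(1,2),(0,2),(1,2),(0,1),(0,1),(0,2),(2,2),
    (0,2),(0,2),(2,2),(0,1),(0,1),(2,2),(0,2),(2,1),(0,1),(0,2),(0,1),(0,1),(1,1),(0,2),(1,2),
    (1,1),(0,2),(0,2),(1,2),(0,2),(1,1),(1,1),(0,1),(0,2),(0,2),(1,1),(1,1),(0,2),(0,1),(1,2),
    (0,1),(0,2),(0,2),(1,2),(1,2),(0,1),(0,1),(0,2),(2,2),(0,1),(0,1),(2,2),(3,1),(0,1),(2,1),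
    (0,2),(0,1),(0,1)],
   [(121,2),(0,1),(0,2),(2,1),(0,1),(0,1),(0,1),(1,2),(2,1),(0,1),(1,2),(2,2),(0,1),(0,1),(3,2),
    (0,2),(0,1),(0,2),(0,2),(1,2),(0,1),(0,2),(0,2),(0,1),(0,1),(0,1),(1,2),(0,1),(1,2),(0,1),
    (1,1),(0,2),(0,2),(2,1),(0,2),(0,2),(0,2),(0,2),(1,1),(1,2),(2,2),(0,2),(0,1),(0,1),(0,1),
    (0,1),(1,1),(0,1),(0,1),(0,1),(1,1),(1,2),(4,2),(1,1),(0,1),(1,2),(0,2),(0,1),(0,1),(0,2),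
    (0,1),(0,2),(0,1),(0,2),(3,2),(1,2),(0,2),(0,1),(1,1),(0,1),(2,1),(0,2),(0,1),(0,2),(0,1),
    (0,1),(0,1),(0,1),(0,2),(0,2),(0,2),(2,2),(0,2),(0,2),(0,1),(1,1),(0,2)],
   [(0,1),(1,2),(0,1),(0,1),(0,2),(0,2),(0,2),(0,1),(0,2),(2,2),(0,1),(1,1),(0,1),(0,2),(0,1),
    (1,2),(0,1),(0,1),(0,2),(0,1),(1,2),(0,2),(1,2),(1,1),(1,2),(0,2),(0,1),(0,1),(0,2),(0,2),
    (0,2),(0,1),(0,1),(0,1),(0,1),(0,2),(0,2),(0,2),(0,1),(0,2),(1,1),(0,2),(2,1),(0,2),(2,1),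
    (0,2),(3,1),(1,2),(0,2),(1,2),(0,1),(0,1),(2,1),(0,1),(0,2),(0,1),(0,1),(1,1),(0,2),(0,2),
    (0,2),(0,2),(0,2),(0,2),(0,1),(0,1),(0,1),(0,2),(0,1),(0,1),(0,2),(1,2),(0,2),(0,2),(0,2),
    (0,1),(0,2),(0,2),(0,1),(0,1),(1,1),(0,2),(1,2),(0,1),(0,1),(0,2),(0,1),(0,2),(2,2),(0,1)],
   [(0,1),(0,2),(1,1),(1,1),(0,2),(0,1),(0,2),(0,1),(0,1),(0,2),(1,2),(3,2),(5,2),(2,1),(1,2),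
    (2,1),(1,2),(0,2),(0,1),(0,2),(0,2),(1,2),(0,1),(0,2),(0,2),(1,1),(1,1),(0,1),(0,2),(0,1),
    (0,1),(1,2),(0,2),(0,1),(0,2),(1,1),(2,1),(0,2),(0,2),(1,1),(0,2),(2,2),(0,2),(0,1),(2,1),
    (0,2),(0,2),(0,1),(0,2),(0,1),(0,1),(0,1),(0,1),(0,1),(0,2),(0,1),(0,2),(1,2),(0,2),(0,2),
    (0,1),(0,1),(0,1),(3,2),(0,2),(0,1),(0,2),(0,2),(0,1),(0,2),(0,1),(0,2),(0,2),(2,1),(0,2),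
    (0,1),(0,1),(0,2),(1,2),(1,1),(0,1)],
   [(1,2),(2,1),(1,1),(4,2),(0,1),(0,1),(0,1),(0,2),(0,2),(0,2),(0,1),(0,2),(1,2),(1,2),(2,2),
    (0,2),(0,1),(0,2),(4,1),(0,2),(1,1),(0,1),(1,1),(0,1),(1,2),(0,2),(0,1),(0,1),(1,1),(2,2),
    (0,2),(0,2),(1,1),(0,1),(0,2),(0,1),(0,2),(0,1),(0,2),(0,1),(1,2),(0,1),(0,2),(1,2),(0,1),
    (1,1),(0,1),(2,2),(1,2),(0,1),(0,2),(0,2),(0,1),(0,2),(0,1),(0,1),(1,1),(0,2),(0,2),(0,2),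
    (0,2),(1,1),(0,1),(0,2),(3,1),(2,2),(0,2),(3,1),(0,2),(1,2),(1,1),(0,1),(0,1),(0,2),(1,2),
    (0,2),(0,1),(0,2)]]

/-- Rows of a matrix. -/
def matPInv13 : List (List (ℕ × ℕ)) :=
  [[(0,2),(0,2),(0,1),(2,1),(0,1),(0,2),(0,2),(0,1),(0,2),(0,1),(0,1),(0,2),(0,1),(1,2),(0,1),
    (1,1),(0,1),(1,1),(0,1),(0,2),(1,1),(2,1),(0,1),(0,1),(0,2),(1,2),(0,2),(0,2),(0,2),(0,2),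
    (3,1),(0,2),(0,1),(0,2),(2,1),(3,1),(0,2),(0,1),(0,2),(0,2),(0,1),(0,2),(0,1),(0,1),(0,1),
    (1,2),(1,2),(0,2),(0,2),(1,1),(0,1),(0,2),(0,1),(0,1),(1,1),(0,1),(0,1),(2,2),(0,1),(0,2),
    (1,2),(0,2),(1,2),(0,1),(2,2),(0,2),(0,2),(1,1),(0,2),(0,1),(0,2),(2,1),(1,2),(2,2),(0,2),
    (1,1),(0,2),(0,1),(0,2),(0,1),(0,2),(2,1),(0,1),(0,1)],
   [(120,1),(0,2),(2,1),(1,1),(0,2),(0,1),(0,2),(0,1),(0,2),(3,1),(0,1),(0,2),(0,1),(1,2),(0,2),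
    (1,1),(0,1),(1,2),(0,1),(1,1),(0,1),(0,2),(0,1),(2,1),(0,2),(2,1),(1,1),(0,2),(0,2),(0,2),
    (3,2),(0,2),(0,1),(0,1),(3,1),(1,2),(1,2),(1,1),(0,1),(1,1),(4,2),(2,2),(0,1),(1,1),(5,2),
    (0,1),(0,1),(0,1),(0,2),(0,2),(0,1),(1,2),(0,1),(0,1),(0,1),(0,1),(0,2),(0,2),(1,2),(1,1),
    (0,2),(0,2),(0,2),(1,2),(2,2),(0,2),(0,2),(0,2),(2,1),(0,2),(0,2),(0,2),(1,1),(2,2),(0,2),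
    (2,1),(0,2),(0,1)],
   [(120,2),(0,1),(0,1),(0,1),(0,1),(3,1),(1,2),(2,1),(0,1),(0,1),(0,2),(1,1),(1,2),(0,2),(0,1),
    (0,2),(1,2),(1,2),(1,1),(0,1),(0,2),(2,1),(0,2),(0,2),(0,2),(2,2),(1,2),(0,2),(0,2),(0,1),
    (0,2),(0,2),(0,1),(0,1),(0,2),(0,2),(1,2),(1,1),(0,1),(1,2),(0,1),(2,1),(1,1),(4,1),(2,1),
    (0,1),(0,2),(0,1),(1,2),(1,1),(1,1),(2,1),(0,1),(0,1),(0,1),(0,1),(0,1),(0,2),(0,2),(0,1),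
    (0,1),(0,1),(3,2),(0,1),(0,2),(0,1),(1,2),(0,1),(0,1),(0,1),(0,2),(0,2),(3,1),(0,2),(0,2),
    (0,2),(0,2),(0,2),(0,2),(0,1),(0,2),(0,2),(1,1),(2,2)],
   [(120,1),(0,1),(0,1),(1,2),(0,2),(0,2),(0,1),(1,1),(0,1),(1,1),(2,2),(0,2),(0,1),(0,2),(0,1),
    (0,2),(0,1),(0,1),(0,1),(1,2),(0,2),(0,1),(0,2),(1,2),(0,2),(0,2),(1,2),(0,2),(1,2),(0,1),
    (0,2),(1,1),(0,2),(0,2),(0,1),(2,2),(0,1),(0,2),(0,2),(1,2),(0,1),(0,1),(0,2),(0,1),(2,2),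
    (0,2),(0,1),(3,1),(1,2),(0,1),(0,2),(0,1),(0,2),(3,1),(0,1),(1,2),(0,1),(1,2),(0,2),(0,1),
    (0,1),(0,2),(0,1),(1,2),(0,2),(0,1),(0,2),(0,1),(1,1),(0,2),(0,2),(1,1),(1,1),(0,2),(0,2),
    (0,1),(0,1),(0,2),(0,1),(0,1),(0,2),(4,1),(1,1),(0,2),(1,2),(0,1),(0,1),(0,1),(0,2),(0,2),
    (0,2),(0,1),(0,2)],
   [(120,1),(0,2),(0,1),(0,2),(0,1),(0,1),(1,1),(0,2),(1,2),(0,1),(1,1),(0,1),(0,1),(0,2),(1,2),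
    (0,1),(0,1),(0,1),(0,1),(1,2),(0,1),(0,2),(0,2),(1,2),(0,1),(0,2),(2,2),(0,2),(3,2),(1,1),
    (0,2),(2,2),(0,1),(2,2),(0,1),(1,2),(0,1),(1,2),(1,1),(1,1),(1,1),(1,1),(1,1),(0,2),(0,1),
    (0,1),(0,2),(0,1),(0,2),(1,2),(0,2),(2,1),(0,2),(1,1),(0,2),(1,1),(0,1),(0,1),(0,2),(2,1),
    (1,2),(0,2),(0,1),(1,2),(0,2),(0,1),(0,1),(1,2),(0,1),(0,1),(0,2),(0,1),(2,1),(1,1),(0,2),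
    (0,1),(0,2),(0,1),(0,2),(0,2),(0,1),(0,2),(1,2),(0,2),(0,1),(0,1),(0,1),(0,1),(0,2),(1,1)],
   [(120,2),(0,2),(0,2),(0,2),(2,1),(0,1),(0,1),(1,1),(0,1),(1,2),(2,1),(0,2),(1,2),(0,1),(1,1),
    (0,1),(0,1),(1,2),(1,1),(0,2),(0,1),(1,1),(1,2),(1,1),(0,1),(0,2),(0,1),(1,1),(4,2),(0,1),
    (1,1),(1,2),(0,2),(0,1),(0,1),(1,2),(0,1),(0,2),(0,1),(1,2),(2,2),(3,1),(0,1),(0,1),(1,1),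
    (0,1),(0,2),(0,2),(1,1),(0,2),(1,2),(0,2),(2,1),(0,2),(4,2),(0,2),(1,1),(2,1),(0,1),(2,2),
    (0,1),(0,1),(0,1),(0,2),(0,2),(0,2),(0,1),(0,2),(1,1),(1,2),(1,1),(0,1),(0,1),(0,2),(0,1),
    (0,2),(5,2),(0,2)],
   [(120,2),(1,1),(0,1),(0,2),(0,1),(0,1),(1,2),(0,2),(0,2),(0,1),(1,1),(0,1),(1,1),(1,2),(0,2),
    (0,1),(1,2),(0,2),(0,1),(1,1),(1,1),(0,2),(1,1),(0,2),(0,1),(0,2),(2,2),(1,2),(0,1),(1,2),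
    (0,2),(1,1),(0,2),(1,1),(0,1),(0,2),(0,2),(0,2),(0,2),(4,1),(1,2),(0,2),(1,1),(2,2),(0,1),
    (1,1),(1,2),(0,2),(0,1),(0,1),(0,2),(1,2),(0,2),(1,2),(0,2),(0,1),(0,1),(0,1),(0,1),(0,1),
    (0,1),(0,2),(0,1),(0,1),(0,1),(0,1),(2,2),(1,2),(0,1),(0,1),(1,2),(0,2),(0,2),(0,1),(0,2),
    (1,1),(0,1),(0,2),(0,1),(3,2),(3,1),(1,1),(0,1),(0,1),(0,2),(0,2),(2,2)],
   [(2,2),(0,1),(0,1),(1,1),(0,1),(1,1),(0,1),(0,2),(4,2),(0,1),(0,2),(0,2),(1,1),(0,1),(0,2),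
    (0,2),(0,2),(0,1),(0,1),(0,1),(0,1),(5,1),(2,2),(0,2),(3,2),(0,2),(0,1),(1,1),(0,2),(0,1),
    (0,1),(0,2),(1,2),(1,1),(0,1),(0,2),(0,1),(1,1),(0,2),(2,1),(0,1),(0,2),(1,1),(0,1),(2,2),
    (0,1),(1,2),(0,2),(2,1),(0,2),(1,1),(0,2),(0,2),(0,2),(0,1),(6,2),(0,1),(0,2),(0,2),(0,2),
    (0,1),(0,2),(1,2),(1,2),(1,1),(0,2),(0,1),(0,2),(0,1),(1,2),(0,1),(0,1),(0,2),(0,2),(0,1),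
    (0,2),(0,1),(0,2)]]

/-- Rows of a matrix. -/
def matPInv14 : List (List (ℕ × ℕ)) :=
  [[(0,1),(0,2),(0,1),(0,1),(0,2),(2,1),(0,2),(1,1),(0,1),(0,1),(0,2),(0,1),(1,2),(0,1),(0,1),
    (0,2),(1,1),(0,1),(0,1),(0,1),(1,2),(0,2),(0,1),(2,2),(0,2),(1,2),(0,1),(0,2),(0,2),(0,2),
    (1,2),(4,2),(0,1),(0,2),(0,1),(0,2),(0,2),(0,2),(1,1),(1,2),(0,2),(1,2),(0,1),(2,2),(0,2),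
    (1,2),(0,2),(0,1),(0,1),(0,2),(0,1),(1,2),(0,1),(0,2),(0,2),(1,1),(0,1),(0,1),(1,1),(0,1),
    (0,1),(0,1),(2,1),(1,1),(1,1),(0,1),(1,2),(1,2),(0,1),(1,1),(0,1),(1,2),(0,2),(0,1),(0,1),
    (0,2),(0,1),(0,2),(0,2),(1,2),(0,1),(0,1),(0,1),(0,2),(0,1),(0,2),(1,2)],
   [(120,1),(0,1),(0,1),(4,1),(0,2),(0,1),(0,2),(0,1),(0,2),(2,2),(0,2),(0,2),(0,2),(1,2),(0,1),
    (0,1),(1,2),(1,2),(1,1),(0,2),(0,1),(0,2),(2,1),(0,1),(1,2),(0,1),(0,2),(0,1),(1,1),(0,1),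
    (1,1),(2,2),(0,1),(0,2),(1,1),(0,1),(0,1),(1,1),(0,2),(2,2),(1,1),(0,1),(0,2),(0,1),(0,1),
    (0,1),(0,1),(1,2),(4,2),(0,2),(1,2),(0,1),(0,2),(1,2),(1,2),(0,2),(0,2),(0,1),(1,1),(0,2),
    (1,1),(0,1),(0,2),(0,1),(0,2),(1,1),(0,2),(0,1),(2,1),(0,1),(0,2),(1,1),(0,1),(0,1),(0,2),
    (0,2),(1,2),(1,1),(2,1),(0,1),(0,2),(1,2),(0,1),(0,2),(0,2),(0,2),(0,1)],
   [(120,2),(2,2),(0,1),(0,2),(0,2),(0,1),(0,2),(0,1),(0,2),(0,2),(1,1),(0,1),(1,2),(0,1),(0,1),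
    (1,2),(0,1),(0,2),(0,2),(0,2),(1,1),(0,2),(1,1),(1,2),(0,2),(1,2),(0,1),(1,1),(1,1),(1,1),
    (1,1),(0,2),(0,1),(0,1),(0,1),(0,1),(0,2),(0,2),(0,1),(0,1),(0,2),(3,2),(0,2),(3,2),(0,2),
    (1,2),(1,2),(0,1),(0,1),(0,2),(3,2),(0,1),(0,2),(0,1),(0,1),(0,2),(0,1),(1,2),(1,1),(1,2),
    (0,2),(2,1),(0,2),(0,1),(4,2),(0,1),(0,2),(0,2),(0,2),(1,1),(0,2),(0,2),(0,1),(0,2),(0,1),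
    (2,1),(2,1),(1,1),(0,1),(0,1),(0,1),(0,2),(0,1),(1,1),(0,1),(0,2),(1,1)],
   [(121,1),(0,2),(0,2),(0,2),(0,1),(1,1),(3,2),(0,1),(0,2),(1,1),(0,1),(0,2),(1,2),(0,1),(2,1),
    (0,2),(1,1),(1,2),(1,1),(2,2),(0,2),(0,2),(0,1),(1,1),(0,1),(0,2),(0,2),(1,1),(0,2),(0,2),
    (1,1),(0,1),(0,1),(0,1),(0,1),(2,2),(0,2),(0,1),(1,1),(1,1),(1,1),(0,1),(0,1),(4,2),(0,2),
    (0,1),(0,2),(0,2),(0,1),(0,2),(0,2),(0,2),(1,2),(1,2),(0,1),(1,1),(0,1),(0,1),(0,2),(0,2),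
    (0,2),(2,1),(1,2),(0,1),(0,1),(0,1),(3,1),(1,1),(0,2),(0,1),(0,2),(1,2),(1,1),(0,1),(0,2),
    (0,1),(1,2),(1,1),(0,1),(0,2),(0,2),(0,2),(0,1),(0,1),(0,2),(0,1),(1,2)],
   [(122,1),(2,1),(0,1),(0,1),(0,2),(0,1),(0,1),(3,1),(0,1),(1,1),(1,1),(0,2),(0,2),(0,1),(0,2),
    (0,2),(0,1),(2,1),(1,1),(0,1),(0,2),(0,2),(0,2),(1,1),(0,1),(1,1),(0,2),(1,1),(0,2),(0,2),
    (0,1),(4,1),(1,2),(0,2),(0,1),(0,2),(0,1),(1,2),(0,1),(0,1),(0,1),(1,1),(1,2),(1,2),(0,1),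
    (0,2),(0,2),(1,1),(1,2),(0,2),(0,2),(0,1),(4,2),(0,1),(2,1),(0,1),(0,2),(0,2),(0,1),(1,1),
    (0,2),(1,2),(0,2),(0,1),(0,1),(1,1),(2,1),(1,2),(0,1),(0,1),(0,1),(0,2),(1,1),(0,2),(0,2),
    (0,1),(0,1),(1,1),(0,1),(0,1),(3,2),(0,2),(0,2),(0,1)],
   [(2,2),(1,2),(0,1),(0,1),(1,2),(0,1),(0,1),(0,1),(3,1),(0,1),(0,2),(0,2),(0,1),(1,2),(0,1),
    (0,1),(0,1),(0,1),(0,1),(0,2),(0,2),(1,1),(0,2),(0,2),(0,1),(0,2),(0,2),(0,2),(2,2),(1,2),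
    (0,2),(0,2),(0,1),(0,2),(0,1),(0,2),(1,1),(0,2),(2,1),(1,1),(0,1),(0,1),(0,2),(0,1),(2,2),
    (0,2),(0,2),(0,2),(4,1),(0,2),(1,2),(9,1),(0,1),(0,2),(0,1),(1,1),(0,2),(0,1),(4,2),(0,1),
    (2,2),(0,2),(0,2),(0,1),(1,1),(0,1),(1,2),(0,2),(0,2),(0,2),(1,2),(0,2),(2,1),(0,2),(1,1)],
   [(121,1),(0,2),(0,1),(2,2),(1,1),(0,1),(0,1),(0,1),(0,1),(0,2),(0,1),(1,1),(0,1),(0,2),(1,2),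
    (0,2),(0,2),(1,1),(0,2),(0,1),(1,2),(0,1),(0,2),(0,1),(0,1),(0,1),(0,2),(4,2),(0,2),(0,2),
    (0,2),(3,2),(0,1),(0,2),(0,1),(0,2),(0,2),(0,1),(0,2),(0,2),(0,1),(0,1),(0,1),(0,2),(0,1),
    (0,2),(0,1),(2,1),(0,1),(2,1),(1,2),(2,2),(0,2),(0,2),(1,2),(0,1),(0,2),(1,1),(1,2),(0,2),
    (0,1),(0,2),(0,1),(0,1),(0,2),(0,1),(0,1),(0,2),(0,1),(0,2),(0,2),(0,2),(0,1),(0,1),(0,1),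
    (1,2),(1,2),(0,2),(1,1),(2,1),(0,1),(0,1),(0,1),(0,1),(3,1),(0,2),(2,2),(1,2),(0,2),(0,1)],
   [(120,1),(0,2),(3,2),(0,1),(1,1),(0,2),(3,2),(0,1),(0,1),(0,2),(0,2),(0,1),(0,1),(1,1),(0,2),
    (0,2),(1,1),(0,1),(1,2),(0,1),(3,1),(0,2),(0,1),(0,2),(0,1),(0,1),(3,2),(0,1),(0,2),(1,1),
    (1,1),(0,2),(0,2),(0,2),(1,2),(0,1),(1,2),(1,1),(1,2),(0,2),(0,1),(0,1),(1,2),(0,1),(2,1),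
    (0,2),(1,1),(0,1),(0,2),(0,2),(0,2),(0,2),(0,2),(0,1),(0,2),(0,1),(0,2),(0,1),(0,2),(2,1),
    (0,1),(1,1),(1,1),(0,1),(2,2),(0,2),(0,2),(0,2),(2,2),(1,1),(2,1),(0,2),(0,1),(2,1),(0,2),
    (0,1),(0,2),(1,2),(0,2),(0,2),(0,1),(0,2),(2,2),(1,1)]]

/-- Rows of a matrix. -/
def matPInv15 : List (List (ℕ × ℕ)) :=
  [[(120,1),(2,2),(0,2),(1,1),(0,1),(0,1),(0,2),(1,2),(1,1),(0,1),(1,2),(0,1),(0,1),(1,1),(0,1),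
    (0,2),(0,2),(4,1),(0,1),(0,2),(1,2),(0,2),(0,2),(0,2),(0,2),(0,1),(1,1),(0,1),(0,1),(0,2),
    (0,2),(0,2),(0,1),(0,1),(0,2),(0,1),(0,2),(1,1),(3,1),(0,1),(0,2),(0,1),(0,2),(1,1),(0,1),
    (0,2),(0,2),(1,1),(1,1),(0,1),(0,1),(0,2),(0,2),(0,1),(0,2),(0,1),(0,1),(0,1),(0,1),(0,1),
    (0,2),(0,1),(1,1),(1,1),(2,1),(0,2),(1,2),(0,2),(0,2),(0,2),(0,2),(0,1),(0,2),(0,2),(0,2),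
    (1,1),(1,1),(0,1),(2,2),(0,2),(1,2),(0,2),(0,1),(0,2),(0,2),(3,1),(0,1),(0,1),(0,1),(0,2),
    (0,1),(1,2),(0,1)],
   [(120,1),(0,2),(1,2),(0,2),(0,2),(0,2),(0,1),(1,1),(1,1),(0,2),(0,1),(0,2),(1,1),(1,2),(0,2),
    (0,2),(0,1),(0,1),(0,2),(0,1),(0,1),(1,2),(0,2),(0,1),(0,2),(4,1),(1,1),(0,2),(0,1),(0,1),
    (0,2),(0,2),(2,2),(0,2),(1,1),(1,2),(0,1),(1,1),(0,1),(0,2),(0,1),(4,2),(0,1),(0,2),(0,1),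
    (0,2),(1,1),(0,2),(0,1),(0,1),(0,1),(0,2),(0,1),(0,1),(2,1),(0,1),(1,1),(1,2),(0,1),(1,1),
    (0,2),(4,1),(1,1),(0,1),(1,1),(0,2),(0,2),(0,2),(1,1),(1,2),(0,1),(1,2),(0,2),(0,1),(1,2),
    (0,1),(1,2),(0,1),(2,1),(0,2),(1,2),(0,2),(0,2),(0,1),(1,2),(0,1),(0,2)],
   [(0,1),(0,2),(2,1),(0,2),(1,1),(0,2),(0,1),(0,1),(0,1),(1,2),(1,1),(0,2),(0,2),(1,1),(4,1),
    (0,1),(0,1),(0,1),(2,2),(0,2),(1,1),(0,1),(1,1),(0,2),(0,2),(0,1),(0,1),(0,1),(0,2),(0,1),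
    (0,2),(1,2),(1,1),(0,1),(0,2),(1,1),(0,2),(0,2),(0,2),(0,1),(0,1),(0,2),(1,1),(0,1),(0,1),
    (0,1),(1,2),(0,2),(1,1),(1,1),(0,1),(0,2),(0,1),(0,2),(2,1),(0,1),(0,1),(0,2),(0,1),(1,2),
    (0,2),(0,1),(0,2),(0,1),(1,2),(0,1),(1,1),(0,1),(1,1),(0,2),(2,2),(2,2),(0,2),(2,1),(1,1),
    (1,2),(0,2),(1,2),(2,2),(1,2),(0,2)],
   [(0,2),(0,1),(0,1),(0,1),(0,1),(4,1),(0,2),(0,1),(0,2),(1,2),(1,2),(0,2),(0,2),(0,1),(1,1),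
    (0,2),(0,2),(0,2),(0,1),(0,1),(1,2),(1,1),(0,2),(1,2),(3,2),(1,2),(1,1),(0,1),(0,2),(1,1),
    (0,1),(1,2),(0,1),(0,1),(0,1),(2,2),(1,2),(4,1),(0,1),(0,1),(0,2),(0,1),(0,2),(0,2),(0,2),
    (0,2),(0,1),(0,2),(0,2),(1,2),(2,1),(3,2),(0,2),(0,1),(0,1),(0,1),(0,2),(0,1),(0,1),(0,1),
    (0,2),(1,2),(0,2),(0,1),(1,2),(0,2),(0,1),(0,1),(1,1),(0,2),(0,2),(0,1),(0,2),(0,2),(0,2),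
    (0,2),(0,1),(0,1),(0,2),(0,2),(0,1),(0,1),(3,1),(0,2)],
   [(0,1),(0,1),(0,2),(0,2),(1,2),(0,2),(2,2),(5,2),(0,1),(0,1),(1,2),(0,1),(1,1),(0,1),(0,1),
    (1,1),(0,1),(0,2),(1,1),(0,2),(1,2),(0,2),(1,1),(1,2),(0,2),(0,2),(0,1),(0,2),(0,1),(0,1),
    (0,2),(0,2),(3,2),(1,2),(0,2),(0,1),(0,1),(0,1),(0,1),(0,2),(2,1),(0,1),(0,2),(1,1),(1,1),
    (0,1),(0,2),(0,2),(0,1),(0,2),(0,2),(1,1),(0,1),(0,2),(0,1),(1,1),(3,2),(0,1),(0,2),(0,1),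
    (1,1),(0,1),(0,2),(0,1),(2,2),(2,2),(0,1),(0,2),(3,2),(0,1),(1,2),(0,1),(0,1),(0,2),(0,2),
    (1,2),(2,2),(2,1)],
   [(0,1),(0,1),(0,1),(0,2),(3,2),(0,2),(0,1),(0,2),(1,1),(0,1),(0,2),(1,1),(0,1),(2,1),(0,2),
    (0,1),(0,2),(1,2),(0,1),(0,2),(1,1),(3,2),(1,2),(2,1),(1,1),(0,1),(0,1),(0,2),(0,1),(0,2),
    (0,1),(2,2),(0,2),(1,2),(1,2),(2,2),(0,1),(0,1),(0,2),(0,2),(1,1),(0,2),(1,1),(1,2),(0,1),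
    (0,1),(0,1),(0,1),(0,2),(0,1),(0,2),(2,1),(0,2),(0,1),(1,1),(2,1),(3,2),(0,2),(0,1),(2,2),
    (1,2),(0,2),(0,2),(1,1),(0,2),(1,2),(0,2),(0,1),(0,2),(0,1),(0,1),(0,2),(2,1),(0,1),(0,2),
    (0,1),(1,2),(0,2)],
   [(1,1),(0,2),(0,2),(0,1),(0,2),(0,2),(0,2),(1,2),(0,2),(0,2),(0,2),(1,2),(5,1),(2,1),(0,1),
    (1,2),(0,2),(0,1),(0,1),(0,2),(1,1),(0,1),(0,1),(0,2),(1,2),(0,2),(0,2),(0,2),(0,2),(0,2),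
    (0,2),(0,2),(0,1),(1,2),(1,2),(1,1),(1,2),(1,2),(0,2),(0,1),(0,1),(0,1),(0,2),(0,1),(1,1),
    (0,1),(0,2),(0,2),(0,1),(0,1),(1,1),(0,2),(1,1),(0,2),(0,1),(0,2),(0,2),(2,2),(0,2),(0,1),
    (0,1),(0,2),(0,2),(0,1),(0,2),(0,1),(1,1),(0,2),(1,2),(1,1),(0,2),(0,2),(2,2),(4,1),(0,1),
    (0,1),(0,2),(0,2),(0,2),(0,2),(0,2),(1,1),(2,2),(0,2)],
   [(1,1),(0,1),(0,2),(0,2),(1,2),(0,2),(0,2),(2,1),(2,1),(0,1),(0,2),(2,2),(0,1),(0,1),(0,1),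
    (1,2),(0,1),(0,2),(0,2),(1,1),(2,2),(0,1),(0,1),(0,1),(0,2),(0,1),(1,2),(1,2),(1,1),(0,2),
    (3,2),(0,1),(0,1),(0,2),(0,2),(0,1),(0,2),(1,1),(0,2),(0,2),(1,2),(0,1),(0,2),(1,2),(0,2),
    (0,2),(1,1),(0,1),(0,1),(1,2),(0,1),(0,2),(0,1),(0,1),(1,1),(0,1),(4,2),(0,2),(0,2),(0,1),
    (0,2),(0,1),(0,2),(0,2),(6,1),(2,2),(0,1),(0,1),(0,1),(1,2),(2,2),(0,1),(0,1),(0,2),(0,2),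
    (0,2),(2,2),(1,1)]]

/-- Rows of a matrix. -/
def matPInv16 : List (List (ℕ × ℕ)) :=
  [[(0,1),(0,1),(4,2),(1,1),(0,1),(0,1),(0,2),(0,2),(0,2),(0,2),(1,2),(1,1),(0,2),(2,2),(0,2),
    (0,2),(0,2),(0,1),(1,2),(0,1),(2,2),(2,1),(0,2),(2,1),(0,1),(0,1),(1,2),(0,1),(4,1),(0,1),
    (1,2),(1,2),(0,2),(2,1),(0,2),(0,2),(1,1),(1,1),(0,2),(2,2),(1,2),(0,1),(0,1),(0,1),(0,2),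
    (1,2),(0,1),(2,2),(1,1),(1,2),(0,2),(0,2),(0,2),(0,2),(0,1),(0,1),(0,1),(0,2),(1,1),(2,2),
    (0,1),(0,2),(1,1),(1,2),(0,2),(1,2),(0,2),(0,1),(1,2),(1,2),(0,2),(1,1),(0,1),(0,1),(0,2)],
   [(0,1),(0,2),(0,1),(2,2),(0,1),(0,2),(1,1),(0,2),(0,2),(0,1),(0,2),(0,1),(0,1),(3,2),(0,1),
    (0,1),(0,2),(0,1),(0,2),(0,1),(0,2),(2,1),(0,2),(0,1),(2,2),(1,2),(0,2),(2,2),(2,2),(0,1),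
    (0,2),(1,1),(0,1),(0,1),(0,1),(0,1),(0,2),(0,1),(0,2),(0,1),(0,1),(0,2),(0,2),(1,1),(0,1),
    (0,2),(0,2),(0,1),(0,2),(0,2),(0,2),(0,1),(2,2),(0,2),(1,1),(0,2),(0,2),(0,2),(1,1),(0,1),
    (0,1),(0,2),(1,1),(0,1),(0,1),(2,1),(0,2),(1,2),(0,1),(1,2),(0,2),(0,2),(0,1),(0,2),(3,2),
    (0,1),(0,2),(0,1),(1,1),(0,1),(1,1),(0,2),(0,1),(1,2),(1,1),(0,2),(0,2)],
   [(0,1),(1,2),(0,2),(0,1),(0,2),(0,2),(0,1),(0,2),(0,2),(0,1),(0,2),(0,1),(1,1),(4,1),(0,1),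
    (0,2),(0,2),(1,2),(2,2),(0,1),(0,2),(0,2),(2,2),(0,1),(1,2),(0,1),(1,2),(0,1),(0,2),(0,2),
    (0,1),(1,2),(0,1),(0,1),(0,2),(3,2),(0,2),(1,1),(1,1),(2,1),(1,2),(1,2),(1,2),(0,2),(2,1),
    (0,2),(1,2),(0,1),(0,1),(0,1),(0,2),(1,1),(0,1),(1,1),(0,2),(0,1),(0,2),(1,2),(0,2),(1,2),
    (0,1),(1,1),(3,2),(0,1),(0,2),(0,1),(2,2),(0,1),(0,1),(1,1),(0,2),(4,2),(0,1),(0,1),(0,2),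
    (0,2),(0,1),(0,2)],
   [(0,1),(0,1),(0,1),(0,1),(0,2),(0,1),(0,2),(0,2),(3,1),(0,2),(1,1),(0,2),(1,2),(0,2),(0,2),
    (0,2),(0,2),(1,1),(0,1),(0,2),(0,1),(0,2),(0,1),(0,2),(0,1),(0,2),(0,2),(0,1),(1,1),(0,2),
    (1,2),(0,1),(0,2),(0,2),(0,1),(0,1),(0,2),(0,1),(2,2),(1,2),(0,2),(0,1),(1,2),(0,1),(2,1),
    (0,2),(1,1),(2,1),(0,2),(0,2),(0,1),(0,1),(0,1),(0,1),(0,1),(0,2),(0,2),(1,1),(3,2),(0,2),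
    (1,1),(0,1),(1,1),(0,1),(1,2),(0,1),(0,2),(0,1),(0,1),(0,1),(2,2),(0,2),(0,2),(1,2),(0,1),
    (0,2),(0,1),(2,1),(0,1),(0,2),(2,2),(0,1),(0,1),(0,1),(0,1),(1,2),(0,1)],
   [(0,1),(3,1),(0,2),(0,1),(0,2),(0,1),(0,1),(0,1),(2,1),(0,1),(0,2),(0,2),(0,2),(0,2),(1,1),
    (0,1),(1,1),(1,2),(0,1),(1,1),(0,1),(2,1),(0,1),(0,2),(2,2),(1,2),(1,2),(0,1),(0,2),(1,2),
    (2,2),(0,1),(2,2),(1,2),(2,2),(0,2),(0,2),(0,2),(1,2),(0,1),(0,1),(0,1),(0,2),(0,1),(0,1),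
    (0,1),(0,2),(0,2),(1,2),(0,2),(1,1),(1,1),(0,2),(0,1),(0,1),(2,1),(0,2),(0,2),(0,1),(0,2),
    (0,2),(0,1),(3,1),(1,2),(0,1),(0,2),(0,2),(1,1),(0,2),(0,1),(0,1),(0,1),(0,2),(1,1),(0,2),
    (0,1),(0,1),(0,2),(1,1),(1,2),(1,1)],
   [(0,1),(1,2),(2,1),(3,2),(0,2),(0,1),(0,1),(0,2),(0,2),(0,1),(1,1),(0,2),(0,2),(2,2),(0,2),
    (0,1),(1,1),(1,2),(0,2),(1,2),(0,2),(1,2),(3,2),(0,1),(0,1),(0,2),(0,1),(0,2),(0,2),(2,1),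
    (0,1),(0,1),(1,2),(1,1),(0,2),(0,2),(1,1),(0,1),(0,1),(1,1),(1,2),(1,2),(1,2),(1,1),(0,2),
    (1,2),(1,2),(0,2),(1,2),(1,1),(2,1),(0,1),(0,2),(0,1),(0,1),(0,1),(0,2),(0,2),(0,1),(0,2),
    (1,1),(2,2),(0,1),(0,2),(0,1),(0,2),(1,1),(1,1),(1,1),(1,1),(0,1),(0,2),(0,1),(2,1),(1,2),
    (0,2),(0,1),(0,2)],
   [(123,1),(0,1),(0,1),(0,2),(0,1),(0,2),(1,2),(0,2),(3,2),(0,1),(0,1),(1,1),(0,2),(0,2),(1,2),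
    (1,1),(1,1),(2,1),(1,1),(0,2),(0,2),(0,1),(0,1),(0,2),(0,1),(0,2),(0,1),(0,1),(0,1),(0,1),
    (1,2),(1,2),(3,2),(1,1),(0,2),(0,1),(0,2),(1,1),(0,2),(0,2),(0,1),(0,2),(2,2),(0,1),(0,1),
    (0,2),(0,2),(1,2),(1,1),(0,1),(0,2),(2,1),(1,2),(0,1),(1,2),(0,2),(0,2),(0,1),(0,1),(0,2),
    (0,2),(1,1),(1,1),(0,2),(2,1),(1,1),(0,2),(0,1),(0,1),(0,1),(0,1),(0,1),(0,2),(0,2),(1,2),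
    (0,2),(0,2),(1,2),(0,2),(1,1),(1,2),(0,2),(0,2),(0,2),(0,2),(0,1),(0,2),(0,1),(0,1),(0,2)],
   [(120,1),(1,2),(0,2),(0,2),(0,2),(1,1),(0,1),(1,1),(0,2),(0,2),(0,1),(0,2),(0,1),(0,2),(0,1),
    (2,1),(1,2),(3,2),(1,2),(0,1),(0,2),(1,1),(0,2),(0,1),(2,1),(0,2),(1,2),(0,2),(0,1),(1,2),
    (0,1),(0,1),(0,1),(0,1),(3,1),(0,2),(0,2),(0,1),(0,1),(0,2),(0,2),(0,2),(0,2),(0,2),(0,2),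
    (1,1),(0,1),(0,2),(1,2),(0,1),(0,2),(0,2),(1,1),(0,1),(0,1),(0,2),(0,2),(1,1),(2,1),(0,2),
    (0,1),(0,2),(1,2),(0,2),(0,2),(0,1),(0,1),(0,2),(0,2),(0,2),(0,2),(0,1),(0,2),(0,1),(1,2),
    (0,1),(0,2),(0,1),(0,2),(1,1),(0,1),(1,2),(1,1),(0,1),(0,1),(1,2),(1,1),(0,2),(0,1),(3,2),
    (1,1),(0,2),(0,2)]]

/-- Rows of a matrix. -/
def matPInv17 : List (List (ℕ × ℕ)) :=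
  [[(120,2),(2,1),(0,2),(2,1),(0,1),(0,1),(0,2),(0,1),(0,2),(1,2),(0,2),(2,2),(1,2),(0,2),(1,2),
    (0,1),(0,2),(0,2),(1,2),(0,1),(3,1),(1,2),(0,2),(0,2),(0,1),(0,1),(3,1),(0,2),(0,2),(1,2),
    (1,1),(0,1),(0,2),(1,1),(0,1),(2,2),(0,1),(0,2),(0,2),(1,2),(1,1),(1,2),(1,1),(1,2),(0,1),
    (0,1),(0,1),(0,2),(0,2),(0,2),(0,1),(0,1),(0,2),(0,1),(0,2),(0,2),(4,1),(0,2),(1,2),(0,2),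
    (0,2),(0,1),(0,2),(0,1),(0,2),(0,1),(0,1),(0,2),(0,2),(0,2),(2,1),(0,1),(0,2),(0,2),(0,2),
    (0,1),(1,2),(2,1),(0,1),(2,1),(0,2),(3,1),(2,1),(0,2)],
   [(120,2),(1,1),(0,1),(0,1),(0,2),(0,1),(0,2),(0,1),(0,1),(0,1),(2,2),(0,2),(1,2),(0,1),(0,2),
    (1,1),(1,1),(4,2),(0,1),(0,2),(0,1),(0,1),(0,2),(2,2),(0,2),(1,1),(0,1),(0,2),(1,2),(1,1),
    (1,1),(0,1),(0,1),(1,1),(0,1),(0,1),(0,1),(2,1),(0,2),(0,2),(0,1),(1,1),(1,1),(0,1),(0,2),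
    (2,2),(0,2),(0,2),(0,2),(0,1),(1,1),(0,2),(4,2),(0,1),(1,2),(1,2),(1,2),(0,2),(0,1),(1,1),
    (0,2),(2,2),(0,1),(0,1),(1,2),(0,1),(0,1),(1,2),(1,1),(0,2),(0,1),(0,2),(0,1),(1,1),(1,1),
    (1,1),(0,2),(1,2),(0,2),(2,2),(0,2),(0,1),(1,1),(0,2)],
   [(0,1),(0,1),(0,2),(0,1),(0,1),(0,1),(2,1),(0,2),(2,1),(1,1),(0,2),(0,1),(2,2),(0,2),(0,2),
    (0,1),(1,2),(0,2),(0,1),(1,2),(1,1),(1,2),(1,2),(0,1),(1,2),(0,2),(0,2),(0,2),(1,2),(0,2),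
    (0,2),(0,1),(2,1),(2,2),(0,1),(0,1),(1,1),(0,1),(0,2),(0,1),(2,1),(2,1),(0,1),(0,2),(0,1),
    (0,1),(0,2),(1,2),(0,1),(0,2),(1,2),(0,2),(0,1),(0,2),(0,1),(0,2),(0,1),(0,1),(0,1),(1,2),
    (2,2),(1,1),(0,2),(1,2),(0,1),(1,2),(0,2),(0,1),(1,1),(1,2),(0,2),(0,1),(0,2),(2,2),(0,1),
    (0,2),(2,1),(1,1),(0,2),(1,2),(0,2)],
   [(121,1),(1,1),(1,2),(0,2),(0,2),(0,2),(0,1),(0,1),(0,2),(0,1),(0,2),(1,1),(0,2),(1,1),(0,1),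
    (0,2),(0,1),(0,1),(0,2),(1,1),(0,2),(0,1),(0,2),(0,2),(0,2),(0,1),(0,1),(1,2),(0,1),(1,1),
    (0,1),(0,1),(1,2),(0,2),(0,2),(0,1),(1,1),(1,2),(0,1),(1,1),(0,2),(0,1),(0,2),(2,2),(1,2),
    (1,1),(0,1),(0,1),(0,2),(1,1),(1,1),(0,1),(0,2),(4,2),(2,2),(1,1),(1,2),(0,2),(0,1),(0,1),
    (2,2),(1,1),(0,1),(2,2),(0,2),(1,1),(0,2),(0,2),(3,1),(0,2),(0,1),(0,2),(0,2),(0,1),(1,2),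
    (0,2),(0,1),(1,2),(0,1),(2,2),(2,2),(0,2),(0,2),(0,2)],
   [(120,2),(0,1),(1,2),(0,1),(0,1),(0,2),(0,1),(1,1),(0,1),(1,2),(0,2),(0,1),(2,2),(0,2),(0,2),
    (1,1),(0,1),(0,1),(0,2),(0,2),(1,2),(2,2),(0,1),(0,2),(0,1),(0,1),(0,2),(0,2),(0,2),(0,2),
    (1,2),(1,1),(1,1),(1,1),(1,2),(0,2),(0,1),(1,1),(1,2),(0,2),(2,2),(0,2),(2,2),(0,1),(0,1),
    (3,2),(0,2),(2,1),(0,1),(1,1),(0,1),(0,1),(0,2),(0,1),(0,1),(0,1),(0,1),(1,2),(0,1),(0,2),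
    (0,2),(1,2),(0,2),(2,2),(0,1),(0,1),(0,1),(0,1),(0,1),(0,1),(0,2),(3,2),(0,2),(0,1),(1,2),
    (0,1),(1,2),(0,2),(0,1),(0,2),(0,1),(0,2),(3,1),(1,1),(0,2),(0,2),(1,2)],
   [(120,2),(0,2),(1,2),(0,2),(0,1),(0,1),(3,1),(1,1),(4,1),(0,2),(0,2),(0,2),(0,2),(0,2),(0,1),
    (1,1),(0,2),(2,2),(1,1),(0,1),(2,2),(0,1),(2,2),(0,1),(0,1),(0,2),(1,2),(0,2),(0,1),(2,2),
    (2,2),(0,2),(1,2),(0,2),(1,2),(1,2),(1,2),(0,2),(0,2),(0,2),(0,2),(0,2),(0,2),(0,1),(0,1),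
    (0,2),(1,2),(0,2),(1,2),(2,1),(0,2),(2,1),(0,1),(0,1),(1,2),(0,2),(0,2),(2,1),(1,2),(0,2),
    (1,2),(1,2),(0,2),(1,2),(0,1),(1,1),(0,2),(0,1),(0,2),(1,1),(1,1),(0,1),(1,2),(0,1),(0,2),
    (1,1),(0,1),(0,1),(0,2),(0,1),(0,1),(0,2),(0,2),(0,2)],
   [(120,2),(1,2),(0,1),(0,2),(0,2),(1,1),(0,1),(0,1),(1,1),(0,2),(1,2),(1,1),(1,2),(0,2),(0,1),
    (0,2),(0,2),(0,2),(2,1),(1,1),(2,1),(0,1),(1,2),(0,1),(0,2),(0,2),(0,2),(0,2),(0,2),(0,1),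
    (0,2),(1,2),(0,1),(0,1),(0,2),(0,2),(2,2),(3,2),(0,2),(1,1),(1,2),(0,2),(1,2),(0,1),(1,2),
    (0,1),(0,2),(3,2),(0,2),(0,2),(1,2),(1,1),(0,1),(1,2),(0,2),(2,2),(1,2),(1,1),(0,2),(0,1),
    (2,2),(0,1),(0,1),(2,2),(0,2),(5,1),(1,2),(0,2),(0,1),(0,1),(0,1),(0,2),(1,2),(0,2),(0,2),
    (0,1),(1,1),(1,1),(2,2),(0,1),(0,1)],
   [(0,1),(0,1),(0,2),(0,2),(0,2),(0,1),(0,1),(0,2),(3,2),(0,2),(2,2),(0,2),(0,2),(0,1),(0,2),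
    (1,2),(0,1),(0,2),(0,2),(0,1),(0,2),(0,1),(0,2),(0,1),(2,1),(1,2),(2,1),(1,1),(1,1),(1,2),
    (2,2),(0,2),(1,1),(0,1),(0,1),(0,1),(0,2),(1,2),(0,2),(4,1),(0,2),(2,2),(0,2),(2,2),(1,2),
    (1,2),(4,2),(0,2),(1,2),(1,2),(1,1),(0,2),(0,2),(0,1),(0,1),(0,1),(0,1),(0,2),(0,1),(0,2),
    (0,1),(0,1),(2,2),(0,1),(1,2),(0,1),(1,1),(0,2),(0,1),(3,1),(0,1),(1,1),(0,2),(2,1),(0,1)]]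

/-- Rows of a matrix. -/
def matPInv18 : List (List (ℕ × ℕ)) :=
  [[(1,2),(1,1),(3,2),(0,1),(0,2),(1,2),(1,1),(0,2),(0,2),(0,2),(0,2),(1,1),(0,1),(1,1),(0,2),
    (0,1),(0,2),(0,2),(0,1),(1,2),(0,2),(1,1),(0,2),(0,1),(0,2),(0,1),(0,2),(0,1),(0,1),(1,2),
    (0,2),(0,2),(1,2),(1,2),(1,2),(2,1),(2,1),(0,2),(1,2),(1,1),(1,2),(0,2),(0,1),(1,1),(0,2),
    (1,1),(0,1),(0,2),(1,1),(1,1),(2,1),(0,2),(1,2),(2,2),(4,2),(0,1),(0,1),(1,1),(0,1),(1,2),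
    (0,1),(0,2),(0,2),(4,2),(1,1),(0,1),(0,1),(0,2),(0,2),(0,1),(0,2),(0,2),(0,2),(1,1),(1,2)],
   [(120,1),(0,1),(1,2),(0,1),(1,2),(0,2),(0,2),(0,2),(0,1),(0,2),(0,2),(0,2),(0,1),(1,1),(0,1),
    (3,1),(0,2),(0,1),(1,2),(1,2),(1,1),(0,2),(1,2),(0,2),(0,2),(0,2),(0,2),(0,1),(0,1),(0,2),
    (2,1),(2,2),(1,2),(3,2),(0,1),(0,2),(0,1),(0,2),(1,2),(1,1),(0,1),(2,2),(0,2),(4,1),(2,1),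
    (0,2),(1,2),(4,2),(1,2),(1,1),(0,1),(0,1),(3,2),(0,1),(0,2),(0,2),(0,1),(0,1),(1,1),(1,2),
    (0,1),(0,1),(0,1),(1,1),(2,1),(0,1),(0,1),(0,1),(1,2),(1,1),(0,1),(2,2),(0,1),(1,1),(1,2),
    (1,2),(0,2),(0,1)],
   [(122,2),(2,2),(0,1),(2,1),(0,2),(0,2),(0,2),(0,2),(0,2),(0,1),(0,2),(0,1),(2,1),(0,2),(1,2),
    (0,2),(0,2),(2,2),(1,1),(0,1),(0,1),(0,1),(1,1),(0,2),(0,2),(1,2),(0,1),(1,1),(0,2),(2,1),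
    (0,1),(1,1),(2,1),(0,1),(0,1),(0,2),(0,2),(4,1),(0,2),(1,2),(0,1),(0,1),(2,1),(1,1),(0,2),
    (1,1),(1,2),(1,2),(0,2),(1,1),(1,2),(0,2),(1,1),(0,1),(1,1),(0,1),(0,2),(0,2),(0,1),(1,1),
    (1,2),(2,2),(0,2),(0,2),(0,1),(0,2),(0,2),(0,1),(1,1),(0,2),(0,1),(2,2),(0,1),(0,1),(0,1),
    (0,1),(0,1),(0,2),(0,2),(0,1),(0,1),(1,2),(0,2),(0,1)],
   [(120,1),(0,2),(0,1),(0,1),(0,2),(0,1),(0,2),(0,2),(0,2),(0,2),(0,2),(0,2),(0,1),(1,2),(0,2),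
    (0,2),(3,2),(2,2),(0,2),(1,2),(1,1),(0,2),(1,2),(0,1),(1,1),(2,1),(0,1),(1,2),(0,1),(0,2),
    (0,1),(0,2),(0,1),(0,2),(0,1),(0,1),(1,2),(1,1),(0,1),(0,1),(0,2),(2,1),(1,2),(1,1),(0,1),
    (1,1),(0,1),(2,1),(1,1),(0,2),(0,1),(0,2),(0,1),(0,2),(0,1),(0,2),(0,1),(0,2),(0,1),(1,2),
    (2,1),(0,1),(1,2),(0,2),(0,1),(0,2),(1,1),(3,1),(0,1),(0,1),(0,2),(1,2),(0,2),(0,1),(1,2),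
    (2,2),(1,2),(1,2),(1,2),(1,2),(0,1),(0,1),(0,1),(1,1),(0,1),(0,1),(0,1)],
   [(120,2),(1,2),(0,2),(1,1),(0,1),(1,1),(0,1),(1,2),(1,2),(0,2),(1,1),(2,1),(0,2),(1,2),(0,1),
    (1,2),(1,1),(0,2),(2,1),(0,2),(1,2),(0,2),(1,1),(1,1),(0,1),(0,2),(0,2),(2,2),(0,1),(0,1),
    (0,2),(1,2),(0,2),(0,2),(0,2),(1,1),(0,2),(0,2),(0,2),(1,1),(0,2),(1,2),(0,1),(0,2),(1,1),
    (3,1),(0,2),(0,1),(0,1),(0,2),(2,2),(0,1),(0,1),(0,1),(1,1),(0,2),(0,2),(0,1),(0,1),(0,2),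
    (1,2),(2,2),(0,1),(1,1),(3,2),(0,2),(0,1),(0,1),(1,1),(0,1),(0,2),(0,2),(0,2),(1,2),(1,1),
    (0,2),(0,1),(0,2),(0,1),(0,2),(0,1),(3,1),(0,2),(0,2)],
   [(120,1),(0,1),(0,2),(2,2),(0,2),(1,1),(0,1),(0,2),(1,1),(0,2),(0,1),(0,2),(2,2),(0,2),(0,1),
    (0,2),(0,2),(0,1),(0,1),(1,1),(0,2),(0,1),(0,1),(0,1),(0,2),(0,1),(0,1),(0,2),(1,1),(0,2),
    (0,1),(0,2),(0,2),(0,1),(0,2),(1,1),(1,2),(0,1),(0,1),(0,1),(0,2),(0,2),(0,1),(2,2),(1,2),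
    (0,2),(0,2),(1,2),(3,2),(1,2),(0,1),(0,1),(1,2),(0,2),(0,1),(0,2),(0,2),(2,1),(3,1),(0,1),
    (0,1),(0,2),(1,2),(0,2),(0,1),(0,1),(0,2),(0,2),(0,2),(0,1),(0,2),(0,2),(0,1),(0,1),(0,1),
    (0,2),(0,2),(1,1),(0,1),(0,2),(0,2),(0,1),(2,2),(1,2),(0,2),(0,1),(0,2),(0,1),(0,1),(1,2),
    (0,2),(1,1),(0,1),(0,1),(0,2),(1,2)],
   [(120,2),(0,1),(1,2),(0,2),(0,1),(1,1),(0,2),(0,2),(0,1),(1,2),(0,2),(1,1),(3,2),(0,2),(0,2),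
    (0,1),(0,1),(1,2),(0,2),(1,2),(0,2),(0,2),(0,1),(2,2),(5,2),(0,2),(0,2),(0,1),(0,1),(0,2),
    (0,2),(2,1),(1,2),(2,2),(0,2),(1,1),(0,2),(0,2),(0,2),(0,2),(0,1),(2,2),(0,2),(0,2),(2,2),
    (1,2),(0,2),(2,2),(0,1),(0,1),(1,1),(2,2),(0,2),(0,2),(1,2),(0,2),(0,2),(2,1),(0,2),(0,1),
    (1,1),(0,2),(0,2),(1,1),(1,1),(2,1),(0,1),(0,2),(0,2),(0,2),(0,1),(0,1),(0,2),(0,2),(1,2),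
    (1,2),(0,1),(0,2),(0,1),(1,1),(1,2),(0,2),(0,1),(0,2)],
   [(3,2),(0,2),(1,1),(0,1),(0,1),(0,1),(0,2),(0,1),(0,2),(1,2),(1,1),(3,2),(0,1),(1,2),(0,2),
    (0,1),(0,1),(1,2),(1,2),(0,1),(2,2),(3,2),(0,1),(0,1),(0,1),(0,1),(0,2),(1,1),(0,1),(0,2),
    (0,2),(0,2),(0,1),(2,1),(0,1),(0,1),(1,2),(0,1),(0,1),(0,1),(0,2),(0,2),(0,2),(0,1),(0,1),
    (0,1),(1,2),(0,2),(0,2),(0,2),(0,1),(2,1),(2,1),(0,2),(1,1),(0,1),(2,2),(0,1),(0,1),(0,2),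
    (3,2),(0,1),(0,1),(0,1),(0,1),(0,2),(0,2),(0,1),(0,2),(0,2),(0,1),(0,1),(1,2),(0,1),(0,2),
    (0,1),(0,2),(0,2),(0,1),(0,1),(0,2),(0,2),(0,2),(0,2),(0,2),(0,1),(0,2)]]

/-- Rows of a matrix. -/
def matPInv19 : List (List (ℕ × ℕ)) :=
  [[(0,2),(0,1),(2,2),(1,1),(0,1),(0,1),(0,2),(0,1),(0,1),(0,2),(0,2),(0,2),(1,2),(1,1),(0,1),
    (0,2),(2,1),(0,2),(0,1),(0,1),(1,1),(0,2),(0,1),(0,2),(1,2),(0,2),(0,1),(0,1),(0,1),(0,1),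
    (0,2),(0,2),(0,1),(0,2),(0,1),(1,1),(1,1),(0,1),(0,1),(0,2),(0,1),(1,1),(0,2),(0,2),(1,2),
    (0,1),(2,1),(1,2),(0,2),(1,2),(0,2),(0,2),(0,2),(0,2),(0,1),(1,1),(0,1),(0,1),(0,1),(0,2),
    (1,2),(0,2),(0,1),(0,1),(0,2),(0,2),(0,1),(0,1),(1,1),(0,1),(0,1),(0,1),(1,1),(0,1),(0,2),
    (1,1),(0,2),(0,1),(1,2),(0,2),(0,2),(0,1),(0,2),(0,2),(1,1),(1,1),(0,1),(0,2),(1,1),(0,2),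
    (0,1),(0,1),(0,2)],
   [(0,1),(0,1),(1,1),(2,1),(0,1),(0,2),(0,1),(0,1),(0,1),(0,1),(0,1),(1,2),(2,2),(0,2),(0,2),
    (1,2),(1,2),(1,1),(1,1),(0,1),(0,2),(0,2),(0,1),(1,2),(1,1),(2,2),(1,1),(0,2),(1,2),(0,1),
    (0,1),(0,2),(1,2),(0,1),(0,1),(0,1),(2,1),(0,1),(2,2),(2,1),(0,1),(0,1),(0,1),(0,2),(0,2),
    (0,1),(0,1),(1,1),(1,2),(0,2),(0,1),(0,2),(0,2),(2,2),(0,1),(2,2),(0,2),(2,1),(0,1),(1,2),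
    (0,2),(1,1),(0,1),(0,2),(0,1),(0,1),(2,2),(0,1),(0,2),(1,2),(1,1),(0,2),(1,2),(0,1),(0,1),
    (0,2),(2,1),(2,2)],
   [(3,2),(0,2),(0,1),(0,2),(0,2),(0,2),(0,2),(0,1),(0,1),(0,1),(3,1),(0,2),(1,2),(0,2),(0,1),
    (0,1),(1,2),(1,1),(0,2),(0,1),(2,2),(0,2),(0,2),(0,1),(0,2),(1,1),(1,1),(1,2),(0,1),(0,1),
    (0,2),(0,2),(0,2),(0,1),(0,2),(1,1),(0,1),(1,1),(1,2),(1,1),(4,2),(1,2),(0,2),(3,2),(1,2),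
    (0,1),(0,2),(1,1),(0,1),(3,2),(0,2),(0,2),(0,1),(0,1),(0,1),(0,2),(0,2),(0,2),(0,1),(1,1),
    (3,2),(0,1),(0,2),(1,1),(2,1),(0,2),(0,1),(1,1),(0,2),(0,1),(0,2),(1,1),(1,2),(1,2),(0,1),
    (0,2),(0,2),(0,1)],
   [(120,1),(1,2),(0,1),(0,2),(0,2),(0,2),(0,2),(1,1),(3,1),(0,2),(0,1),(0,1),(0,2),(1,1),(0,1),
    (0,1),(0,1),(3,1),(0,2),(0,2),(2,2),(1,2),(0,2),(0,1),(0,2),(0,2),(0,1),(0,1),(0,1),(0,2),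
    (0,1),(0,2),(3,2),(0,2),(0,2),(0,2),(0,1),(0,2),(0,1),(0,2),(0,2),(0,2),(0,2),(0,1),(0,1),
    (0,2),(0,1),(0,1),(3,2),(0,1),(1,2),(4,1),(1,2),(0,2),(0,1),(1,1),(0,2),(0,1),(0,1),(0,1),
    (1,2),(0,1),(0,2),(0,1),(0,2),(1,2),(0,2),(0,2),(0,1),(0,2),(2,2),(0,1),(2,1),(4,2),(0,2),
    (1,2),(2,1),(0,2),(0,1),(0,2),(1,2),(0,1),(0,2),(0,1),(0,2),(1,1),(1,2)],
   [(0,1),(0,1),(0,1),(0,2),(1,1),(0,1),(0,1),(1,1),(0,2),(0,2),(0,1),(0,1),(0,2),(0,1),(2,1),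
    (0,1),(0,1),(0,1),(0,2),(0,2),(0,1),(0,2),(1,1),(0,1),(0,2),(0,1),(0,1),(0,1),(1,1),(1,2),
    (1,2),(0,2),(0,1),(0,1),(1,1),(1,1),(0,1),(2,2),(0,1),(0,2),(0,1),(0,1),(0,1),(0,1),(0,2),
    (0,2),(3,1),(1,2),(3,2),(0,1),(2,2),(2,2),(0,2),(0,1),(2,2),(0,2),(1,2),(1,1),(0,2),(3,1),
    (0,2),(0,1),(0,1),(1,2),(0,2),(0,2),(0,2),(0,1),(0,2),(0,1),(1,1),(0,2),(0,2),(2,1),(1,1),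
    (0,1),(0,2),(0,2),(1,1),(1,2),(1,1)],
   [(1,2),(2,2),(0,1),(0,1),(0,1),(0,2),(0,2),(0,1),(1,1),(1,1),(1,1),(0,1),(0,2),(0,1),(4,1),
    (0,1),(0,1),(0,1),(1,1),(2,2),(0,2),(1,2),(1,1),(0,2),(0,1),(0,1),(0,2),(0,2),(0,2),(0,1),
    (2,1),(1,1),(0,2),(0,1),(0,1),(0,2),(1,2),(1,1),(1,2),(0,1),(0,2),(0,1),(0,1),(0,1),(0,2),
    (0,1),(0,1),(0,2),(0,2),(1,1),(2,1),(0,2),(1,1),(2,2),(0,1),(0,1),(0,1),(1,1),(0,2),(1,2),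
    (1,2),(0,1),(1,2),(1,1),(0,2),(0,2),(2,1),(3,2),(1,1),(0,1),(0,2),(0,2),(0,1),(0,2),(0,1),
    (0,1),(0,2),(1,1)],
   [(2,1),(1,1),(0,1),(0,2),(0,1),(0,1),(0,1),(0,2),(1,1),(0,1),(0,1),(1,1),(0,2),(0,2),(1,2),
    (0,2),(1,1),(2,1),(1,2),(0,1),(1,1),(0,1),(0,1),(1,1),(0,2),(0,1),(1,2),(0,2),(2,1),(0,1),
    (0,2),(0,1),(0,1),(1,2),(0,2),(0,2),(0,2),(0,1),(0,1),(0,2),(0,2),(0,2),(0,2),(0,1),(0,1),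
    (0,2),(0,2),(0,1),(0,2),(0,1),(0,2),(0,1),(0,2),(0,2),(4,1),(1,2),(1,2),(1,1),(1,2),(7,1),
    (0,2),(0,2),(0,1),(0,2),(0,2),(0,2),(0,1),(3,2),(0,1),(0,2),(1,2),(0,1),(0,2),(0,2),(0,1),
    (2,1),(0,1),(1,2)],
   [(0,1),(0,2),(0,2),(4,1),(0,2),(2,2),(0,2),(0,1),(1,2),(0,1),(0,1),(0,2),(0,2),(1,2),(1,2),
    (0,2),(0,2),(0,2),(0,1),(0,2),(0,1),(0,1),(0,1),(2,2),(0,1),(0,2),(0,2),(2,1),(0,1),(0,2),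
    (0,2),(0,2),(0,2),(1,2),(1,2),(0,2),(0,2),(1,2),(0,2),(0,1),(2,1),(0,1),(0,1),(0,2),(0,2),
    (0,1),(0,2),(0,2),(0,2),(0,1),(0,1),(1,1),(0,2),(0,1),(0,1),(1,1),(0,2),(1,2),(0,1),(1,1),
    (0,1),(1,1),(0,2),(0,2),(0,1),(1,1),(3,2),(2,2),(1,1),(0,1),(3,1),(1,2),(0,2),(0,1),(0,1),
    (3,1),(1,2),(0,1),(1,2),(0,1),(0,2)]]

/-- Rows of a matrix. -/
def matPInv20 : List (List (ℕ × ℕ)) :=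
  [[(1,2),(0,1),(0,1),(0,1),(1,1),(0,1),(0,1),(0,2),(0,1),(1,1),(0,1),(1,2),(0,1),(0,2),(0,2),
    (0,1),(0,1),(0,1),(1,1),(2,2),(0,2),(0,1),(0,1),(0,1),(0,2),(0,2),(0,1),(0,1),(2,1),(0,2),
    (0,1),(0,2),(0,1),(0,2),(2,2),(0,1),(0,2),(0,1),(0,2),(0,1),(1,1),(0,1),(1,2),(0,1),(1,1),
    (0,1),(1,1),(2,1),(0,2),(0,2),(0,1),(0,2),(2,2),(2,2),(0,2),(0,1),(1,2),(1,2),(2,1),(1,2),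
    (1,1),(0,2),(2,2),(0,2),(1,2),(0,2),(2,1),(1,1),(0,1),(1,2),(1,2),(1,1),(0,1),(0,1),(0,2),
    (0,2),(0,1),(2,2),(1,2),(0,1),(0,1)],
   [(3,1),(0,2),(0,2),(0,2),(1,2),(0,1),(2,2),(1,1),(0,2),(1,1),(1,1),(1,2),(1,2),(0,1),(1,2),
    (0,1),(0,2),(0,2),(0,1),(2,2),(0,1),(0,1),(0,1),(1,2),(0,1),(1,2),(0,1),(0,1),(0,1),(2,1),
    (1,2),(0,2),(0,1),(2,1),(0,1),(2,1),(0,1),(1,1),(0,2),(1,1),(0,2),(0,2),(0,1),(2,2),(0,2),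
    (0,2),(1,2),(1,2),(3,2),(0,1),(1,1),(0,1),(2,1),(1,2),(0,1),(0,2),(0,1),(0,1),(0,2),(1,1),
    (0,2),(0,1),(0,1),(2,1),(0,2),(0,1),(0,1),(0,1),(0,2),(0,2),(0,2),(0,2),(1,1),(1,1),(1,2),
    (0,1),(0,2),(0,1)],
   [(1,1),(1,1),(1,2),(0,1),(0,1),(0,1),(0,1),(0,1),(0,1),(5,2),(0,2),(0,1),(0,2),(1,2),(1,1),
    (0,1),(0,1),(0,1),(1,1),(1,2),(0,2),(1,2),(1,1),(0,1),(1,2),(1,1),(0,1),(1,2),(0,1),(1,2),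
    (1,2),(0,1),(1,2),(0,2),(1,2),(0,1),(5,2),(1,1),(0,1),(0,2),(0,1),(0,1),(0,2),(1,1),(0,2),
    (0,2),(1,2),(0,1),(0,2),(1,2),(0,2),(0,1),(2,1),(0,2),(1,1),(1,2),(1,2),(0,2),(0,2),(2,2),
    (1,1),(0,1),(1,2),(0,1),(0,1),(0,1),(0,2),(0,2),(2,1),(0,1),(0,2),(0,1),(0,2),(2,1),(2,2)],
   [(1,1),(1,2),(2,1),(1,1),(1,1),(0,2),(0,2),(0,2),(0,1),(0,1),(0,2),(0,1),(0,2),(0,1),(0,1),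
    (1,2),(1,2),(0,2),(1,2),(0,2),(0,1),(0,1),(1,1),(0,2),(1,1),(0,1),(0,2),(1,2),(0,2),(1,1),
    (0,1),(0,2),(4,2),(1,2),(0,2),(0,1),(2,2),(0,2),(0,2),(3,1),(0,2),(0,1),(0,1),(3,2),(2,1),
    (0,1),(0,2),(0,2),(0,1),(0,2),(0,2),(0,1),(0,2),(0,2),(1,1),(0,1),(0,2),(1,2),(0,2),(0,1),
    (1,2),(0,2),(1,1),(0,1),(1,1),(0,1),(0,2),(0,1),(0,2),(1,2),(0,2),(0,2),(0,2),(0,2),(0,1),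
    (3,1),(0,2),(2,1),(0,2),(0,2),(0,2)],
   [(122,1),(3,2),(1,1),(0,2),(0,2),(0,2),(0,1),(0,2),(0,1),(2,1),(0,1),(1,2),(0,2),(1,1),(0,1),
    (0,1),(0,1),(1,2),(1,2),(0,1),(0,2),(1,2),(0,2),(0,2),(0,1),(0,1),(0,1),(0,2),(1,2),(0,2),
    (1,2),(0,2),(1,2),(0,1),(0,1),(1,2),(0,2),(0,1),(1,1),(0,2),(0,2),(0,2),(2,1),(0,1),(2,1),
    (0,1),(0,2),(1,1),(1,2),(0,1),(0,2),(0,2),(0,2),(0,2),(2,2),(0,2),(0,1),(0,1),(2,2),(0,1),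
    (0,1),(0,1),(0,1),(0,2),(1,1),(0,1),(0,2),(1,1),(0,2),(3,2),(0,1),(0,2),(0,1),(0,2),(1,1),
    (2,1),(0,2),(0,2),(1,2),(1,1),(2,1),(0,1),(0,1),(1,1),(0,2),(0,1),(0,2)],
   [(121,1),(0,2),(0,2),(0,2),(0,2),(0,2),(0,2),(0,2),(0,2),(1,2),(0,1),(2,1),(2,1),(0,1),(0,1),
    (0,1),(0,2),(1,1),(1,1),(0,2),(0,1),(0,2),(0,2),(0,1),(0,2),(0,1),(1,1),(0,2),(0,2),(2,2),
    (0,1),(1,1),(1,1),(0,2),(1,2),(1,1),(0,1),(0,2),(3,2),(2,2),(0,2),(0,2),(2,1),(2,1),(0,1),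
    (1,2),(0,1),(0,2),(0,2),(0,1),(0,1),(1,2),(0,1),(0,1),(0,2),(0,1),(3,2),(0,2),(2,1),(0,1),
    (0,2),(0,2),(2,1),(3,2),(0,1),(0,1),(1,2),(0,1),(0,2),(0,1),(0,1),(0,1),(0,1),(0,2),(0,1),
    (0,2),(1,1),(0,1),(1,1),(0,1),(0,1),(0,2),(0,1),(0,2),(0,1),(0,2),(0,2)],
   [(120,1),(1,1),(0,1),(0,2),(0,2),(0,1),(0,1),(0,1),(0,2),(0,1),(1,1),(0,1),(0,1),(0,1),(1,2),
    (0,1),(0,2),(0,1),(0,2),(1,2),(0,2),(1,1),(0,2),(1,1),(0,2),(1,2),(1,1),(0,1),(0,1),(0,2),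
    (0,2),(0,2),(1,2),(0,1),(1,1),(0,1),(3,2),(1,2),(0,2),(1,1),(1,1),(0,2),(0,1),(4,1),(1,2),
    (0,2),(1,2),(0,1),(1,2),(0,1),(0,1),(0,2),(0,1),(3,2),(0,2),(0,1),(2,2),(0,2),(0,2),(0,1),
    (1,1),(0,1),(2,2),(1,1),(0,2),(0,2),(0,1),(1,1),(1,1),(0,2),(1,2),(1,1),(0,1),(0,1),(0,1),
    (0,2),(3,1),(0,1),(0,2),(1,1),(0,1),(0,1),(0,1),(0,1),(0,1),(0,2),(0,2)],
   [(120,2),(0,2),(0,2),(0,2),(0,2),(1,1),(1,2),(0,2),(1,2),(0,1),(4,1),(3,1),(0,1),(0,2),(2,1),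
    (1,2),(0,2),(0,1),(1,1),(1,2),(1,2),(0,2),(0,2),(0,2),(0,2),(0,2),(0,1),(0,1),(0,2),(0,2),
    (0,1),(0,1),(1,1),(3,2),(0,1),(0,2),(0,2),(1,1),(1,2),(0,2),(0,2),(0,1),(0,1),(0,1),(1,1),
    (4,1),(0,1),(0,2),(1,2),(0,2),(0,1),(0,1),(0,1),(0,2),(0,1),(2,1),(0,2),(0,1),(0,1),(0,2),
    (1,2),(0,2),(0,2),(0,1),(0,2),(0,2),(2,1),(0,2),(4,1),(0,1),(0,2),(0,1),(1,1),(1,2),(0,1),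
    (0,1),(0,2),(0,2),(3,2),(0,2),(1,1),(0,1),(1,2),(0,1)]]

/-- Rows of a matrix. -/
def matPInv21 : List (List (ℕ × ℕ)) :=
  [[(120,1),(0,2),(1,2),(1,2),(0,2),(2,2),(0,1),(0,2),(0,1),(0,1),(2,1),(0,2),(0,2),(0,1),(0,2),
    (0,2),(0,2),(0,2),(1,1),(0,1),(1,1),(0,2),(1,1),(0,1),(1,2),(0,1),(0,2),(2,2),(0,2),(0,2),
    (0,1),(0,1),(1,1),(0,2),(2,1),(0,1),(0,1),(0,1),(0,1),(0,1),(0,2),(0,1),(0,1),(2,2),(0,2),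
    (0,1),(1,2),(0,2),(0,2),(0,1),(1,1),(2,1),(0,1),(4,2),(0,1),(0,2),(0,2),(2,1),(0,1),(0,2),
    (0,2),(0,2),(0,2),(0,2),(0,2),(2,1),(0,1),(0,2),(2,2),(1,1),(2,2),(0,1),(1,2),(2,2),(0,1),
    (3,1),(0,1),(0,1),(2,2),(1,2),(0,2),(0,2),(0,2),(1,1)],
   [(120,1),(0,2),(0,1),(2,2),(2,1),(1,2),(0,2),(0,1),(0,2),(2,1),(0,2),(2,1),(0,2),(1,2),(1,2),
    (0,2),(0,1),(3,2),(0,1),(0,2),(2,1),(2,2),(0,2),(1,1),(0,2),(0,1),(1,1),(2,1),(1,1),(0,2),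
    (0,2),(1,1),(0,1),(1,1),(2,2),(2,1),(0,1),(1,2),(1,2),(0,2),(0,1),(0,1),(0,1),(3,2),(0,1),
    (0,2),(0,2),(0,2),(0,1),(0,2),(0,1),(0,2),(0,1),(1,1),(1,1),(0,2),(1,1),(1,2),(0,1),(2,2),
    (1,2),(0,2),(1,1),(2,2),(0,2),(0,2),(4,2),(1,2),(0,2),(1,2),(1,1),(0,1),(1,1),(1,1),(0,2)],
   [(0,1),(0,2),(0,1),(0,2),(0,1),(0,1),(0,1),(1,1),(0,2),(0,1),(3,1),(2,2),(0,1),(0,1),(1,1),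
    (2,1),(0,2),(2,1),(1,1),(1,1),(2,2),(0,2),(0,2),(0,2),(0,2),(0,2),(0,1),(0,1),(0,2),(0,1),
    (1,1),(2,2),(0,2),(0,2),(0,2),(0,2),(0,2),(1,2),(4,2),(0,2),(1,1),(1,1),(0,2),(2,1),(2,1),
    (0,1),(1,1),(2,1),(1,2),(1,1),(2,2),(4,1),(0,2),(0,2),(0,2),(0,1),(0,2),(0,2),(0,2),(0,2),
    (0,2),(1,1),(0,2),(0,2),(1,2),(1,1),(0,2),(0,1),(1,1),(1,2),(0,1),(0,2),(0,1),(0,2),(0,1)],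
   [(0,2),(0,2),(1,1),(0,1),(0,2),(0,1),(1,2),(0,1),(1,1),(0,1),(0,1),(1,2),(0,1),(0,1),(1,1),
    (0,2),(0,2),(1,1),(2,2),(1,2),(0,1),(0,1),(0,1),(0,2),(0,2),(0,1),(0,1),(3,2),(0,1),(0,2),
    (1,1),(2,1),(0,2),(1,2),(1,2),(1,2),(0,1),(1,1),(0,1),(0,2),(0,1),(4,1),(0,1),(1,2),(0,1),
    (1,2),(0,2),(0,2),(1,2),(3,2),(0,1),(0,2),(0,2),(0,1),(0,1),(0,1),(2,1),(0,1),(0,1),(0,2),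
    (0,2),(1,1),(1,2),(0,1),(0,1),(0,2),(0,1),(0,1),(0,2),(5,2),(0,2),(0,2),(2,1),(0,2),(0,1),
    (0,2),(1,2),(1,1)],
   [(0,2),(0,2),(2,2),(0,2),(0,1),(0,2),(0,2),(0,1),(0,2),(0,2),(2,1),(1,1),(0,1),(0,2),(1,1),
    (0,2),(1,1),(0,1),(1,2),(1,1),(0,1),(1,1),(0,1),(0,1),(3,1),(0,1),(1,1),(1,1),(0,1),(1,1),
    (1,1),(0,2),(3,2),(0,2),(0,2),(0,1),(2,2),(0,1),(0,1),(0,2),(0,2),(0,1),(0,1),(1,1),(2,2),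
    (1,2),(0,2),(0,2),(3,1),(0,2),(2,2),(0,2),(2,1),(0,1),(0,2),(0,1),(1,2),(0,2),(0,1),(2,2),
    (0,2),(1,2),(3,2),(0,2),(1,1),(1,2),(1,2),(1,2),(3,2),(0,2),(0,2),(0,2)],
   [(120,2),(1,1),(0,1),(0,1),(0,2),(0,2),(0,2),(0,2),(0,2),(3,2),(0,2),(0,2),(0,1),(0,1),(0,1),
    (0,2),(0,1),(0,2),(0,1),(0,1),(0,2),(1,1),(1,1),(0,1),(0,1),(0,2),(0,2),(0,2),(1,2),(1,2),
    (1,1),(1,1),(0,2),(0,2),(2,2),(0,1),(0,1),(1,2),(0,1),(0,2),(0,1),(1,1),(1,1),(0,2),(0,1),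
    (1,2),(0,2),(0,2),(0,1),(0,2),(0,2),(0,2),(1,2),(1,2),(0,2),(2,1),(0,2),(1,1),(0,1),(0,1),
    (1,2),(0,2),(0,2),(0,2),(0,2),(0,2),(2,2),(2,1),(0,1),(1,1),(0,2),(1,2),(0,1),(1,1),(0,2),
    (0,1),(1,2),(0,2),(1,2),(0,2),(2,1),(0,2),(1,1),(1,1),(1,1),(0,2),(0,2),(0,2),(0,1),(0,1)],
   [(120,1),(0,1),(0,2),(0,1),(2,1),(0,1),(0,1),(1,2),(3,1),(0,1),(0,2),(1,1),(0,2),(0,2),(1,1),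
    (1,2),(1,2),(0,2),(0,1),(1,1),(0,2),(0,1),(1,1),(0,2),(0,1),(3,2),(1,2),(1,1),(0,1),(1,1),
    (0,2),(1,2),(1,2),(0,2),(0,2),(0,2),(0,1),(0,2),(0,2),(0,2),(1,2),(0,2),(0,2),(0,1),(0,2),
    (0,2),(0,2),(3,2),(0,1),(0,2),(2,2),(1,1),(0,1),(3,1),(0,1),(0,1),(0,2),(2,2),(0,1),(0,2),
    (0,2),(0,1),(0,2),(0,2),(0,2),(1,2),(0,1),(0,2),(0,2),(1,2),(0,2),(0,1),(1,2),(0,1),(1,1),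
    (3,2),(0,1),(0,2),(1,2),(0,1),(3,2),(0,1),(1,1),(0,2)],
   [(120,1),(0,1),(2,1),(0,1),(0,2),(0,1),(0,1),(0,2),(1,2),(0,1),(0,2),(0,2),(0,2),(0,2),(1,2),
    (0,1),(0,1),(3,2),(0,1),(0,1),(1,1),(0,2),(1,2),(0,2),(0,1),(0,2),(0,1),(0,2),(0,1),(0,1),
    (0,2),(1,2),(0,2),(1,1),(0,2),(1,2),(1,2),(1,2),(0,2),(0,1),(2,2),(0,2),(0,2),(0,2),(1,2),
    (0,2),(1,1),(0,1),(1,1),(1,2),(0,1),(0,1),(0,1),(1,1),(0,2),(0,1),(2,2),(0,2),(2,1),(0,2),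
    (0,1),(3,1),(3,1),(0,1),(0,1),(0,2),(0,1),(0,1),(0,2),(1,1),(0,1),(1,2),(2,2),(0,1),(1,1),
    (0,2),(1,2),(0,1),(0,2),(0,1),(1,2),(1,1),(0,1),(0,1),(0,1),(0,1),(0,2)]]

/-- Rows of a matrix. -/
def matPInv22 : List (List (ℕ × ℕ)) :=
  [[(123,2),(0,2),(1,1),(0,1),(0,1),(0,2),(0,1),(0,1),(1,2),(0,2),(1,2),(1,2),(0,2),(0,2),(0,1),
    (0,2),(0,2),(0,2),(0,1),(0,2),(0,2),(0,2),(0,1),(0,1),(2,1),(0,2),(2,1),(1,1),(0,2),(0,2),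
    (0,2),(0,2),(1,1),(1,1),(1,1),(1,1),(0,1),(0,2),(2,1),(1,2),(0,1),(2,2),(0,1),(0,2),(1,2),
    (0,1),(2,2),(1,2),(0,1),(0,1),(0,1),(0,1),(1,1),(0,1),(0,2),(1,2),(1,1),(2,1),(0,1),(0,1),
    (0,1),(2,2),(0,1),(1,1),(3,2),(0,1),(0,1),(0,2),(0,2),(0,2),(0,2),(0,2),(2,2),(0,1),(1,1),
    (0,2),(0,1),(0,2),(1,1),(1,2),(2,1),(0,2),(0,2),(0,1)],
   [(122,1),(0,2),(0,2),(0,2),(0,1),(1,1),(0,2),(1,2),(0,2),(0,1),(0,2),(0,1),(0,1),(0,1),(0,1),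
    (0,1),(0,2),(0,1),(0,2),(0,2),(1,1),(0,1),(0,2),(2,1),(2,1),(0,2),(0,1),(0,1),(0,1),(0,1),
    (3,1),(0,1),(0,1),(4,2),(2,2),(0,2),(0,2),(0,2),(0,2),(0,2),(0,1),(1,1),(0,2),(0,2),(0,2),
    (0,1),(3,1),(0,1),(1,2),(1,2),(1,2),(0,1),(1,1),(0,1),(0,2),(2,2),(1,2),(2,1),(0,2),(1,2),
    (0,2),(0,1),(0,1),(2,2),(0,2),(2,2),(0,2),(2,1),(1,1),(0,1),(0,2),(1,2),(1,2),(0,2),(0,1),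
    (0,2),(0,2),(0,2),(0,2),(1,1),(0,1),(0,2),(2,2),(0,1)],
   [(0,2),(1,1),(1,1),(1,2),(4,1),(0,2),(1,2),(1,1),(0,2),(0,1),(0,2),(0,1),(1,1),(0,2),(1,2),
    (0,1),(1,2),(0,2),(0,1),(0,1),(1,1),(1,2),(0,2),(0,2),(0,1),(0,2),(1,1),(1,2),(1,1),(0,2),
    (0,1),(0,1),(3,2),(0,1),(0,2),(0,1),(1,2),(0,2),(0,2),(3,2),(1,1),(0,1),(1,1),(0,2),(1,2),
    (0,1),(0,2),(1,1),(1,2),(1,1),(0,1),(3,1),(0,2),(1,1),(1,1),(0,1),(0,1),(0,1),(1,2),(0,1),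
    (1,1),(2,2),(2,2),(2,1),(0,2),(0,1),(0,2),(0,2),(0,2),(0,1),(0,1),(0,2),(0,2),(0,1),(1,1)],
   [(0,2),(1,1),(0,1),(1,2),(0,1),(0,2),(0,2),(0,2),(0,2),(0,2),(0,1),(0,2),(0,1),(0,2),(1,1),
    (1,1),(1,2),(1,1),(0,2),(0,1),(1,1),(0,2),(0,2),(0,1),(0,1),(0,2),(2,2),(1,2),(1,1),(0,1),
    (1,1),(2,1),(0,2),(1,2),(1,1),(0,2),(1,1),(1,1),(1,2),(1,2),(0,1),(2,2),(1,1),(1,2),(0,1),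
    (0,1),(2,2),(1,2),(0,2),(0,1),(0,1),(1,2),(1,1),(0,2),(0,2),(1,1),(0,1),(0,2),(0,2),(0,2),
    (0,1),(2,2),(0,2),(0,1),(1,1),(0,1),(0,2),(0,1),(1,2),(0,1),(1,2),(1,1),(0,2),(0,2),(0,2),
    (1,1),(0,1),(2,2),(0,2),(0,1),(0,2)],
   [(0,1),(2,1),(0,1),(0,2),(0,2),(0,2),(0,1),(0,1),(1,2),(0,1),(0,2),(0,1),(0,2),(5,1),(0,1),
    (0,1),(0,2),(0,2),(2,2),(1,1),(0,2),(1,2),(0,2),(0,1),(0,2),(0,2),(0,2),(0,2),(1,1),(1,2),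
    (0,2),(0,2),(1,2),(3,2),(0,2),(0,1),(0,2),(1,1),(0,2),(0,2),(3,1),(0,2),(1,2),(0,1),(0,2),
    (3,2),(0,1),(0,2),(2,1),(0,2),(0,2),(0,2),(0,2),(0,1),(1,2),(1,2),(0,2),(0,1),(0,2),(0,1),
    (0,1),(0,1),(2,2),(1,2),(0,2),(0,2),(0,1),(0,1),(0,1),(0,1),(1,2),(3,1),(1,2),(0,2),(1,1),
    (0,2),(1,1),(2,2)],
   [(0,1),(2,2),(1,1),(1,2),(0,1),(2,2),(0,2),(0,1),(0,2),(0,1),(0,1),(0,1),(2,2),(0,2),(0,1),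
    (0,2),(0,2),(4,2),(0,1),(0,1),(0,2),(1,2),(0,2),(1,1),(1,2),(0,2),(0,1),(1,2),(0,1),(0,2),
    (0,1),(0,2),(1,2),(1,2),(0,2),(2,2),(1,1),(0,1),(0,1),(1,1),(0,2),(0,2),(0,2),(0,1),(0,1),
    (2,1),(0,1),(0,1),(0,1),(1,2),(1,1),(0,2),(1,2),(0,1),(1,1),(0,1),(0,1),(1,1),(0,2),(0,1),
    (0,2),(0,1),(0,1),(0,2),(0,1),(0,1),(2,2),(4,2),(0,1),(0,1),(1,2),(2,2),(0,2),(0,1),(2,1),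
    (0,2),(1,2),(0,2)],
   [(0,2),(0,2),(0,2),(1,2),(2,2),(0,1),(1,1),(2,1),(0,1),(0,2),(0,1),(1,1),(0,1),(0,2),(2,1),
    (0,2),(0,1),(0,1),(0,1),(0,1),(0,2),(0,1),(0,2),(0,2),(0,2),(0,1),(0,2),(1,1),(0,1),(0,2),
    (0,1),(0,2),(0,1),(0,2),(1,1),(1,1),(0,1),(2,1),(0,1),(2,1),(0,1),(0,2),(2,2),(0,2),(2,1),
    (0,2),(1,2),(1,2),(0,2),(0,2),(0,2),(1,2),(1,2),(0,1),(1,1),(0,1),(1,1),(1,2),(0,1),(0,2),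
    (0,2),(0,2),(1,2),(2,1),(0,1),(2,2),(1,2),(0,2),(0,2),(0,1),(0,1),(1,2),(1,2),(0,1),(0,1),
    (1,2),(2,1),(0,1),(0,2),(0,1),(0,1)],
   [(0,1),(0,1),(0,1),(1,2),(3,1),(0,1),(0,2),(2,1),(0,1),(0,2),(1,1),(0,1),(0,2),(0,2),(3,1),
    (0,1),(2,2),(0,1),(0,1),(0,2),(0,1),(0,1),(0,2),(1,1),(0,2),(0,2),(1,2),(1,2),(0,2),(1,1),
    (0,2),(2,1),(0,1),(0,2),(1,2),(0,2),(0,1),(0,1),(1,2),(0,2),(0,1),(0,2),(0,2),(0,1),(2,1),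
    (0,1),(2,2),(1,2),(1,2),(1,2),(0,2),(0,1),(0,2),(0,1),(1,1),(0,1),(0,2),(0,2),(0,1),(2,1),
    (0,2),(1,1),(0,1),(0,1),(0,2),(0,2),(1,1),(1,1),(0,1),(0,2),(2,2),(2,2),(2,2),(0,2),(0,2),
    (0,2),(0,2),(0,1),(0,1),(0,1),(0,1)]]

/-- Rows of a matrix. -/
def matPInv23 : List (List (ℕ × ℕ)) :=
  [[(1,2),(0,2),(0,2),(0,2),(0,2),(0,2),(1,2),(2,1),(1,1),(0,1),(0,2),(2,1),(0,1),(1,1),(0,2),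
    (0,2),(1,1),(4,2),(2,1),(0,2),(0,1),(2,2),(0,1),(5,2),(1,2),(2,2),(2,2),(0,1),(1,1),(0,2),
    (0,2),(0,2),(0,2),(1,1),(0,1),(1,2),(0,2),(0,1),(0,2),(0,1),(1,2),(1,2),(0,1),(1,2),(0,2),
    (0,1),(1,1),(0,1),(1,2),(2,2),(0,1),(0,2),(3,1),(0,2),(1,1),(1,1),(0,1),(0,1),(0,2),(0,2),
    (0,2),(1,2),(1,1),(0,1),(0,1),(0,2),(0,1),(0,1),(1,1),(2,2),(0,1),(0,2)],
   [(0,2),(0,2),(0,2),(0,2),(1,2),(0,2),(0,2),(0,2),(1,2),(1,2),(0,1),(1,1),(0,1),(2,1),(0,1),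
    (0,1),(0,2),(2,2),(0,1),(0,1),(0,1),(0,2),(0,1),(2,1),(0,2),(1,1),(0,1),(0,1),(0,2),(0,1),
    (0,2),(1,1),(0,1),(0,2),(0,2),(1,1),(0,1),(0,1),(0,1),(0,1),(2,2),(3,2),(0,2),(0,1),(2,2),
    (0,1),(1,2),(0,2),(0,2),(0,1),(0,2),(0,1),(1,1),(0,2),(0,1),(0,2),(0,2),(0,2),(2,2),(0,2),
    (0,1),(3,2),(0,1),(0,1),(1,2),(1,1),(1,1),(1,2),(1,2),(0,2),(0,2),(0,2),(0,2),(0,1),(2,1),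
    (0,1),(1,2),(0,2),(3,2),(0,1),(0,1)],
   [(121,1),(0,1),(1,2),(1,2),(0,1),(0,1),(0,1),(1,1),(0,1),(0,1),(1,1),(1,1),(1,2),(0,1),(0,2),
    (0,2),(0,1),(1,2),(0,2),(2,1),(0,2),(0,2),(0,2),(0,1),(0,1),(0,2),(1,2),(0,2),(0,1),(0,2),
    (1,1),(1,1),(0,2),(0,2),(1,1),(1,2),(0,1),(1,1),(0,1),(2,2),(0,1),(0,2),(0,1),(0,1),(0,2),
    (0,2),(0,1),(1,1),(0,2),(0,2),(1,2),(3,1),(0,2),(0,1),(0,2),(0,1),(2,2),(0,1),(0,1),(1,2),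
    (0,2),(0,2),(0,2),(2,2),(0,1),(0,1),(0,1),(1,2),(1,2),(0,2),(0,1),(1,2),(1,2),(0,1),(0,2),
    (0,1),(1,1),(0,1),(0,1),(0,2),(0,2),(3,2),(0,1),(0,2),(2,1),(0,1),(2,2)],
   [(120,2),(1,1),(0,1),(0,2),(0,1),(0,1),(0,1),(0,2),(1,1),(0,2),(0,1),(0,2),(2,2),(1,1),(1,2),
    (0,1),(0,1),(1,1),(0,2),(1,2),(0,2),(0,2),(0,2),(1,2),(1,2),(1,2),(0,1),(0,1),(0,1),(0,1),
    (1,1),(0,2),(1,1),(2,1),(1,1),(0,1),(0,1),(1,1),(0,2),(0,1),(0,2),(0,1),(1,1),(0,2),(0,1),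
    (0,1),(0,1),(1,1),(1,1),(0,2),(0,2),(1,1),(0,2),(1,2),(2,2),(0,1),(0,2),(0,1),(2,1),(0,2),
    (0,2),(0,2),(1,1),(0,1),(1,2),(0,2),(0,2),(0,1),(0,1),(1,1),(2,1),(2,2),(1,2),(0,1),(0,1),
    (1,1),(1,1),(0,1),(1,1),(2,1),(0,2),(0,2),(1,1),(0,1),(0,2),(0,1),(1,2)],
   [(121,2),(0,2),(1,1),(0,2),(0,1),(1,2),(0,1),(0,2),(0,1),(0,1),(1,1),(1,2),(0,2),(0,2),(0,1),
    (1,1),(0,1),(0,2),(0,2),(0,1),(0,2),(1,1),(0,2),(0,2),(0,1),(0,1),(0,2),(0,1),(1,1),(0,2),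
    (4,2),(0,1),(0,1),(0,2),(0,2),(1,2),(1,2),(0,1),(0,1),(0,1),(1,1),(0,1),(1,1),(0,1),(0,1),
    (0,2),(1,2),(0,1),(1,2),(1,2),(0,2),(0,1),(1,1),(1,2),(0,2),(1,1),(3,2),(0,1),(0,1),(0,1),
    (0,2),(8,2),(0,1),(0,2),(0,1),(0,2),(2,2),(0,2),(1,1),(0,1),(0,1),(1,2),(3,1),(0,2),(0,1),
    (0,2),(0,1),(2,2),(0,1),(1,2),(0,1),(0,2),(0,2),(0,2)],
   [(120,2),(2,1),(0,1),(0,2),(0,2),(2,2),(0,1),(0,1),(1,2),(0,2),(3,1),(0,1),(0,1),(0,2),(0,1),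
    (0,2),(0,2),(0,1),(2,1),(3,1),(0,2),(1,2),(0,2),(0,1),(0,1),(0,2),(0,1),(0,2),(0,2),(1,1),
    (0,1),(4,2),(1,1),(0,1),(0,1),(0,1),(0,1),(0,1),(1,1),(1,1),(0,2),(2,1),(0,2),(0,2),(0,1),
    (0,1),(1,2),(0,2),(2,2),(0,1),(0,1),(0,1),(0,2),(3,1),(0,2),(0,1),(0,1),(0,2),(1,2),(0,2),
    (2,1),(0,2),(1,1),(1,2),(0,1),(0,2),(0,1),(1,1),(0,2),(0,1),(0,1),(0,2),(0,1),(0,2),(1,1),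
    (0,1),(2,1),(0,2),(0,1),(3,2),(0,1),(0,2),(1,2),(1,1)],
   [(120,2),(0,2),(0,2),(0,1),(1,1),(1,2),(0,2),(0,1),(1,2),(3,1),(0,2),(1,1),(1,1),(0,2),(0,1),
    (1,2),(0,1),(0,1),(0,1),(0,2),(0,1),(0,1),(0,1),(1,2),(1,2),(1,2),(0,1),(0,2),(0,1),(0,1),
    (1,1),(1,1),(1,1),(1,1),(0,2),(1,1),(0,1),(1,1),(0,1),(0,1),(1,2),(0,2),(1,1),(0,1),(0,2),
    (0,1),(0,2),(0,1),(1,1),(1,1),(1,1),(1,2),(0,2),(2,1),(2,2),(0,2),(0,2),(1,2),(4,1),(0,1),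
    (0,1),(3,2),(1,2),(1,1),(0,1),(0,2),(0,2),(0,1),(2,2),(0,1),(0,1),(0,1),(0,1),(0,1),(1,2),
    (1,2),(0,2),(0,1),(4,2),(0,2),(0,2)],
   [(120,1),(0,1),(0,1),(0,1),(0,1),(0,2),(0,2),(0,2),(1,1),(0,2),(2,1),(1,2),(0,1),(0,1),(0,1),
    (0,1),(0,2),(0,1),(1,2),(0,1),(0,2),(2,2),(2,1),(0,1),(2,2),(0,2),(0,2),(0,2),(0,2),(0,1),
    (1,1),(1,1),(0,2),(0,1),(4,2),(0,2),(0,2),(0,1),(0,1),(0,2),(1,1),(0,2),(0,1),(1,1),(0,2),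
    (1,2),(0,2),(0,2),(0,1),(0,2),(0,1),(0,2),(0,2),(0,2),(1,1),(0,2),(1,2),(1,1),(1,1),(0,2),
    (1,1),(0,2),(0,1),(0,2),(0,1),(0,1),(0,2),(2,1),(2,1),(0,2),(0,2),(0,1),(0,2),(0,1),(0,1),
    (0,2),(0,1),(0,1),(1,1),(0,2),(0,2),(0,2),(0,2),(1,2),(0,2),(1,2),(0,1),(0,1),(0,2),(1,2),
    (0,2),(0,1),(0,1)]]

/-- Rows of a matrix. -/
def matPInv24 : List (List (ℕ × ℕ)) :=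
  [[(0,2),(0,1),(0,1),(0,1),(0,2),(0,2),(2,2),(1,2),(1,2),(0,2),(1,1),(0,2),(0,2),(0,2),(0,1),
    (0,1),(0,2),(0,2),(0,2),(0,2),(0,2),(0,2),(0,1),(0,1),(1,1),(3,1),(1,2),(0,1),(0,2),(0,2),
    (0,1),(0,2),(0,1),(0,1),(0,1),(0,1),(0,2),(0,1),(0,2),(0,2),(1,2),(0,2),(0,1),(0,2),(0,2),
    (0,1),(0,1),(0,2),(0,1),(0,2),(3,1),(1,2),(0,2),(0,1),(1,2),(1,1),(0,1),(2,1),(1,2),(0,1),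
    (0,2),(4,1),(3,1),(2,1),(3,2),(0,1),(0,1),(0,1),(0,1),(0,1),(1,1),(0,1),(0,1),(0,2),(0,1),
    (0,2),(0,2),(0,2),(0,1),(1,1),(0,2),(0,1),(2,2),(0,2)],
   [(0,1),(0,2),(0,1),(0,1),(0,2),(0,2),(0,2),(0,1),(0,2),(0,1),(0,2),(1,1),(0,2),(1,1),(0,1),
    (0,1),(0,1),(2,1),(0,2),(0,1),(0,2),(0,2),(1,1),(0,1),(0,1),(1,2),(0,1),(0,1),(1,2),(2,2),
    (0,2),(1,1),(2,1),(2,1),(1,1),(0,2),(0,2),(0,1),(1,2),(2,2),(0,2),(0,2),(0,1),(1,1),(0,2),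
    (0,2),(0,2),(1,2),(0,1),(0,1),(6,1),(0,2),(0,1),(1,1),(0,2),(1,2),(0,2),(0,1),(0,1),(0,2),
    (0,2),(0,2),(5,2),(1,2),(0,2),(1,2),(0,2),(1,2),(0,1),(0,1),(0,2),(0,1),(2,2),(0,1),(1,2),
    (3,1),(0,2),(0,1)],
   [(0,1),(1,2),(0,1),(2,2),(3,1),(0,1),(0,1),(2,2),(1,1),(0,1),(0,2),(0,1),(0,1),(0,1),(1,2),
    (0,1),(0,2),(0,2),(0,2),(3,1),(2,1),(0,2),(0,1),(1,2),(0,2),(0,1),(0,2),(1,2),(0,1),(1,2),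
    (1,1),(1,2),(1,1),(1,1),(3,2),(2,2),(1,2),(0,2),(0,1),(0,1),(0,2),(0,2),(0,1),(1,2),(0,2),
    (0,1),(1,1),(0,2),(0,1),(0,2),(0,1),(1,2),(0,1),(0,2),(0,2),(0,1),(0,1),(1,1),(3,2),(0,1),
    (0,1),(0,2),(1,1),(0,2),(0,1),(1,2),(1,1),(0,1),(0,1),(1,2),(0,2),(0,1),(0,1),(0,2),(0,1),
    (1,2),(0,2),(0,2)],
   [(0,2),(1,1),(0,2),(1,2),(0,2),(0,1),(2,2),(0,2),(0,1),(0,2),(0,2),(0,2),(0,1),(0,1),(2,1),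
    (1,1),(0,2),(1,1),(1,2),(0,1),(3,2),(0,1),(1,1),(0,2),(0,1),(1,1),(0,2),(1,1),(0,1),(0,2),
    (0,2),(1,2),(1,2),(0,2),(0,1),(1,2),(0,1),(0,1),(0,2),(0,1),(0,2),(0,2),(2,2),(1,2),(0,2),
    (0,2),(0,2),(2,2),(1,2),(0,1),(0,1),(0,2),(0,1),(0,2),(0,2),(3,1),(0,1),(2,1),(1,1),(0,1),
    (3,2),(2,2),(1,2),(0,1),(0,2),(0,1),(0,1),(1,1),(1,1),(0,1),(0,1),(0,1),(0,2),(0,1),(0,1),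
    (1,1),(0,1),(0,2),(0,1),(0,2),(0,1)],
   [(120,1),(2,1),(0,2),(1,2),(0,2),(0,2),(0,1),(1,2),(0,1),(0,1),(2,1),(1,1),(1,1),(0,2),(0,1),
    (0,1),(1,1),(0,2),(0,2),(0,2),(0,2),(0,2),(0,1),(0,1),(1,2),(1,2),(2,1),(2,1),(0,1),(2,2),
    (0,1),(1,2),(1,2),(0,2),(0,2),(0,2),(0,2),(2,1),(0,2),(0,2),(0,2),(0,2),(1,2),(0,1),(0,1),
    (0,2),(0,1),(1,1),(1,1),(0,1),(1,2),(1,1),(1,2),(0,2),(1,2),(0,1),(0,1),(1,2),(1,1),(2,2),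
    (0,2),(0,1),(1,2),(1,1),(0,1),(4,1),(1,2),(0,1),(0,1),(0,1),(0,1),(0,1),(0,2),(0,2),(0,2),
    (2,1),(2,2),(1,2),(1,2),(1,1),(1,1)],
   [(121,2),(0,1),(0,1),(0,1),(2,2),(0,2),(1,2),(0,1),(0,1),(0,1),(0,2),(1,2),(1,2),(1,1),(0,1),
    (0,1),(2,1),(0,2),(0,1),(1,1),(1,2),(0,1),(0,2),(0,2),(0,1),(0,2),(0,1),(0,2),(2,2),(3,1),
    (0,1),(0,1),(1,2),(0,1),(0,2),(2,2),(2,2),(1,1),(0,1),(0,2),(0,2),(1,2),(0,1),(0,2),(0,1),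
    (1,2),(1,1),(2,2),(1,2),(0,2),(1,2),(0,1),(0,2),(0,2),(0,2),(0,1),(0,2),(0,1),(0,2),(0,2),
    (0,2),(2,2),(0,2),(0,1),(0,2),(0,1),(0,1),(0,1),(0,2),(0,1),(1,1),(0,2),(0,1),(1,1),(0,2),
    (0,1),(0,1),(0,2),(2,2),(0,2),(0,1),(0,2),(1,2),(1,2),(0,2),(1,2),(0,1),(0,1),(0,2),(0,1)],
   [(120,1),(0,2),(0,1),(0,2),(0,2),(0,2),(0,2),(1,1),(3,1),(0,1),(2,2),(0,1),(1,2),(0,2),(1,1),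
    (1,2),(1,2),(0,2),(1,2),(0,2),(2,1),(0,1),(1,2),(1,2),(0,1),(2,1),(0,1),(0,1),(0,1),(0,1),
    (0,1),(0,2),(0,2),(0,2),(0,2),(0,2),(0,2),(0,2),(0,2),(1,2),(0,1),(0,1),(2,1),(0,2),(1,1),
    (0,2),(0,2),(1,2),(0,1),(0,1),(1,2),(0,1),(1,1),(2,2),(1,2),(1,2),(0,2),(0,1),(0,2),(1,1),
    (0,1),(0,2),(2,2),(1,1),(0,1),(1,2),(0,1),(0,1),(0,1),(0,2),(1,1),(0,1),(1,1),(0,2),(0,2),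
    (0,2),(2,1),(0,2),(0,1),(0,2),(0,1),(1,1),(0,1),(0,2),(0,2),(0,2),(0,1),(0,2),(0,2),(0,1)],
   [(120,1),(0,2),(0,2),(0,1),(0,2),(2,1),(1,1),(0,1),(0,1),(0,2),(0,2),(0,2),(1,1),(2,1),(1,2),
    (1,2),(0,1),(2,2),(0,1),(2,2),(0,1),(0,2),(0,1),(0,1),(0,1),(0,2),(0,1),(3,2),(0,2),(0,2),
    (0,1),(0,1),(2,2),(0,2),(0,2),(0,1),(0,1),(0,1),(0,1),(0,1),(0,2),(1,1),(0,2),(0,1),(0,2),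
    (0,1),(0,1),(0,1),(0,1),(1,2),(0,2),(0,2),(0,1),(1,1),(1,2),(2,1),(0,2),(2,2),(0,2),(3,2),
    (1,2),(1,1),(2,2),(2,1),(1,1),(0,2),(0,2),(0,1),(0,1),(0,2),(0,1),(1,2),(0,2),(1,2),(0,1),
    (0,2),(0,2),(0,2),(0,2),(0,1),(1,1),(0,1),(0,1),(0,2),(0,1),(0,1),(0,1),(0,2),(0,1),(0,1)]]

/-- Rows of a matrix. -/
def matPInv25 : List (List (ℕ × ℕ)) :=
  [[(120,2),(1,2),(2,1),(1,1),(2,2),(0,2),(0,1),(0,2),(0,1),(1,2),(0,2),(1,1),(0,1),(1,1),(0,1),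
    (3,1),(0,2),(0,2),(0,2),(1,1),(0,1),(3,2),(1,2),(0,2),(1,2),(0,1),(0,1),(0,2),(0,1),(1,2),
    (0,1),(0,2),(0,1),(0,1),(0,2),(1,1),(0,1),(0,2),(0,2),(0,2),(0,2),(0,1),(1,2),(1,1),(0,1),
    (0,1),(0,1),(0,1),(0,2),(1,2),(0,1),(0,2),(1,2),(2,1),(0,1),(0,2),(0,1),(1,2),(0,1),(0,2),
    (0,1),(0,2),(0,1),(0,2),(0,1),(0,1),(0,1),(1,2),(0,2),(0,1),(0,1),(0,2),(1,1),(0,2),(0,1),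
    (0,1),(0,2),(0,1),(0,2),(2,2),(0,1),(0,2),(0,1),(0,2),(0,1),(0,1),(2,2),(1,2),(1,1),(0,1),
    (0,2),(0,2),(0,1)],
   [(120,2),(1,2),(0,2),(0,1),(1,1),(0,2),(0,1),(0,2),(3,1),(1,2),(0,1),(1,2),(0,2),(0,2),(0,1),
    (1,1),(0,2),(0,1),(0,1),(0,1),(2,1),(0,1),(1,2),(0,2),(1,2),(0,1),(1,1),(1,1),(0,1),(0,1),
    (0,1),(0,2),(0,1),(0,1),(1,2),(0,1),(0,1),(0,2),(0,1),(1,1),(0,2),(0,1),(0,2),(0,1),(0,1),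
    (2,2),(0,2),(2,2),(1,2),(0,2),(0,2),(1,2),(0,1),(0,2),(0,2),(0,1),(0,1),(0,2),(0,1),(0,1),
    (0,1),(1,1),(0,2),(0,1),(0,1),(0,2),(1,1),(0,1),(2,1),(0,1),(0,1),(1,2),(0,1),(1,1),(2,2),
    (0,1),(0,2),(3,1),(0,1),(0,2),(2,1),(3,2),(0,1),(2,2),(0,2),(1,2),(0,1)],
   [(120,1),(0,1),(0,2),(1,1),(0,1),(3,2),(0,2),(0,2),(0,1),(5,2),(2,1),(1,2),(2,1),(0,2),(0,1),
    (0,1),(0,2),(0,1),(1,2),(0,1),(0,1),(1,2),(0,1),(0,1),(0,1),(0,2),(3,2),(2,2),(1,2),(0,2),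
    (0,2),(1,1),(1,2),(0,1),(2,2),(3,1),(0,2),(0,1),(2,1),(0,2),(0,1),(1,2),(0,2),(2,2),(0,1),
    (1,2),(0,1),(0,1),(0,1),(0,1),(0,1),(1,1),(1,2),(1,1),(1,1),(0,2),(0,2),(0,1),(1,1),(1,1),
    (0,1),(0,1),(3,2),(2,2),(0,1),(0,1),(0,1),(3,1),(0,2),(0,1),(0,2),(0,1),(1,2),(1,2),(2,1)],
   [(120,2),(0,1),(0,1),(0,1),(0,2),(1,1),(0,2),(0,2),(3,2),(1,2),(0,2),(0,1),(0,1),(0,1),(0,1),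
    (0,2),(0,1),(1,1),(1,1),(0,1),(0,2),(0,1),(0,2),(0,1),(0,1),(0,1),(0,1),(0,1),(0,2),(1,1),
    (0,1),(0,2),(1,2),(2,2),(4,1),(0,1),(2,1),(0,2),(2,2),(1,1),(1,1),(0,2),(0,1),(0,2),(0,2),
    (0,1),(0,2),(0,1),(0,2),(1,2),(0,1),(0,2),(1,2),(1,1),(0,1),(0,2),(0,2),(0,2),(0,2),(0,1),
    (0,2),(0,2),(2,1),(0,1),(0,1),(0,2),(0,2),(0,1),(0,1),(1,1),(0,2),(0,1),(0,1),(0,2),(1,1),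
    (1,1),(0,1),(0,1),(0,1),(0,1),(1,1),(1,1),(0,2),(0,1),(1,2),(1,2),(0,1),(0,2),(0,2),(0,2),
    (0,2),(0,2),(1,1)],
   [(120,2),(0,1),(0,2),(1,1),(0,2),(0,2),(0,2),(1,1),(0,2),(0,2),(0,2),(2,2),(0,2),(0,1),(0,2),
    (1,2),(1,1),(0,1),(2,1),(0,1),(1,1),(1,2),(0,1),(0,1),(1,2),(1,1),(3,2),(0,1),(0,2),(0,1),
    (0,1),(0,1),(1,2),(0,1),(1,1),(0,2),(0,1),(0,2),(0,1),(0,2),(0,1),(0,2),(1,1),(1,2),(0,2),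
    (0,2),(0,1),(0,2),(2,2),(0,1),(0,1),(0,1),(1,2),(0,1),(1,1),(0,2),(0,2),(0,2),(0,2),(2,1),
    (0,2),(0,1),(2,2),(0,1),(0,2),(0,1),(0,2),(0,1),(0,2),(0,2),(2,2),(0,2),(0,1),(0,2),(0,1),
    (1,1),(0,2),(1,2),(0,1),(0,1),(0,2),(2,1),(1,2),(1,1),(0,2),(1,1),(0,2),(0,2),(0,2),(0,1)],
   [(123,1),(1,2),(0,2),(0,2),(0,2),(0,1),(3,2),(0,1),(2,1),(0,1),(2,1),(2,2),(0,2),(0,1),(0,2),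
    (0,2),(1,2),(0,1),(0,1),(0,1),(0,2),(0,2),(0,1),(0,1),(0,1),(0,1),(0,2),(0,1),(1,1),(0,1),
    (0,2),(0,2),(3,1),(0,1),(0,1),(0,2),(0,1),(0,2),(0,2),(0,1),(0,2),(2,1),(0,1),(2,2),(0,2),
    (0,1),(0,1),(5,2),(2,2),(0,1),(0,2),(0,2),(0,2),(0,1),(1,2),(0,2),(0,2),(0,2),(0,2),(0,1),
    (1,1),(0,2),(0,1),(0,1),(1,2),(0,1),(0,2),(0,1),(1,2),(2,2),(0,1),(0,2),(3,1),(0,1),(2,1),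
    (1,2),(1,2),(0,1),(1,2),(0,2),(0,2),(0,2),(0,2),(1,2)],
   [(120,2),(0,1),(0,1),(1,2),(0,1),(0,2),(2,1),(0,2),(2,1),(1,2),(0,2),(0,1),(2,2),(0,2),(1,1),
    (1,1),(0,1),(0,1),(0,2),(0,2),(1,1),(0,1),(0,2),(0,2),(0,1),(0,1),(0,2),(1,1),(0,2),(0,2),
    (0,2),(0,2),(0,2),(1,2),(1,1),(1,1),(1,1),(3,1),(0,2),(0,1),(0,2),(0,1),(0,2),(0,1),(3,1),
    (0,2),(1,1),(0,2),(0,2),(4,1),(2,1),(0,2),(0,2),(0,1),(0,2),(1,2),(0,1),(0,1),(3,1),(1,2),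
    (0,2),(0,1),(0,2),(0,2),(0,1),(2,2),(0,1),(0,2),(1,1),(0,2),(0,2),(1,1),(0,1),(1,1),(0,1),
    (0,1),(0,1),(2,2),(2,2),(2,2),(0,2)],
   [(122,2),(0,2),(0,2),(0,2),(1,1),(0,2),(0,1),(1,1),(0,1),(5,2),(1,2),(0,2),(0,2),(0,1),(0,2),
    (0,1),(0,2),(1,1),(1,2),(1,1),(0,1),(0,1),(0,1),(0,1),(0,1),(0,2),(0,1),(1,2),(0,1),(1,1),
    (2,1),(0,1),(2,1),(0,2),(0,2),(0,2),(0,1),(1,1),(0,1),(0,2),(0,1),(0,1),(2,2),(0,1),(0,2),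
    (0,1),(0,1),(2,1),(0,1),(0,1),(0,2),(0,1),(2,1),(0,1),(1,1),(0,2),(1,2),(1,2),(3,2),(1,2),
    (2,1),(0,2),(0,1),(0,1),(1,2),(0,1),(0,2),(1,1),(0,1),(0,2),(0,2),(0,1),(0,2),(3,1),(1,1),
    (0,2),(0,2),(0,1),(1,1),(0,1),(2,1),(0,2),(0,2),(0,1)]]

/-- Rows of a matrix. -/
def matPInv26 : List (List (ℕ × ℕ)) :=
  [[(1,2),(0,2),(2,1),(0,2),(2,1),(0,1),(3,2),(0,1),(0,1),(0,2),(0,2),(0,1),(1,1),(1,2),(0,1),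
    (0,2),(0,1),(0,1),(1,2),(0,1),(0,1),(0,1),(0,2),(1,1),(0,1),(0,2),(1,2),(0,1),(7,1),(0,1),
    (0,2),(0,2),(1,2),(0,1),(0,2),(3,2),(0,1),(0,2),(0,2),(0,2),(1,1),(0,1),(0,1),(0,2),(1,2),
    (0,1),(0,1),(0,1),(0,1),(0,2),(0,1),(1,2),(4,1),(2,1),(0,2),(5,2),(1,2),(1,1),(0,1),(0,1),
    (1,1),(1,2),(0,2),(1,2),(1,2),(0,1),(0,2),(1,1),(0,1),(0,2),(0,2),(0,1),(0,2),(0,1),(0,2)],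
   [(0,2),(0,2),(0,1),(0,2),(5,1),(0,2),(0,2),(0,1),(0,2),(0,2),(1,1),(0,1),(1,2),(0,1),(0,1),
    (0,1),(0,2),(0,2),(0,2),(0,1),(1,1),(0,1),(2,2),(0,2),(0,1),(5,2),(0,1),(0,2),(0,2),(0,1),
    (1,1),(0,1),(1,1),(0,2),(2,2),(0,2),(0,1),(0,2),(0,2),(0,1),(0,2),(0,1),(1,1),(0,2),(0,2),
    (4,1),(0,2),(1,2),(1,1),(0,1),(0,2),(0,2),(1,1),(0,2),(0,2),(0,2),(2,2),(0,1),(0,1),(1,1),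
    (1,1),(0,1),(1,2),(0,2),(2,2),(2,2),(2,1),(0,1),(0,1),(3,1),(1,1),(0,2),(2,1),(0,2),(1,1)],
   [(1,2),(2,2),(1,1),(0,1),(0,1),(0,2),(0,1),(0,1),(0,1),(0,2),(0,1),(1,1),(1,2),(0,2),(0,1),
    (1,1),(1,2),(1,2),(0,1),(2,2),(1,1),(1,1),(0,2),(0,1),(2,1),(0,2),(0,2),(0,2),(0,1),(1,1),
    (0,1),(2,1),(0,2),(0,1),(0,1),(0,1),(1,2),(3,2),(0,2),(4,1),(0,2),(1,1),(0,1),(1,2),(0,2),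
    (0,1),(0,1),(0,1),(3,1),(0,1),(1,2),(0,2),(0,1),(1,1),(1,1),(1,2),(2,1),(1,1),(0,1),(2,1),
    (0,2),(0,2),(0,2),(0,2),(0,2),(2,1),(0,1),(0,2),(0,2),(0,1),(0,1),(0,2),(1,2),(0,2),(1,2)],
   [(0,1),(0,2),(0,2),(1,2),(0,1),(2,1),(0,2),(1,2),(0,1),(2,1),(0,2),(0,2),(0,2),(0,1),(0,2),
    (1,1),(1,1),(0,1),(0,1),(0,2),(3,2),(1,1),(0,1),(2,2),(0,2),(1,1),(0,1),(0,1),(0,1),(0,2),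
    (0,2),(1,1),(1,1),(0,2),(0,1),(1,2),(0,2),(0,2),(0,1),(0,1),(2,1),(0,2),(0,2),(1,2),(0,2),
    (3,2),(0,2),(0,1),(0,2),(0,1),(0,1),(0,1),(0,2),(0,2),(0,1),(1,1),(0,2),(0,1),(4,2),(0,2),
    (0,2),(0,1),(0,1),(1,1),(0,1),(0,2),(1,2),(0,2),(0,2),(0,1),(0,2),(1,2),(0,2),(1,2),(0,1),
    (1,1),(2,1),(0,2),(0,1),(0,2),(0,2),(0,2),(0,1),(0,2)],
   [(2,2),(0,2),(0,2),(4,2),(0,1),(1,1),(0,1),(0,2),(0,1),(0,1),(0,1),(0,2),(0,1),(0,2),(1,1),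
    (0,2),(2,1),(1,1),(0,1),(0,1),(1,1),(0,1),(0,1),(0,1),(0,2),(0,2),(0,2),(2,2),(0,1),(1,2),
    (0,2),(0,2),(1,2),(0,1),(0,2),(4,2),(0,2),(0,2),(1,1),(0,1),(1,1),(0,1),(0,1),(0,1),(2,1),
    (0,2),(0,1),(0,1),(0,2),(3,1),(1,1),(0,1),(0,2),(0,1),(3,1),(1,1),(0,1),(1,1),(0,1),(1,2),
    (0,2),(0,1),(1,2),(0,2),(1,2),(2,1),(2,1),(0,1),(2,1),(0,1),(0,2),(0,2),(1,1),(0,1),(0,2)],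
   [(0,1),(1,1),(1,2),(2,2),(1,2),(0,1),(1,2),(0,1),(0,1),(0,2),(0,1),(2,2),(0,1),(0,2),(1,1),
    (0,2),(0,1),(0,2),(0,1),(1,1),(0,1),(1,1),(0,2),(0,2),(1,2),(0,1),(1,1),(1,2),(2,2),(0,1),
    (1,2),(1,1),(1,1),(1,1),(0,2),(0,2),(0,1),(0,2),(0,2),(1,1),(1,1),(0,1),(1,2),(0,1),(0,1),
    (0,1),(0,2),(1,1),(0,1),(0,2),(1,1),(0,1),(0,2),(3,2),(3,1),(3,1),(0,2),(0,1),(1,2),(0,2),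
    (2,1),(0,1),(1,2),(2,2),(1,1),(0,2),(1,2),(0,2),(0,2),(0,1),(0,2),(5,1)],
   [(0,2),(0,2),(0,2),(0,1),(1,1),(0,1),(0,2),(0,1),(3,2),(0,1),(0,1),(0,1),(2,2),(0,2),(0,2),
    (3,2),(0,2),(0,2),(0,1),(0,1),(3,2),(0,1),(1,2),(0,2),(0,2),(1,1),(0,2),(1,2),(4,1),(2,1),
    (1,1),(1,2),(0,2),(0,2),(0,2),(0,2),(0,2),(0,1),(0,1),(2,2),(0,2),(1,1),(0,1),(0,1),(0,1),
    (1,2),(0,1),(0,1),(0,1),(2,2),(2,2),(1,2),(0,2),(0,2),(2,2),(0,1),(0,2),(0,2),(0,2),(0,1),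
    (0,2),(2,2),(0,2),(0,1),(1,1),(0,1),(0,2),(0,1),(0,1),(1,2),(0,1),(0,1),(0,2),(0,2),(1,2),
    (3,2),(0,1),(0,2)],
   [(0,2),(0,1),(0,2),(0,1),(0,2),(0,2),(0,2),(0,2),(1,2),(0,2),(1,2),(1,1),(1,1),(0,2),(0,1),
    (0,1),(0,1),(0,1),(1,2),(0,2),(0,1),(0,1),(1,2),(0,2),(1,1),(0,1),(2,1),(0,1),(1,1),(0,2),
    (1,2),(1,1),(0,1),(0,1),(0,1),(1,1),(0,1),(0,1),(0,2),(0,2),(1,2),(0,1),(1,2),(0,2),(1,2),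
    (3,1),(0,2),(1,2),(0,1),(2,1),(2,2),(0,2),(2,1),(1,2),(2,2),(0,2),(0,1),(0,2),(0,1),(0,1),
    (2,1),(0,2),(0,2),(0,2),(1,1),(2,1),(0,2),(1,1),(0,1),(0,2),(1,1),(0,1),(0,2),(0,2),(0,2),
    (0,1),(0,2),(3,1),(0,1),(0,1),(0,1)]]

/-- Rows of a matrix. -/
def matPInv27 : List (List (ℕ × ℕ)) :=
  [[(0,1),(2,2),(0,2),(3,1),(1,1),(1,2),(0,1),(2,2),(0,2),(0,2),(0,2),(1,1),(0,1),(1,1),(0,2),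
    (0,2),(0,2),(0,2),(0,2),(0,1),(0,2),(0,1),(0,2),(0,1),(1,1),(0,2),(0,1),(0,1),(0,1),(1,1),
    (1,2),(2,2),(1,2),(0,1),(2,1),(0,2),(1,2),(0,2),(1,1),(0,2),(4,1),(1,1),(0,1),(0,1),(1,2),
    (0,1),(1,1),(0,2),(1,1),(1,1),(0,2),(2,1),(1,1),(0,1),(3,1),(0,2),(3,2),(1,1),(2,2),(0,2),
    (0,1),(1,2),(2,2),(0,2),(0,2),(0,1),(0,1),(0,1),(2,1),(0,2),(1,2),(0,2)],
   [(1,2),(4,1),(0,2),(0,1),(3,2),(0,1),(1,2),(0,2),(1,2),(0,1),(0,1),(3,2),(0,2),(5,2),(0,1),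
    (0,1),(0,1),(0,2),(1,2),(0,1),(0,2),(2,1),(0,2),(2,2),(1,2),(0,1),(1,2),(0,1),(0,1),(0,2),
    (0,1),(0,2),(2,1),(2,1),(0,1),(1,1),(1,2),(0,1),(0,2),(1,1),(0,1),(4,1),(0,2),(1,1),(2,1),
    (0,2),(0,1),(0,2),(0,1),(1,2),(0,2),(0,1),(0,1),(1,2),(0,2),(1,1),(0,2),(0,1),(1,2),(0,2),
    (1,2),(0,2),(0,2),(3,1),(0,2),(0,2),(4,2),(0,1),(0,2)],
   [(121,1),(0,2),(1,2),(1,1),(0,1),(2,2),(0,1),(0,1),(0,2),(1,1),(2,1),(0,2),(1,2),(2,2),(1,1),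
    (0,2),(4,2),(2,2),(1,2),(0,2),(0,1),(0,1),(0,2),(0,1),(2,2),(1,1),(0,1),(0,1),(1,1),(0,2),
    (0,1),(1,2),(1,1),(0,2),(1,1),(0,2),(0,1),(1,1),(1,2),(0,2),(0,1),(0,1),(2,1),(2,2),(0,2),
    (1,2),(1,1),(0,1),(0,2),(0,2),(0,1),(0,2),(1,1),(1,1),(0,2),(1,1),(1,2),(2,1),(0,1),(0,1),
    (0,1),(0,2),(0,2),(1,1),(1,2),(0,1),(0,2),(0,1),(0,2),(0,2),(0,1),(0,2),(1,2),(0,1),(0,1),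
    (0,1),(0,1),(1,1),(0,1),(0,1),(0,2),(0,2),(0,1),(0,1)],
   [(120,1),(1,2),(1,2),(0,2),(0,2),(1,2),(1,2),(1,2),(0,2),(1,2),(2,2),(0,1),(1,2),(0,2),(1,1),
    (0,2),(0,1),(0,1),(0,2),(0,2),(0,1),(0,1),(0,1),(0,1),(0,1),(0,2),(1,1),(0,2),(0,1),(0,1),
    (2,2),(1,2),(0,2),(1,1),(0,2),(0,2),(0,2),(0,2),(0,2),(1,2),(0,2),(1,2),(0,1),(2,1),(0,1),
    (1,2),(3,2),(1,1),(0,2),(0,2),(1,2),(0,1),(0,1),(0,2),(0,1),(1,2),(0,2),(0,2),(0,1),(0,1),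
    (1,2),(0,2),(0,2),(1,1),(0,2),(1,2),(0,1),(0,1),(0,1),(3,1),(0,1),(0,2),(4,2),(1,1),(0,1),
    (0,1),(4,2),(0,1),(1,2),(0,2),(0,2),(1,1),(1,1),(0,1)],
   [(121,2),(0,1),(2,1),(1,1),(0,2),(1,2),(1,2),(2,1),(0,2),(0,1),(0,2),(1,2),(0,2),(0,1),(0,2),
    (0,1),(0,2),(1,1),(0,1),(0,1),(1,1),(1,2),(0,2),(2,1),(0,1),(0,2),(0,1),(0,1),(0,1),(0,1),
    (1,1),(0,1),(1,2),(0,2),(0,2),(0,2),(0,2),(0,1),(0,2),(0,2),(0,2),(0,1),(0,2),(3,2),(0,2),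
    (0,2),(0,1),(0,1),(0,2),(2,2),(1,2),(0,2),(0,2),(2,1),(0,2),(0,2),(0,1),(0,2),(0,2),(4,1),
    (2,2),(0,2),(0,1),(0,1),(3,2),(1,2),(0,1),(0,2),(2,1),(1,2),(0,2),(0,2),(0,2),(0,1),(0,1),
    (0,1),(2,2),(0,2),(0,1),(1,2),(0,2),(0,1),(1,2),(0,2),(0,1),(0,2),(0,2)],
   [(122,1),(1,1),(0,1),(0,2),(5,2),(0,1),(0,1),(0,2),(0,1),(0,2),(1,2),(3,2),(0,1),(2,2),(0,1),
    (0,1),(0,1),(0,1),(0,2),(1,1),(0,1),(0,2),(0,1),(0,2),(0,1),(0,2),(0,2),(1,2),(1,2),(0,1),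
    (0,1),(0,2),(0,1),(2,2),(0,1),(0,2),(0,2),(0,2),(0,1),(0,1),(1,1),(0,1),(1,2),(0,2),(0,2),
    (0,1),(1,1),(1,2),(4,2),(0,1),(0,2),(1,2),(0,2),(1,1),(1,1),(0,2),(0,1),(0,2),(3,1),(2,2),
    (1,1),(0,2),(0,2),(0,1),(0,2),(0,2),(0,2),(0,1),(0,2),(0,1),(0,2),(0,1),(1,1),(2,2),(0,1),
    (0,1),(0,1),(0,1),(0,1),(0,2),(0,1),(0,2),(0,2),(0,1),(1,1),(1,2),(0,1)],
   [(120,2),(1,1),(0,1),(0,2),(0,2),(1,1),(1,2),(0,2),(0,2),(0,2),(0,2),(0,2),(0,1),(0,1),(1,1),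
    (0,2),(1,2),(0,2),(0,2),(0,2),(1,2),(0,2),(0,2),(0,2),(0,1),(2,1),(0,1),(0,2),(0,2),(0,2),
    (1,2),(0,1),(0,2),(2,2),(3,2),(0,2),(5,1),(0,1),(1,2),(1,2),(0,2),(0,2),(1,1),(0,1),(0,2),
    (0,1),(2,2),(2,2),(1,1),(1,2),(1,2),(0,1),(0,2),(0,1),(0,1),(2,2),(1,2),(2,1),(0,2),(5,2),
    (0,1),(2,2),(0,1),(0,2),(0,2),(0,2),(0,2),(1,1),(1,1),(0,1),(1,1),(0,2),(0,1),(0,1),(0,1),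
    (0,1),(0,2),(0,1),(0,2),(1,2),(1,2)],
   [(120,2),(1,2),(0,1),(0,2),(0,2),(0,2),(4,1),(0,1),(0,2),(1,1),(1,1),(0,1),(1,2),(1,1),(0,2),
    (0,2),(3,1),(1,1),(0,1),(2,1),(0,2),(0,1),(1,2),(0,1),(0,1),(0,1),(0,2),(1,1),(0,2),(0,1),
    (0,1),(0,1),(2,1),(0,2),(0,1),(0,2),(1,1),(1,1),(2,2),(1,2),(0,2),(0,1),(2,1),(0,1),(1,1),
    (1,1),(0,2),(0,2),(0,1),(0,2),(0,2),(0,1),(2,2),(0,2),(2,2),(0,2),(0,1),(1,2),(0,1),(0,2),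
    (2,1),(1,2),(0,1),(0,2),(0,2),(1,1),(2,2),(0,1),(2,2),(1,2),(0,1),(1,1),(0,2),(3,1),(0,2),
    (1,1),(1,1),(0,2)]]

/-- Rows of a matrix. -/
def matPInv28 : List (List (ℕ × ℕ)) :=
  [[(120,1),(1,1),(2,1),(1,1),(0,1),(0,1),(4,1),(0,2),(0,2),(0,1),(0,2),(1,2),(0,1),(0,2),(0,1),
    (1,1),(1,1),(2,1),(0,1),(1,1),(0,1),(2,2),(0,2),(0,1),(1,2),(1,1),(0,1),(0,2),(0,1),(3,2),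
    (1,1),(2,2),(4,2),(1,1),(0,1),(1,2),(0,1),(0,2),(0,2),(1,2),(1,1),(1,1),(0,1),(0,1),(0,2),
    (2,2),(0,1),(2,2),(0,1),(0,1),(0,2),(1,2),(0,2),(0,1),(1,2),(0,2),(1,2),(0,1),(1,2),(0,1),
    (1,2),(0,1),(0,1),(0,1),(1,1),(0,1),(0,1),(1,1),(0,2),(0,1),(0,2),(0,1),(1,2),(0,1),(0,1),
    (0,1),(0,2),(0,2),(0,1),(2,2),(0,1)],
   [(120,1),(0,1),(1,1),(0,2),(0,2),(2,2),(1,1),(0,1),(0,2),(1,1),(0,1),(1,1),(4,2),(0,2),(0,2),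
    (0,2),(1,1),(0,2),(0,1),(0,2),(2,2),(1,1),(0,2),(0,2),(1,1),(0,1),(3,1),(0,1),(0,2),(0,2),
    (1,2),(2,2),(0,2),(0,1),(0,1),(0,2),(0,2),(0,1),(1,1),(1,2),(0,1),(1,1),(0,1),(0,1),(1,2),
    (0,1),(0,1),(1,1),(0,1),(1,2),(0,2),(0,1),(0,1),(1,1),(0,2),(2,1),(0,2),(0,2),(0,2),(0,2),
    (0,1),(0,1),(0,2),(0,2),(2,1),(0,1),(1,1),(0,2),(0,1),(0,1),(0,1),(0,2),(0,2),(0,2),(2,1),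
    (0,2),(0,1),(0,1),(1,2),(0,1),(0,2),(1,1),(3,2),(0,2),(0,2),(0,1),(1,1)],
   [(0,2),(3,2),(0,2),(0,2),(0,1),(2,2),(0,1),(0,1),(0,2),(0,2),(1,1),(1,1),(0,2),(2,2),(1,2),
    (0,1),(1,1),(0,2),(0,2),(1,2),(0,2),(2,2),(3,1),(1,2),(0,1),(0,1),(0,1),(0,2),(0,2),(0,1),
    (2,2),(1,1),(1,2),(0,1),(0,1),(0,1),(0,1),(0,2),(0,1),(0,1),(0,1),(0,1),(2,2),(1,2),(0,2),
    (0,2),(0,2),(0,2),(1,1),(1,1),(0,2),(2,2),(2,1),(0,2),(1,1),(0,2),(0,2),(1,2),(1,1),(1,1),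
    (1,2),(0,2),(0,1),(1,2),(0,2),(0,1),(0,1),(0,1),(0,2),(0,1),(0,1),(1,1),(0,1),(3,1),(0,1),
    (0,1),(0,2),(1,2)],
   [(120,1),(0,2),(1,2),(1,2),(0,1),(1,1),(0,2),(1,2),(0,1),(0,2),(0,2),(1,2),(1,2),(1,1),(2,2),
    (0,2),(0,2),(0,1),(0,1),(1,2),(0,1),(0,2),(3,2),(0,1),(1,2),(2,2),(1,2),(0,1),(0,1),(2,1),
    (0,2),(0,1),(0,2),(0,2),(2,2),(1,2),(1,2),(0,1),(0,1),(0,2),(0,1),(0,2),(0,2),(0,1),(0,1),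
    (0,2),(0,1),(1,1),(1,1),(1,1),(0,2),(0,1),(0,1),(0,1),(0,2),(1,2),(0,2),(0,1),(1,1),(0,1),
    (0,1),(1,2),(0,1),(0,1),(0,1),(0,1),(1,2),(1,1),(0,2),(0,2),(0,1),(0,2),(0,1),(0,1),(1,2),
    (0,2),(1,1),(0,2),(1,2),(1,1),(0,2),(1,1),(0,1),(1,2),(0,2),(1,1),(0,1),(0,1),(0,1),(0,1)],
   [(122,1),(1,2),(0,2),(1,1),(0,2),(1,1),(1,1),(0,1),(0,1),(1,2),(1,2),(1,2),(0,1),(0,1),(0,2),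
    (1,2),(1,1),(0,1),(0,2),(1,2),(0,1),(0,2),(1,2),(0,1),(0,2),(0,1),(1,2),(1,1),(0,2),(1,2),
    (1,1),(0,1),(0,1),(0,1),(0,2),(0,1),(0,2),(2,1),(0,1),(1,1),(0,1),(1,2),(1,1),(0,1),(0,1),
    (0,2),(0,2),(0,2),(3,1),(0,1),(0,2),(0,2),(1,2),(0,1),(1,1),(0,2),(0,2),(0,1),(1,2),(2,1),
    (0,1),(0,2),(0,2),(0,2),(2,2),(0,1),(3,2),(0,1),(0,2),(0,2),(0,1),(0,1),(0,2),(0,2),(2,1),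
    (1,1),(0,1),(0,1),(1,1),(0,2),(0,2),(1,2),(0,2),(0,2),(1,2),(0,2),(0,1)],
   [(120,2),(0,1),(6,1),(2,2),(1,2),(0,2),(0,1),(0,2),(0,2),(0,2),(0,2),(1,1),(1,1),(0,2),(0,1),
    (0,2),(0,2),(1,2),(3,1),(0,2),(0,2),(0,1),(0,2),(0,1),(0,2),(1,1),(0,1),(0,2),(0,1),(1,1),
    (0,2),(2,1),(1,1),(0,2),(0,2),(0,1),(0,2),(0,1),(1,2),(0,1),(0,1),(0,1),(0,2),(0,1),(0,1),
    (0,1),(0,2),(0,2),(0,1),(2,1),(0,2),(1,1),(0,1),(0,2),(0,1),(0,1),(0,2),(0,1),(0,2),(0,2),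
    (0,1),(0,1),(0,2),(1,2),(1,2),(2,2),(2,1),(0,2),(0,2),(0,1),(1,2),(2,2),(0,2),(0,2),(0,2),
    (0,1),(1,1),(2,2),(0,2),(1,1),(0,2),(1,1),(0,2),(1,2),(0,2),(2,2),(0,2)],
   [(121,2),(0,1),(0,2),(0,1),(0,1),(0,1),(1,2),(0,1),(0,2),(0,1),(0,2),(0,2),(0,1),(0,1),(0,1),
    (0,1),(0,1),(0,1),(1,2),(4,1),(1,2),(1,2),(2,1),(1,2),(0,1),(0,2),(0,2),(0,2),(3,2),(0,1),
    (0,1),(0,1),(0,2),(2,2),(0,1),(0,1),(0,2),(0,2),(2,1),(0,1),(1,2),(0,1),(0,1),(0,1),(1,2),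
    (0,2),(1,1),(1,2),(0,2),(0,1),(1,1),(0,1),(0,2),(1,1),(0,1),(0,1),(0,1),(0,2),(1,2),(1,2),
    (3,1),(2,2),(0,1),(0,2),(1,2),(3,2),(0,1),(0,2),(2,1),(0,1),(1,2),(0,2),(0,2),(0,2),(0,1),
    (1,1),(0,1),(0,2),(0,1),(1,1),(1,1),(1,2),(0,2),(0,2)],
   [(0,1),(2,1),(0,2),(0,2),(0,1),(0,2),(0,2),(0,2),(0,2),(1,2),(0,2),(0,2),(0,2),(0,2),(0,1),
    (2,1),(0,1),(0,2),(2,1),(0,2),(0,1),(0,1),(0,2),(1,1),(0,1),(0,1),(0,1),(0,2),(0,2),(0,2),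
    (1,1),(0,1),(0,2),(0,2),(1,1),(0,2),(3,1),(1,2),(0,1),(0,2),(1,1),(1,2),(0,2),(0,2),(0,2),
    (0,2),(0,1),(0,2),(0,2),(1,1),(0,1),(1,1),(3,2),(1,2),(1,1),(0,2),(1,1),(3,1),(2,1),(2,1),
    (0,1),(0,1),(0,2),(0,2),(0,1),(1,2),(1,1),(5,1),(0,2),(0,1),(0,1),(0,1),(2,2),(0,2),(0,2),
    (0,1),(0,2),(1,2)]]

/-- Rows of a matrix. -/
def matPInv29 : List (List (ℕ × ℕ)) :=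
  [[(1,1),(3,1),(4,1),(0,2),(1,1),(0,1),(0,1),(0,2),(1,1),(0,1),(0,2),(1,1),(0,1),(0,1),(0,1),
    (1,1),(0,1),(0,1),(0,2),(0,2),(1,1),(0,2),(1,1),(0,2),(3,2),(3,2),(1,1),(0,2),(0,1),(0,1),
    (0,2),(0,2),(0,2),(1,2),(3,2),(1,2),(2,2),(1,2),(2,2),(0,1),(1,1),(0,2),(0,1),(0,2),(1,1),
    (0,1),(0,1),(0,1),(2,1),(0,1),(1,1),(0,1),(0,1),(0,2),(0,1),(0,2),(0,1),(0,2),(3,1),(1,2),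
    (0,1),(1,2),(0,2),(1,1),(0,1),(2,2),(2,2),(2,2),(0,2),(0,1),(0,1),(0,1)],
   [(122,2),(1,1),(1,2),(1,1),(1,2),(0,2),(1,1),(1,1),(0,2),(1,2),(0,2),(0,1),(0,2),(2,2),(0,1),
    (0,2),(3,1),(0,2),(0,1),(0,1),(0,2),(1,1),(3,2),(0,2),(0,2),(1,1),(0,2),(0,2),(1,1),(0,1),
    (2,1),(0,2),(0,2),(0,2),(1,1),(2,2),(0,1),(0,1),(1,1),(0,1),(1,2),(1,1),(0,2),(0,1),(0,1),
    (1,1),(0,2),(0,2),(0,2),(0,1),(0,2),(2,2),(0,2),(1,2),(1,1),(0,1),(0,2),(1,2),(0,1),(1,1),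
    (0,1),(0,1),(0,1),(0,2),(0,2),(1,1),(0,2),(2,2),(0,1),(0,2),(0,2),(1,2),(0,1),(0,1),(1,1),
    (0,1),(2,2),(0,1),(0,2),(1,2),(3,1)],
   [(121,1),(0,1),(0,1),(0,1),(0,2),(1,1),(0,1),(0,2),(3,2),(0,1),(0,2),(0,1),(0,1),(0,1),(0,2),
    (0,1),(0,2),(0,2),(0,1),(2,1),(0,2),(1,2),(1,1),(1,2),(0,2),(0,1),(1,1),(0,1),(0,1),(0,1),
    (1,1),(0,2),(1,1),(0,1),(1,1),(0,2),(1,2),(1,2),(1,1),(0,1),(0,1),(0,1),(0,1),(0,1),(1,1),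
    (0,2),(3,2),(1,1),(2,2),(2,1),(0,2),(1,1),(3,2),(0,1),(0,1),(1,2),(0,1),(0,2),(0,1),(1,2),
    (0,2),(0,1),(0,1),(0,2),(1,1),(0,2),(1,1),(1,2),(0,2),(0,1),(0,1),(4,2),(0,2),(0,1),(2,2),
    (0,2),(1,1),(3,2),(1,1),(1,2),(0,1)],
   [(122,1),(0,1),(1,1),(0,2),(1,1),(1,2),(1,1),(0,2),(1,1),(0,2),(0,2),(0,1),(0,1),(1,1),(0,2),
    (0,2),(0,1),(0,2),(0,2),(2,2),(1,1),(0,2),(0,2),(1,1),(1,2),(3,2),(0,2),(0,1),(4,2),(1,1),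
    (0,1),(2,1),(0,1),(4,2),(1,2),(0,2),(0,1),(1,1),(1,2),(0,1),(0,2),(2,2),(2,2),(0,2),(5,2),
    (0,2),(0,1),(0,1),(0,1),(0,2),(1,2),(0,1),(0,1),(2,1),(1,1),(2,2),(0,1),(0,2),(0,1),(0,2),
    (0,2),(0,1),(0,2),(1,1),(0,2),(1,1),(0,1),(2,1),(0,2),(1,2),(1,2),(1,1),(0,1),(0,1),(0,1)],
   [(120,1),(0,2),(0,2),(3,1),(0,2),(1,1),(0,1),(1,2),(0,1),(0,2),(0,1),(1,2),(0,1),(0,2),(0,2),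
    (0,2),(0,2),(0,1),(0,2),(1,2),(0,1),(0,1),(2,1),(1,1),(0,2),(0,1),(1,1),(0,2),(0,2),(0,2),
    (0,2),(0,1),(0,1),(0,2),(0,2),(1,2),(1,2),(0,2),(2,2),(0,2),(0,2),(1,1),(0,1),(0,2),(0,1),
    (0,2),(1,2),(1,1),(0,1),(1,2),(0,1),(1,2),(0,1),(1,2),(0,1),(0,1),(0,2),(3,2),(0,2),(0,2),
    (2,2),(3,2),(0,1),(1,1),(0,2),(3,2),(0,1),(0,1),(0,1),(1,2),(0,2),(0,2),(1,1),(0,1),(0,1),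
    (0,1),(0,1),(1,2),(0,1),(0,1),(2,2),(1,2),(0,1),(0,1),(0,1),(1,2),(1,1)],
   [(120,2),(2,1),(0,1),(1,2),(2,2),(1,2),(0,1),(2,2),(0,1),(1,1),(0,1),(0,2),(0,1),(1,2),(0,2),
    (0,1),(1,1),(0,1),(0,2),(0,2),(1,1),(0,2),(0,2),(1,1),(0,1),(0,1),(0,1),(0,1),(0,1),(0,2),
    (0,2),(2,2),(1,2),(0,1),(0,1),(0,1),(1,1),(0,1),(0,1),(0,2),(0,2),(0,1),(1,1),(0,2),(0,2),
    (0,1),(1,2),(0,2),(0,1),(2,2),(0,2),(0,1),(0,2),(1,2),(2,2),(1,2),(0,1),(0,1),(0,2),(0,2),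
    (0,2),(1,2),(1,2),(0,1),(1,2),(3,2),(0,2),(0,2),(1,2),(0,2),(0,1),(0,1),(0,1),(0,2),(0,2),
    (0,1),(0,2),(2,2),(2,2),(0,2),(0,1),(0,1),(2,2),(1,2),(0,1),(0,1),(0,2)],
   [(3,2),(0,2),(0,1),(1,2),(0,2),(1,2),(2,2),(0,2),(0,1),(1,2),(0,1),(0,2),(1,1),(1,2),(0,1),
    (1,1),(0,1),(1,2),(0,2),(1,2),(0,2),(1,1),(0,2),(1,1),(0,1),(2,2),(0,2),(1,2),(0,1),(2,1),
    (0,1),(1,2),(0,2),(0,2),(0,1),(0,1),(0,2),(0,1),(0,1),(1,1),(1,1),(0,1),(0,2),(3,1),(0,1),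
    (0,1),(0,1),(0,1),(0,2),(0,1),(0,1),(0,1),(0,1),(0,1),(0,1),(0,2),(0,1),(1,1),(0,2),(1,2),
    (0,2),(0,2),(0,2),(0,1),(0,2),(0,1),(1,1),(1,1),(0,2),(0,2),(1,1),(0,1),(2,1),(0,1),(0,1),
    (2,1),(0,2),(0,2),(1,2),(0,1),(0,2),(0,2),(0,2),(0,1)],
   [(0,1),(0,1),(0,2),(0,2),(0,2),(2,2),(0,2),(1,1),(0,2),(1,1),(0,2),(0,1),(0,1),(0,2),(0,2),
    (2,1),(1,2),(0,2),(0,1),(0,2),(1,2),(0,1),(0,1),(0,1),(0,1),(0,1),(1,2),(0,1),(0,2),(1,2),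
    (0,2),(0,1),(0,1),(0,1),(0,2),(0,2),(0,2),(0,1),(1,1),(0,1),(0,1),(0,2),(0,1),(1,1),(0,1),
    (1,1),(0,2),(2,1),(0,1),(2,1),(0,2),(0,1),(0,1),(0,1),(0,2),(0,1),(0,1),(0,2),(0,2),(0,1),
    (0,1),(0,2),(2,1),(0,2),(0,2),(0,2),(0,2),(0,2),(0,2),(0,2),(0,1),(1,2),(0,2),(0,1),(0,1),
    (0,1),(6,1),(1,2),(0,2),(0,2),(0,2),(2,2),(0,2),(0,2),(1,2),(0,2),(3,2)]]

/-- Rows of a matrix. -/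
def matPInv30 : List (List (ℕ × ℕ)) :=
  [[(1,2),(1,1),(1,1),(0,2),(1,2),(0,2),(0,1),(0,1),(0,1),(0,2),(0,2),(0,1),(0,1),(0,1),(0,1),
    (1,2),(1,1),(0,1),(1,2),(0,2),(1,2),(0,2),(0,1),(0,1),(0,1),(0,2),(0,1),(0,1),(0,2),(0,1),
    (1,2),(0,1),(0,2),(1,2),(3,2),(0,1),(0,1),(0,2),(2,2),(1,1),(1,1),(0,1),(0,2),(0,1),(0,1),
    (0,2),(1,1),(0,2),(0,1),(0,2),(1,2),(0,2),(1,1),(0,1),(1,2),(1,2),(0,2),(1,2),(0,1),(0,1),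
    (0,2),(0,1),(0,1),(0,2),(0,1),(0,2),(3,2),(0,2),(1,2),(1,1),(1,1),(0,1),(2,2),(0,1),(1,2),
    (0,2),(0,2),(0,2),(2,1),(0,1),(0,1),(1,1),(0,2),(1,2)],
   [(122,2),(0,2),(1,2),(0,2),(1,2),(0,2),(0,2),(0,2),(0,1),(1,2),(0,2),(0,2),(0,2),(2,2),(0,1),
    (3,1),(0,1),(0,1),(2,2),(0,2),(0,2),(0,1),(1,1),(0,2),(0,2),(0,2),(1,1),(0,2),(2,2),(0,1),
    (0,1),(0,2),(0,2),(0,2),(0,2),(0,1),(0,2),(0,2),(0,1),(0,1),(0,2),(0,1),(0,1),(2,1),(0,1),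
    (1,2),(0,2),(0,1),(0,1),(2,2),(0,1),(2,1),(0,1),(0,1),(1,1),(0,2),(0,2),(1,2),(0,2),(0,1),
    (2,1),(0,1),(0,2),(1,1),(0,1),(0,2),(0,2),(0,2),(0,1),(1,1),(1,2),(3,2),(1,1),(0,1),(0,2),
    (0,1),(2,2),(1,1),(0,2),(0,1),(0,2),(0,1),(0,2),(2,1),(0,1),(0,1),(1,1)],
   [(120,1),(1,1),(0,1),(0,1),(1,1),(2,1),(0,1),(0,2),(1,2),(0,2),(5,2),(0,1),(0,2),(1,2),(0,2),
    (2,2),(0,2),(1,2),(0,2),(0,2),(0,1),(2,1),(2,1),(1,1),(1,1),(0,1),(0,2),(0,2),(0,1),(1,1),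
    (1,1),(1,2),(0,1),(1,1),(0,2),(0,2),(0,2),(0,1),(0,1),(2,1),(1,2),(0,2),(0,1),(0,2),(0,1),
    (1,2),(1,2),(0,1),(1,1),(1,2),(0,1),(1,1),(0,2),(1,2),(0,2),(0,2),(2,1),(0,1),(0,2),(1,1),
    (0,2),(0,1),(0,1),(0,1),(1,1),(0,2),(0,2),(1,1),(3,1),(0,1),(3,1),(1,1),(0,1),(1,2),(0,1),
    (1,2),(0,2),(0,2),(0,2),(0,2),(0,1)],
   [(121,1),(3,1),(0,2),(0,2),(1,2),(2,2),(0,2),(0,2),(1,1),(1,1),(0,1),(0,1),(0,2),(1,1),(1,2),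
    (0,1),(0,1),(0,1),(0,2),(0,1),(0,1),(1,2),(0,2),(2,1),(0,1),(0,2),(0,1),(0,2),(0,2),(1,2),
    (0,1),(1,1),(1,1),(3,2),(0,1),(0,1),(3,2),(0,1),(0,2),(2,1),(0,1),(4,1),(0,2),(0,2),(1,1),
    (0,1),(1,2),(0,1),(0,1),(0,1),(0,1),(0,1),(0,2),(1,2),(0,2),(0,2),(0,2),(0,1),(0,1),(0,2),
    (0,2),(0,1),(0,1),(1,2),(1,1),(0,1),(0,2),(0,2),(1,2),(4,1),(1,1),(1,2),(1,1),(0,1),(0,2),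
    (1,2),(0,2),(0,1),(2,2),(2,1),(0,2)],
   [(1,2),(1,1),(0,2),(0,2),(0,1),(0,1),(1,1),(1,1),(0,1),(1,2),(0,2),(2,1),(0,1),(0,2),(1,1),
    (0,2),(0,1),(0,2),(0,2),(0,2),(0,2),(0,2),(2,1),(0,2),(0,2),(0,2),(0,2),(0,1),(2,2),(0,2),
    (0,2),(0,1),(0,2),(0,2),(0,1),(0,2),(0,2),(2,1),(0,2),(0,2),(2,2),(3,1),(0,1),(0,2),(1,1),
    (0,1),(0,1),(1,1),(0,2),(0,2),(0,2),(1,2),(1,2),(0,1),(0,1),(0,1),(0,2),(0,2),(0,2),(0,1),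
    (0,1),(3,2),(2,1),(1,2),(0,2),(0,1),(1,2),(0,2),(1,2),(0,2),(0,1),(1,1),(0,2),(1,2),(0,2),
    (0,1),(1,1),(0,1),(1,1),(4,2),(0,2)],
   [(0,2),(0,2),(0,2),(0,2),(0,1),(1,2),(0,1),(0,1),(0,1),(3,1),(0,1),(4,1),(0,1),(0,2),(0,1),
    (1,2),(2,2),(0,1),(1,2),(0,2),(0,2),(3,2),(0,2),(0,2),(0,2),(0,2),(0,2),(0,1),(1,2),(0,1),
    (0,1),(0,2),(0,1),(0,2),(0,2),(0,2),(0,1),(0,1),(1,1),(1,1),(0,2),(0,2),(1,2),(0,2),(1,1),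
    (1,1),(0,2),(1,1),(0,2),(1,1),(2,1),(1,2),(0,1),(1,1),(1,2),(0,2),(0,2),(2,1),(1,2),(0,1),
    (2,1),(0,1),(0,2),(3,2),(2,2),(0,2),(1,1),(0,1),(0,2),(0,2),(0,2),(0,1),(1,1),(0,2),(0,2),
    (2,2),(0,2),(0,1)],
   [(0,1),(0,1),(0,1),(0,2),(0,2),(0,1),(2,1),(0,1),(1,1),(2,1),(1,2),(2,2),(1,2),(0,2),(0,1),
    (0,2),(3,2),(1,2),(0,2),(2,1),(1,1),(0,1),(1,1),(1,1),(0,2),(0,2),(2,1),(1,2),(1,2),(2,2),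
    (0,1),(0,1),(0,2),(0,2),(0,2),(0,1),(0,1),(1,1),(3,2),(0,1),(0,1),(0,2),(1,1),(0,2),(2,2),
    (1,1),(0,2),(0,1),(0,2),(0,1),(2,1),(1,2),(0,1),(1,1),(0,1),(1,2),(2,1),(0,1),(1,2),(0,1),
    (0,2),(1,1),(0,1),(0,2),(0,2),(0,1),(0,2),(1,1),(0,2),(0,1),(1,1),(2,2),(0,2),(0,2),(0,2)],
   [(0,1),(0,1),(0,2),(1,2),(0,2),(1,2),(1,1),(0,1),(1,1),(0,2),(0,1),(2,1),(1,1),(0,1),(1,2),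
    (2,2),(1,1),(1,1),(0,1),(0,2),(1,2),(1,2),(0,1),(2,2),(1,2),(0,2),(0,2),(0,2),(2,2),(1,1),
    (0,2),(0,2),(1,1),(0,2),(2,1),(0,2),(0,1),(0,1),(0,1),(0,2),(0,1),(0,1),(0,2),(1,2),(1,1),
    (0,1),(0,2),(0,2),(0,2),(0,1),(0,1),(0,2),(0,1),(0,2),(0,2),(0,1),(3,1),(3,2),(0,2),(0,2),
    (2,2),(0,2),(0,2),(1,1),(0,1),(0,1),(0,1),(0,2),(0,1),(0,1),(0,1),(0,1),(1,1),(0,2),(3,2),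
    (4,2),(0,2),(0,2)]]

/-- The matrix. -/
def matPInv : List (List (ℕ × ℕ)) :=
  matPInv0 ++ matPInv1 ++ matPInv2 ++ matPInv3 ++ matPInv4 ++ matPInv5 ++
  matPInv6 ++ matPInv7 ++ matPInv8 ++ matPInv9 ++ matPInv10 ++ matPInv11 ++
  matPInv12 ++ matPInv13 ++ matPInv14 ++ matPInv15 ++ matPInv16 ++ matPInv17 ++
  matPInv18 ++ matPInv19 ++ matPInv20 ++ matPInv21 ++ matPInv22 ++ matPInv23 ++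
  matPInv24 ++ matPInv25 ++ matPInv26 ++ matPInv27 ++ matPInv28 ++ matPInv29 ++
  matPInv30

end CfsgLib.ThE8
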