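import Cfsg.Agent.Lib.ThRep.Rep
import Cfsg.Agent.Lib.ThE8.Check
import Cfsg.Agent.Lib.ThE8.PData
import Cfsg.Agent.Lib.ThE8.PInvData

/-!
# The matrices with the change of coordinates adjoined
-/

set_option autoImplicit false
set_option maxRecDepth 100000
set_option maxHeartbeats 1000000

namespace CfsgLib.ThE8

open CfsgLib.ThRep CfsgLib.ThRep.ModThree

/-- The generators, the change of coordinates and its inverse. -/
def allGens : List (List (List (ℕ × ℕ))) := matGens ++ [matP, matPInv]

theorem allGens_ok : ((List.range 18).all fun g => okGen 248 (allGens.getD g [])) = true := by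
  decide +kernel

theorem p_inv_ok : (beqL (evalP 248 allGens [16, 17]) (idP 248) &&
    beqL (evalP 248 allGens [17, 16]) (idP 248)) = true := by
  decide +kernel

end CfsgLib.ThE8
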