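import Cfsg.Agent.Lib.ThE8.ChkU
import Cfsg.Agent.Lib.ThIndex.Simple

/-!
# The presented Thompson group inside the adjoint group of type E8 over three elements
-/

set_option autoImplicit false
set_option maxRecDepth 20000

namespace CfsgLib.ThE8

open Cfsg.Spor CfsgLib.ThRep CfsgLib.ThRep.ModThree

attribute [local irreducible] allGens matGens evalP evalT mulP lm matP matPInv toBig toIdx genMat wordGL

theorem allGens_okGen {g : ℕ} (hg : g < 18) : okGen 248 (allGens.getD g []) = true :=
  List.all_eq_true.1 allGens_ok g (List.mem_range.2 hg)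

/-- The change of coordinates. -/
noncomputable def pU : GL (Fin 248) (ZMod 3) where
  val := genMat 248 (allGens.getD 16 [])
  inv := genMat 248 (allGens.getD 17 [])
  val_inv := by
    have h := p_inv_ok
    simp only [Bool.and_eq_true] at h
    simpa using prod_eq_one (w := [16, 17]) mat_hid (fun g hg => allGens_okGen (by simp at hg; omega)) h.1
  inv_val := by
    have h := p_inv_ok
    simp only [Bool.and_eq_true] at h
    simpa using prod_eq_one (w := [17, 16]) mat_hid (fun g hg => allGens_okGen (by simp at hg; omega)) h.2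

/-- The change of coordinates as a homomorphism between the two general linear groups. -/
noncomputable def coords : GL Cfsg.Lie.chevE8.Idx (ZMod 3) ≃* GL (Fin 248) (ZMod 3) :=
  (Units.mapEquiv (AlgEquiv.toRingEquiv toBig).toMulEquiv).trans (MulAut.conj (G := GL (Fin 248) (ZMod 3)) pU)

theorem allGens_lt {g : ℕ} (hg : g < 16) : allGens.getD g [] = matGens.getD g [] := by
  have hl : matGens.length = 16 := by unfold matGens; rfl
  unfold allGens
  exact List.getD_append _ _ _ _ (by omega)

theorem pU_coe : ((pU : GL (Fin 248) (ZMod 3)) : Matrix (Fin 248) (Fin 248) (ZMod 3)) =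
    genMat 248 (allGens.getD 16 []) := by
  unfold pU
  rfl

theorem mapBig_coe (u : GL Cfsg.Lie.chevE8.Idx (ZMod 3)) :
    ((Units.mapEquiv (AlgEquiv.toRingEquiv toBig).toMulEquiv u : GL (Fin 248) (ZMod 3)) :
      Matrix (Fin 248) (Fin 248) (ZMod 3)) = toBig (u : Matrix Cfsg.Lie.chevE8.Idx Cfsg.Lie.chevE8.Idx (ZMod 3)) :=
  rfl

unseal lm in
theorem lu_coe (x : Th.Gen) : ((lu x : GL (Fin 248) (ZMod 3)) : Matrix (Fin 248) (Fin 248) (ZMod 3)) =
    genMat 248 (matGens.getD (genLetter x) []) := rfl

theorem coords_word {w : List (ℕ × ℕ)} (hw : (w.all okLet) = true) {x : Th.Gen}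
    (h : beqL (evalP 248 allGens [genLetter x, 16])
      (mulP 248 (allGens.getD 16 []) ((evalT (mask 248) w).toList 248)) = true) :
    lu x = coords (wordGL w) := by
  have hx : genLetter x < 16 := by cases x <;> decide
  have e := word_eq mat_hid (allGens_okGen (by omega)) (allGens_okGen (by norm_num)) hw h
  rw [allGens_lt hx] at e
  have hl : ((lu x : GL (Fin 248) (ZMod 3)) : Matrix (Fin 248) (Fin 248) (ZMod 3)) =
      genMat 248 (matGens.getD (genLetter x) []) := lu_coe x
  have hP : ((pU : GL (Fin 248) (ZMod 3)) : Matrix (Fin 248) (Fin 248) (ZMod 3)) =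
      genMat 248 (allGens.getD 16 []) := pU_coe
  have e' : lu x * pU = pU * Units.mapEquiv (AlgEquiv.toRingEquiv toBig).toMulEquiv (wordGL w) := by
    apply Units.ext
    rw [Units.val_mul, Units.val_mul, mapBig_coe, hl, hP]
    exact e
  show lu x = pU * Units.mapEquiv (AlgEquiv.toRingEquiv toBig).toMulEquiv (wordGL w) * pU⁻¹
  rw [← e', mul_inv_cancel_right]

theorem gen_word (x : Th.Gen) : ∃ w, (w.all okLet) = true ∧ lu x = coords (wordGL w) := by
  cases x
  · exact ⟨_, wordA_ok, coords_word wordA_ok wordA_eq⟩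
  · exact ⟨_, wordB_ok, coords_word wordB_ok wordB_eq⟩
  · exact ⟨_, wordC_ok, coords_word wordC_ok wordC_eq⟩
  · exact ⟨_, wordD_ok, coords_word wordD_ok wordD_eq⟩
  · exact ⟨_, wordE_ok, coords_word wordE_ok wordE_eq⟩
  · exact ⟨_, wordS_ok, coords_word wordS_ok wordS_eq⟩
  · exact ⟨_, wordT_ok, coords_word wordT_ok wordT_eq⟩
  · exact ⟨_, wordU_ok, coords_word wordU_ok wordU_eq⟩

theorem rho_mem (g : Th) : coords.symm (rho g) ∈ Cfsg.Lie.chevE8.group (ZMod 3) := by
  have hg : g ∈ Subgroup.closure (Set.range (PresentedGroup.of (rels := thRels))) := by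
    rw [PresentedGroup.closure_range_of]; exact Subgroup.mem_top g
  induction hg using Subgroup.closure_induction with
  | mem y hy =>
    obtain ⟨x, rfl⟩ := hy
    obtain ⟨w, hw, e⟩ := gen_word x
    rw [rho_of, e, MulEquiv.symm_apply_apply]
    exact wordGL_mem hw
  | one => rw [map_one, map_one]; exact Subgroup.one_mem _
  | mul a b _ _ ha hb => rw [map_mul, map_mul]; exact Subgroup.mul_mem _ ha hb
  | inv a _ ha => rw [map_inv, map_inv]; exact Subgroup.inv_mem _ ha

/-- The presented Thompson group embeds in the adjoint group of type E8 over three elements. -/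
theorem exists_hom : ∃ f : Th →* Cfsg.Lie.chevE8.group (ZMod 3), Function.Injective f := by
  refine ⟨(coords.symm.toMonoidHom.comp rho).codRestrict _ rho_mem, fun a b h => ?_⟩
  exact CfsgLib.ThIndex.rho_injective (coords.symm.injective (congrArg Subtype.val h))

/-- A group isomorphic to the Thompson group embeds in the adjoint group of type E8 over a field with
three elements. -/
theorem exists_of_iso {G : Type*} [Group G] (h : IsoTh G) :
    ∃ (K : Type) (_ : Field K) (_ : Fintype K), Fintype.card K = 3 ∧
      ∃ f : G →* Cfsg.Lie.chevE8.group K, Function.Injective f := by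
  obtain ⟨e⟩ := h
  obtain ⟨f, hf⟩ := exists_hom
  exact ⟨ZMod 3, inferInstance, inferInstance, ZMod.card 3, f.comp e.toMonoidHom, hf.comp e.injective⟩

end CfsgLib.ThE8
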